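import Mathlib
import Cfsg.Agent.L0.Core
import Cfsg.Agent.H2.Basic

/-! Fixed-point-free automorphisms (helper2). -/

set_option autoImplicit false

namespace Cfsg.Agent.H2

open Subgroup
open scoped commutatorElement

/-- `σ` fixes only the identity. -/
def Fpf {G : Type*} [Group G] (σ : G →* G) : Prop := ∀ g : G, σ g = g → g = 1

theorem Fpf.injective {G : Type*} [Group G] {σ : G →* G} (h : Fpf σ) :
    Function.Injective (fun g : G => g⁻¹ * σ g) := by
  intro x y hxy
  simp only at hxy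
  have h1 : σ (x * y⁻¹) = x * y⁻¹ := by
    rw [map_mul, map_inv]
    have h2 : σ x = x * (y⁻¹ * σ y) := by rw [← hxy]; group
    rw [h2]; group
  have := h _ h1
  exact mul_inv_eq_one.1 this

theorem Fpf.bijective {G : Type*} [Group G] [Finite G] {σ : G →* G} (h : Fpf σ) :
    Function.Bijective (fun g : G => g⁻¹ * σ g) :=
  Finite.injective_iff_bijective.1 h.injective

theorem Fpf.exists_eq {G : Type*} [Group G] [Finite G] {σ : G →* G} (h : Fpf σ) (g : G) :
    ∃ z, z⁻¹ * σ z = g := h.bijective.2 g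

/-- fixed-point-freeness passes to surjective images -/
theorem Fpf.of_surjective {G H : Type*} [Group G] [Finite G] [Group H] {σ : G →* G} {τ : H →* H} (h : Fpf σ)
    (f : G →* H) (hf : Function.Surjective f) (hc : ∀ g, f (σ g) = τ (f g)) : Fpf τ := by
  intro y hy
  obtain ⟨g, rfl⟩ := hf y
  have hK : ∀ x ∈ f.ker, σ x ∈ f.ker := by
    intro x hx
    rw [MonoidHom.mem_ker] at hx ⊢
    rw [hc, hx, map_one]
  let σK : f.ker →* f.ker := σ.restrict (fun x hx => hK x hx)
  have hσK : Fpf σK := by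
    intro x hx
    exact Subtype.ext (h x (congrArg Subtype.val hx))
  have h1 : g⁻¹ * σ g ∈ f.ker := by
    rw [MonoidHom.mem_ker, map_mul, map_inv, hc, hy]; simp
  obtain ⟨z, hz⟩ := hσK.exists_eq ⟨_, h1⟩
  have hz' : (z : G)⁻¹ * σ z = g⁻¹ * σ g := congrArg Subtype.val hz
  have := h.injective hz'
  rw [← this]
  exact MonoidHom.mem_ker.1 z.2

theorem Fpf.eq_inv {G : Type*} [Group G] [Finite G] {σ : G →* G} (h : Fpf σ) (h2 : ∀ g, σ (σ g) = g) (g : G) :
    σ g = g⁻¹ := by
  obtain ⟨z, rfl⟩ := h.exists_eq g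
  rw [map_mul, map_inv, h2]
  group

theorem Fpf.comm_of_sq {G : Type*} [Group G] [Finite G] {σ : G →* G} (h : Fpf σ) (h2 : ∀ g, σ (σ g) = g) (a b : G) :
    a * b = b * a := by
  have h1 : σ (a⁻¹ * b⁻¹) = σ a⁻¹ * σ b⁻¹ := map_mul _ _ _
  rw [h.eq_inv h2, h.eq_inv h2, h.eq_inv h2] at h1
  simp only [mul_inv_rev, inv_inv] at h1
  exact h1.symm

/-- powers by a number coprime to the group order are injective (commutative case) -/
theorem pow_eq_one_of_coprime {V : Type*} [Group V] {n : ℕ} (hn : (Nat.card V).Coprime n) {v : V}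
    (h : v ^ n = 1) : v = 1 := by
  have h1 : orderOf v ∣ n := orderOf_dvd_of_pow_eq_one h
  have h2 : orderOf v ∣ Nat.card V := orderOf_dvd_natCard v
  have h3 := Nat.dvd_gcd h2 h1
  rw [hn] at h3
  exact orderOf_eq_one_iff.1 (Nat.dvd_one.1 h3)

theorem pow_left_inj_of_coprime {V : Type*} [CommGroup V] {n : ℕ} (hn : (Nat.card V).Coprime n) {v w : V}
    (h : v ^ n = w ^ n) : v = w := by
  have h1 : (v * w⁻¹) ^ n = 1 := by rw [mul_pow, inv_pow, h, mul_inv_cancel]
  exact mul_inv_eq_one.1 (pow_eq_one_of_coprime hn h1)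

section Order4

variable {Q V : Type*} [Group Q] [CommGroup V] [MulDistribMulAction Q V]

/-- the key averaging lemma: `Z` acts commutatively on `V` -/
theorem order4_central [Finite Q] {σ : Q →* Q} {s : V →* V}
    (hσ : Fpf σ) (h4 : ∀ x, σ (σ (σ (σ x))) = x) (hcomp : ∀ (x : Q) (v : V), s (x • v) = σ x • s v)
    (hN : ∀ v, v * s v * s (s v) * s (s (s v)) = 1)
    (Z : Subgroup Q) (hZ : ∀ z ∈ Z, σ z ∈ Z) (hZc : ∀ z ∈ Z, ∀ y ∈ Z, ∀ v : V, (z * y) • v = (y * z) • v)
    (hcop : (Nat.card V).Coprime (Nat.card Z)) :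
    (∀ z ∈ Z, ∀ v : V, (z⁻¹ * σ (σ z)) • v = v) ∧ (∀ z ∈ Z, ∀ v : V, z • (v * s (s v)) = v * s (s v)) := by
  classical
  have : Fintype Z := Fintype.ofFinite Z
  -- the bijections
  have hσ3 : Fpf (σ.comp (σ.comp σ)) := by
    intro x hx
    apply hσ
    have hx' : σ (σ (σ x)) = x := hx
    have := h4 x
    rw [hx'] at this
    exact this
  let Z1 : Z →* Z := σ.restrict (fun x hx => hZ x hx)
  have hZ1 : Fpf Z1 := fun x hx => Subtype.ext (hσ x (congrArg Subtype.val hx))
  have hZ3 : Fpf (Z1.comp (Z1.comp Z1)) := fun x hx => Subtype.ext (hσ3 x (congrArg Subtype.val hx))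
  set N : V → V := fun v => ∏ z : Z, (z : Q) • v with hNdef
  set M : V → V := fun v => ∏ z : Z, ((z : Q)⁻¹ * σ (σ z)) • v with hMdef
  have hN1 : ∀ v, ∏ z : Z, ((z : Q)⁻¹ * σ z) • v = N v := by
    intro v
    exact Function.Bijective.prod_comp hZ1.bijective (fun z : Z => (z : Q) • v)
  have hN3 : ∀ v, ∏ z : Z, ((z : Q)⁻¹ * σ (σ (σ z))) • v = N v := by
    intro v
    exact Function.Bijective.prod_comp hZ3.bijective (fun z : Z => (z : Q) • v)
  have hNfix : ∀ y ∈ Z, ∀ v, y • N v = N v := by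
    intro y hy v
    rw [hNdef]
    simp only
    rw [Finset.smul_prod']
    simp only [← mul_smul]
    exact Function.Bijective.prod_comp (Equiv.mulLeft (⟨y, hy⟩ : Z)).bijective (fun z : Z => (z : Q) • v)
  have hMfix : ∀ y ∈ Z, ∀ v, (y⁻¹ * σ (σ y)) • M v = M v := by
    intro y hy v
    rw [hMdef]
    simp only
    rw [Finset.smul_prod']
    have h1 : ∀ z : Z, (y⁻¹ * σ (σ y)) • ((z : Q)⁻¹ * σ (σ z)) • v
        = (((⟨y, hy⟩ * z : Z) : Q)⁻¹ * σ (σ ((⟨y, hy⟩ * z : Z) : Q))) • v := by
      intro z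
      have e0 : σ (σ y) ∈ Z := hZ _ (hZ _ hy)
      have e1 : σ (σ (z : Q)) ∈ Z := hZ _ (hZ _ z.2)
      have h2 : (((⟨y, hy⟩ * z : Z) : Q)⁻¹ * σ (σ ((⟨y, hy⟩ * z : Z) : Q)))
          = (z : Q)⁻¹ * ((y⁻¹ * σ (σ y)) * σ (σ (z : Q))) := by
        simp only [Subgroup.coe_mul, mul_inv_rev, map_mul]
        group
      have hc : ∀ a ∈ Z, ∀ b ∈ Z, ∀ v : V, a • b • v = b • a • v := by
        intro a ha b hb v
        rw [← mul_smul, hZc a ha b hb, mul_smul]
      rw [h2, mul_smul (z : Q)⁻¹ (y⁻¹ * σ (σ y) * σ (σ (z : Q))) v, mul_smul (y⁻¹ * σ (σ y)) (σ (σ (z : Q))) v,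
        mul_smul (z : Q)⁻¹ (σ (σ (z : Q))) v]
      exact hc _ (Z.mul_mem (Z.inv_mem hy) e0) _ (Z.inv_mem z.2) _
    rw [Finset.prod_congr rfl (fun z _ => h1 z)]
    exact Function.Bijective.prod_comp (Equiv.mulLeft (⟨y, hy⟩ : Z)).bijective
      (fun z : Z => ((z : Q)⁻¹ * σ (σ z)) • v)
  -- the main relation
  have hrel : ∀ v, v ^ Nat.card Z * N (s v) * M (s (s v)) * N (s (s (s v))) = 1 := by
    intro v
    rw [← hN1, ← hN3, hMdef]
    simp only
    rw [Nat.card_eq_fintype_card, ← Finset.card_univ, ← Finset.prod_const, ← Finset.prod_mul_distrib,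
      ← Finset.prod_mul_distrib, ← Finset.prod_mul_distrib]
    apply Finset.prod_eq_one
    intro z _
    have h1 := hN ((z : Q) • v)
    have h2 := congrArg (fun w => (z : Q)⁻¹ • w) h1
    simp only [hcomp, smul_mul', smul_one, ← mul_smul] at h2
    simpa using h2
  have hW : ∀ z ∈ Z, ∀ v : V, (z⁻¹ * σ (σ z)) • v = v := by
    intro y hy v
    have h1 := hrel v
    have hw : y⁻¹ * σ (σ y) ∈ Z := Z.mul_mem (Z.inv_mem hy) (hZ _ (hZ _ hy))
    have h2 := congrArg (fun w => (y⁻¹ * σ (σ y)) • w) h1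
    simp only [smul_mul', smul_one, hMfix y hy, hNfix _ hw] at h2
    have h3 : (y⁻¹ * σ (σ y)) • (v ^ Nat.card Z) = v ^ Nat.card Z := by
      have h4 := h2.trans h1.symm
      exact mul_right_cancel (mul_right_cancel (mul_right_cancel h4))
    rw [smul_pow'] at h3
    exact pow_left_inj_of_coprime hcop h3
  refine ⟨hW, ?_⟩
  intro y hy v
  have hMv : ∀ u, M u = u ^ Nat.card Z := by
    intro u
    rw [hMdef]
    simp only
    rw [Finset.prod_congr rfl (fun z _ => hW z.1 z.2 u), Finset.prod_const, Finset.card_univ,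
      Nat.card_eq_fintype_card]
  have h1 := hrel v
  rw [hMv] at h1
  have h2 : (v * s (s v)) ^ Nat.card Z * (N (s v) * N (s (s (s v)))) = 1 := by
    rw [mul_pow, ← h1]
    simp only [mul_assoc, mul_comm, mul_left_comm]
  have h3 := congrArg (fun w => y • w) h2
  simp only [smul_mul', smul_one, hNfix y hy] at h3
  have h4 := h3.trans h2.symm
  have h5 := mul_right_cancel h4
  rw [smul_pow'] at h5
  exact pow_left_inj_of_coprime hcop h5

end Order4

universe v

theorem order4_nilpotent {Q : Type*} [Group Q] [Finite Q] (hnil : Group.IsNilpotent Q) {σ : Q →* Q}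
    (hσ : Fpf σ) (h4 : ∀ x, σ (σ (σ (σ x))) = x) (n : ℕ) :
    ∀ (V : Type v) [CommGroup V] [Finite V] [MulDistribMulAction Q V] (s : V →* V)
      (_ : ∀ (x : Q) (v : V), s (x • v) = σ x • s v) (_ : ∀ v, v * s v * s (s v) * s (s (s v)) = 1)
      (_ : (Nat.card V).Coprime (Nat.card Q)), Nat.card V = n → ∀ (x : Q) (v : V), σ (σ x) • v = x • v := by
  classical
  induction n using Nat.strong_induction_on with
  | _ n ih =>
  intro V _ _ _ s hcomp hN hcop hn
  set K : Subgroup Q := (MulDistribMulAction.toMulAut Q V).ker with hK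
  have hKmem : ∀ x : Q, x ∈ K ↔ ∀ v : V, x • v = v := by
    intro x
    rw [hK, MonoidHom.mem_ker]
    constructor
    · intro h v
      exact congrArg (fun f : MulAut V => f v) h
    · intro h
      ext v
      exact h v
  by_cases hKtop : K = ⊤
  · intro x v
    have h1 : ∀ y : Q, y • v = v := fun y => (hKmem y).1 (by rw [hKtop]; trivial) v
    rw [h1, h1]
  have hnt : Nontrivial (Q ⧸ K) := by
    by_contra h
    rw [not_nontrivial_iff_subsingleton] at h
    exact hKtop (QuotientGroup.subgroup_eq_top_of_subsingleton K h)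
  have hnilq : Group.IsNilpotent (Q ⧸ K) := inferInstance
  have hcne : center (Q ⧸ K) ≠ ⊥ := Group.IsNilpotent.center_ne_bot _
  set Z : Subgroup Q := (center (Q ⧸ K)).comap (QuotientGroup.mk' K) with hZ
  have hZmem : ∀ z : Q, z ∈ Z ↔ ∀ y : Q, ∀ v : V, (z * y) • v = (y * z) • v := by
    intro z
    rw [hZ, mem_comap, mem_center_iff]
    constructor
    · intro h y v
      have h1 := h (QuotientGroup.mk' K y)
      rw [← map_mul, ← map_mul] at h1
      have h2 : (y * z)⁻¹ * (z * y) ∈ K := by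
        exact QuotientGroup.eq.1 h1
      have h3 := (hKmem _).1 h2 v
      rw [mul_smul, inv_smul_eq_iff] at h3
      exact h3
    · intro h y
      obtain ⟨y, rfl⟩ := QuotientGroup.mk'_surjective K y
      rw [← map_mul, ← map_mul]
      apply QuotientGroup.eq.2
      rw [hKmem]
      intro v
      rw [mul_smul, h, inv_smul_smul]
  have hZσ : ∀ z ∈ Z, σ z ∈ Z := by
    intro z hz
    rw [hZmem] at hz ⊢
    intro y v
    -- y = σ (σ^3 y), v = s (s^3 v)
    have hs4 : ∀ v : V, s (s (s (s v))) = v := by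
      intro v
      have e1 := hN v
      have e2 := congrArg s e1
      simp only [map_mul, map_one] at e2
      have e3 : (s v * s (s v) * s (s (s v))) * v = 1 := by
        rw [mul_comm, ← mul_assoc, ← mul_assoc]; exact e1
      exact (mul_left_cancel (e2.trans e3.symm))
    have h1 := hz (σ (σ (σ y))) (s (s (s v)))
    have h2 := congrArg s h1
    rw [hcomp, hcomp, hs4, map_mul, map_mul, h4] at h2
    exact h2
  have hZc : ∀ z ∈ Z, ∀ y ∈ Z, ∀ v : V, (z * y) • v = (y * z) • v := fun z hz y _ v => (hZmem z).1 hz y v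
  have hcopZ : (Nat.card V).Coprime (Nat.card Z) := hcop.coprime_dvd_right (Subgroup.card_subgroup_dvd_card Z)
  obtain ⟨hA, hB⟩ := order4_central hσ h4 hcomp hN Z hZσ hZc hcopZ
  have hσZ3 : ∀ z ∈ Z, σ (σ (σ z)) ∈ Z := fun z hz => hZσ _ (hZσ _ (hZσ _ hz))
  -- fixed points of Z
  let V1 : Subgroup V :=
    { carrier := {v | ∀ z ∈ Z, z • v = v}
      mul_mem' := by
        intro a b ha hb z hz
        rw [smul_mul', ha z hz, hb z hz]
      one_mem' := by intro z _; exact smul_one z
      inv_mem' := by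
        intro a ha z hz
        rw [smul_inv', ha z hz] }
  have hV1mem : ∀ v : V, v ∈ V1 ↔ ∀ z ∈ Z, z • v = v := fun v => Iff.rfl
  have hQV1 : ∀ (x : Q) (v : V), v ∈ V1 → x • v ∈ V1 := by
    intro x v hv
    rw [hV1mem] at hv ⊢
    intro z hz
    rw [← mul_smul, (hZmem z).1 hz x v, mul_smul, hv z hz]
  have hsV1 : ∀ v ∈ V1, s v ∈ V1 := by
    intro v hv
    rw [hV1mem] at hv ⊢
    intro z hz
    have h1 := congrArg s (hv _ (hσZ3 z hz))
    rw [hcomp, h4] at h1
    exact h1
  let act : MulDistribMulAction Q V1 :=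
    { smul := fun x v => ⟨x • (v : V), hQV1 x v v.2⟩
      one_smul := fun v => Subtype.ext (one_smul Q (v : V))
      mul_smul := fun x y v => Subtype.ext (mul_smul x y (v : V))
      smul_mul := fun x v w => Subtype.ext (smul_mul' x (v : V) (w : V))
      smul_one := fun x => Subtype.ext (smul_one x) }
  let s1 : V1 →* V1 := s.restrict (fun v hv => hsV1 v hv)
  have hlt : Nat.card V1 < n := by
    rw [← hn]
    have hne : V1 ≠ ⊤ := by
      intro htop
      apply hcne
      rw [eq_bot_iff]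
      intro w hw
      obtain ⟨z, rfl⟩ := QuotientGroup.mk'_surjective K w
      rw [mem_bot]
      apply (QuotientGroup.eq_one_iff z).2
      rw [hKmem]
      intro v
      have hv : v ∈ V1 := by rw [htop]; trivial
      exact hv z hw
    have h1 : Nat.card V1 ∣ Nat.card V := Subgroup.card_subgroup_dvd_card V1
    have h2 := Nat.le_of_dvd Nat.card_pos h1
    rcases h2.lt_or_eq with h | h
    · exact h
    · exact absurd (Subgroup.eq_top_of_card_eq V1 h) hne
  have hIH := ih _ hlt V1 s1 (fun x v => Subtype.ext (hcomp x v)) (fun v => Subtype.ext (hN v))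
    (hcop.coprime_dvd_left (Subgroup.card_subgroup_dvd_card V1)) rfl
  have hIH' : ∀ (x : Q), ∀ v ∈ V1, σ (σ x) • v = x • v := by
    intro x v hv
    exact congrArg Subtype.val (hIH x ⟨v, hv⟩)
  -- the norm
  have : Fintype Z := Fintype.ofFinite Z
  set N : V → V := fun v => ∏ z : Z, (z : Q) • v with hNdef
  have hNV1 : ∀ v, N v ∈ V1 := by
    intro v y hy
    rw [hNdef]
    simp only
    rw [Finset.smul_prod']
    simp only [← mul_smul]
    exact Function.Bijective.prod_comp (Equiv.mulLeft (⟨y, hy⟩ : Z)).bijective (fun z : Z => (z : Q) • v)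
  have hNonV1 : ∀ v ∈ V1, N v = v ^ Nat.card Z := by
    intro v hv
    rw [hNdef]
    simp only
    rw [Finset.prod_congr rfl (fun z _ => hv z.1 z.2), Finset.prod_const, Finset.card_univ,
      Nat.card_eq_fintype_card]
  have hNmul : ∀ a b, N (a * b) = N a * N b := by
    intro a b
    rw [hNdef]
    simp only [smul_mul', Finset.prod_mul_distrib]
  have hNpow : ∀ a (k : ℕ), N (a ^ k) = N a ^ k := by
    intro a k
    rw [hNdef]
    simp only [smul_pow', Finset.prod_pow]
  have hNinv : ∀ a, N a⁻¹ = (N a)⁻¹ := by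
    intro a
    rw [hNdef]
    simp only [smul_inv', Finset.prod_inv_distrib]
  have hNs : ∀ v, N (s v) = s (N v) := by
    intro v
    rw [hNdef]
    simp only
    rw [map_prod]
    simp only [hcomp]
    let Z1 : Z →* Z := σ.restrict (fun x hx => hZσ x hx)
    have hbij : Function.Bijective Z1 := by
      apply Finite.injective_iff_bijective.1
      intro a b hab
      have h1 := congrArg (fun z : Z => σ (σ (σ (z : Q)))) hab
      have h2 : σ (σ (σ (σ (a : Q)))) = σ (σ (σ (σ (b : Q)))) := h1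
      rw [h4, h4] at h2
      exact Subtype.ext h2
    exact (Function.Bijective.prod_comp hbij (fun z : Z => (z : Q) • s v)).symm
  have hkey : ∀ u, N u = 1 → s (s u) = u⁻¹ := by
    intro u hu
    have h1 : u * s (s u) ∈ V1 := fun z hz => hB z hz u
    have h2 := hNonV1 _ h1
    rw [hNmul, hNs, hNs, hu, map_one, map_one, mul_one] at h2
    have h3 := pow_eq_one_of_coprime hcopZ h2.symm
    exact eq_inv_of_mul_eq_one_right h3
  intro x v
  set u := v ^ Nat.card Z * (N v)⁻¹ with hu
  have hNu : N u = 1 := by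
    rw [hu, hNmul, hNpow, hNinv, hNonV1 _ (hNV1 v), mul_inv_cancel]
  have hNxu : N (x • u) = 1 := by
    have h1 : N (x • u) = x • N u := by
      rw [hNdef]
      simp only
      rw [Finset.smul_prod']
      apply Finset.prod_congr rfl
      intro z _
      rw [← mul_smul, ← mul_smul]
      exact (hZmem _).1 z.2 x u
    rw [h1, hNu, smul_one]
  have h1 := hkey _ hNxu
  rw [hcomp, hcomp, hkey u hNu, smul_inv'] at h1
  have h2 : σ (σ x) • u = x • u := inv_injective h1
  have h3 : σ (σ x) • v ^ Nat.card Z = x • v ^ Nat.card Z := by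
    have e : v ^ Nat.card Z = u * N v := by rw [hu]; simp
    calc σ (σ x) • v ^ Nat.card Z = σ (σ x) • (u * N v) := by rw [← e]
      _ = σ (σ x) • u * σ (σ x) • N v := smul_mul' _ _ _
      _ = x • u * x • N v := by rw [h2, hIH' x _ (hNV1 v)]
      _ = x • (u * N v) := (smul_mul' _ _ _).symm
      _ = x • v ^ Nat.card Z := by rw [← e]
  rw [smul_pow', smul_pow'] at h3
  exact pow_left_inj_of_coprime hcopZ h3

/-- In a finite solvable group the Fitting subgroup contains its centralizer. -/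
theorem centralizer_fitting_le {G : Type*} [Group G] [Finite G] (hs : Group.IsSolvable G) :
    centralizer (fittingSubgroup G : Set G) ≤ fittingSubgroup G := by
  classical
  set F := fittingSubgroup G with hF
  set C := centralizer (F : Set G) with hC
  have hFn : F.Normal := L0.fittingSubgroup_normal G
  have hCn : C.Normal := inferInstance
  by_contra hle
  set Cb := C.map (QuotientGroup.mk' F) with hCb
  have hCbn : Cb.Normal := hCn.map _ (QuotientGroup.mk'_surjective F)
  have hCbne : Cb ≠ ⊥ := by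
    intro h
    apply hle
    rw [hCb, Subgroup.map_eq_bot_iff, QuotientGroup.ker_mk'] at h
    exact h
  have hCbs : Group.IsSolvable Cb := inferInstance
  obtain ⟨p, W, hp, hWn, hWle, hWne, hWc, -⟩ := exists_elemAb_normal Cb hCbne hCbs
  set L := W.comap (QuotientGroup.mk' F) ⊓ C with hL
  have hLn : L.Normal := inferInstance
  have hLL : ⁅L, L⁆ ≤ F := by
    rw [commutator_le]
    intro a ha b hb
    have h1 := hWc _ ha.1 _ hb.1
    rw [← QuotientGroup.eq_one_iff]
    have : (QuotientGroup.mk' F) ⁅a, b⁆ = 1 := by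
      rw [map_commutatorElement, commutatorElement_eq_one_iff_mul_comm]
      exact h1
    exact this
  have hLLL : ⁅⁅L, L⁆, L⁆ = ⊥ := by
    rw [eq_bot_iff, commutator_le]
    intro a ha b hb
    have h1 := hLL ha
    have h2 : b ∈ C := hb.2
    rw [mem_bot, commutatorElement_eq_one_iff_mul_comm]
    exact (mem_centralizer_iff.1 h2) a h1
  have hLnil : Group.IsNilpotent L := by
    rw [Subgroup.nilpotent_iff_lowerCentralSeries]
    refine ⟨2, ?_⟩
    have h1 : Subgroup.map L.subtype ((⊤ : Subgroup L).lowerCentralSeries 2) = L.lowerCentralSeries 2 := by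
      exact top_subtype_lowerCentralSeries L 2
    have h2 : L.lowerCentralSeries 2 = ⊥ := by
      rw [Subgroup.lowerCentralSeries_succ, Subgroup.lowerCentralSeries_succ, Subgroup.lowerCentralSeries_zero]
      exact hLLL
    rw [h2, Subgroup.map_eq_bot_iff_of_injective _ (Subgroup.subtype_injective L)] at h1
    exact h1
  have hLF : L ≤ F := L0.le_fittingSubgroup hLnil
  apply hWne
  rw [eq_bot_iff]
  intro w hw
  obtain ⟨c, hc, rfl⟩ := mem_map.1 (hWle hw)
  have : c ∈ L := ⟨hw, hc⟩
  rw [mem_bot]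
  exact (QuotientGroup.eq_one_iff c).2 (hLF this)

end Cfsg.Agent.H2
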