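import Mathlib
import Cfsg.Agent.L0.Core

/-! More small general-purpose lemmas (helper2). -/

set_option autoImplicit false

namespace Cfsg.Agent.H2

open Subgroup
open scoped commutatorElement

/-- A finite group is not the union of the conjugates of a proper subgroup. -/
theorem eq_top_of_forall_conj {G : Type*} [Group G] [Finite G] (H : Subgroup G)
    (h : ∀ g : G, ∃ x : G, x⁻¹ * g * x ∈ H) : H = ⊤ := by
  classical
  let f : (G ⧸ H) × {y : H // y ≠ 1} → {g : G // g ≠ 1} := fun z =>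
    ⟨z.1.out * (z.2.1 : G) * (z.1.out)⁻¹, by
      intro h1
      apply z.2.2
      have : (z.2.1 : G) = 1 := by
        have h2 := mul_inv_eq_one.1 h1
        exact mul_eq_left.1 h2
      exact Subtype.ext this⟩
  have hf : Function.Surjective f := by
    rintro ⟨g, hg⟩
    obtain ⟨x, hx⟩ := h g
    set q : G ⧸ H := QuotientGroup.mk x
    have hq : (q.out)⁻¹ * x ∈ H := by
      have : (QuotientGroup.mk q.out : G ⧸ H) = QuotientGroup.mk x := QuotientGroup.out_eq' q
      exact QuotientGroup.eq.1 this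
    have h3 : (q.out)⁻¹ * g * q.out ∈ H := by
      have h4 := H.mul_mem (H.mul_mem hq hx) (H.inv_mem hq)
      have h5 : (q.out)⁻¹ * x * (x⁻¹ * g * x) * ((q.out)⁻¹ * x)⁻¹ = (q.out)⁻¹ * g * q.out := by group
      rwa [h5] at h4
    refine ⟨(q, ⟨⟨_, h3⟩, ?_⟩), ?_⟩
    · intro h4
      apply hg
      have h5 : (q.out)⁻¹ * g * q.out = 1 := congrArg Subtype.val h4
      have h6 : g = q.out * ((q.out)⁻¹ * g * q.out) * (q.out)⁻¹ := by group
      rw [h6, h5]; group
    · apply Subtype.ext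
      show q.out * ((q.out)⁻¹ * g * q.out) * (q.out)⁻¹ = g
      group
  have h1 := Nat.card_le_card_of_surjective f hf
  rw [Nat.card_prod] at h1
  have c1 : ∀ (T : Type _) [Group T] [Finite T], Nat.card {g : T // g ≠ 1} + 1 = Nat.card T := by
    intro T _ _
    have := Fintype.ofFinite T
    rw [Nat.card_eq_fintype_card, Nat.card_eq_fintype_card, Fintype.card_subtype_compl, Fintype.card_subtype_eq]
    have : 0 < Fintype.card T := Fintype.card_pos
    omega
  have e1 := c1 G
  have e2 := c1 H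
  have e3 : Nat.card (G ⧸ H) * Nat.card H = Nat.card G := by
    rw [Subgroup.card_eq_card_quotient_mul_card_subgroup H]
  have e4 : Nat.card (G ⧸ H) * Nat.card {y : H // y ≠ 1} + Nat.card (G ⧸ H) = Nat.card G := by
    rw [← e3, ← e2]; ring
  rw [← Subgroup.index_eq_one]
  have e5 : H.index ≤ 1 := by
    show Nat.card (G ⧸ H) ≤ 1
    omega
  have e6 : H.index ≠ 0 := Subgroup.index_ne_zero_of_finite
  omega

/-- the decomposition of an element into its `p`-part and its `p'`-part -/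
theorem exists_p_decomp {G : Type*} [Group G] [Finite G] {p : ℕ} (hp : p.Prime) (x : G) :
    ∃ u v : G, x = u * v ∧ Commute u v ∧ (∃ k : ℕ, u ^ p ^ k = 1) ∧ (orderOf v).Coprime p ∧
      u ∈ zpowers x ∧ v ∈ zpowers x := by
  have hpos : 0 < orderOf x := orderOf_pos x
  obtain ⟨a, m, hm, hxm⟩ := Nat.exists_eq_pow_mul_and_not_dvd hpos.ne' p hp.ne_one
  have hcop : (p ^ a).Coprime m := ((Nat.Prime.coprime_iff_not_dvd hp).2 hm).pow_left a
  obtain ⟨e, he1, he2⟩ := Nat.chineseRemainder hcop 1 0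
  obtain ⟨f, hf1, hf2⟩ := Nat.chineseRemainder hcop 0 1
  have hef : e + f ≡ 1 [MOD orderOf x] := by
    rw [hxm, ← Nat.modEq_and_modEq_iff_modEq_mul hcop]
    exact ⟨by simpa using he1.add hf1, by simpa using he2.add hf2⟩
  refine ⟨x ^ e, x ^ f, ?_, ?_, ⟨a, ?_⟩, ?_, Subgroup.pow_mem _ (mem_zpowers x) _, Subgroup.pow_mem _ (mem_zpowers x) _⟩
  · rw [← pow_add]
    conv_lhs => rw [← pow_one x]
    exact (pow_eq_pow_iff_modEq.2 hef).symm
  · exact (Commute.refl x).pow_pow e f
  · obtain ⟨t, ht⟩ := (Nat.modEq_zero_iff_dvd).1 he2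
    rw [ht, ← pow_mul, mul_comm m t, mul_assoc, mul_comm m, ← hxm, mul_comm, pow_mul, pow_orderOf_eq_one, one_pow]
  · have h1 : orderOf (x ^ f) ∣ m := by
      apply orderOf_dvd_of_pow_eq_one
      obtain ⟨t, ht⟩ := (Nat.modEq_zero_iff_dvd).1 hf1
      rw [ht, ← pow_mul, mul_comm (p ^ a) t, mul_assoc, ← hxm, mul_comm, pow_mul, pow_orderOf_eq_one, one_pow]
    exact Nat.Coprime.coprime_dvd_left h1 ((Nat.Prime.coprime_iff_not_dvd hp).2 hm).symm

end Cfsg.Agent.H2
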