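import Cfsg.Prelude.Def_Characters
import Cfsg.Agent.H5.Char4
import Mathlib

set_option linter.all false
set_option autoImplicit false

/-! Values at involutions, class products, small norms. -/

namespace Cfsg.Agent.H2

open scoped ComplexConjugate
open Cfsg.Agent.H5

universe u
variable {G : Type u} [Group G]

/-- the value of a character at an involution is an integer -/
theorem char_invol_int [Finite G] {χ : G → ℂ} (hχ : IsCharacter G χ) {t : G} (ht : t * t = 1) :
    ∃ e : ℤ, χ t = e := by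
  obtain ⟨l, hl⟩ := IsCharacter.cyclic_list hχ t
  have h1 := hl ⟨t, Subgroup.mem_zpowers t⟩
  simp only at h1
  rw [h1]
  clear h1 hl
  induction l with
  | nil => exact ⟨0, by simp⟩
  | cons a l ih =>
    obtain ⟨e, he⟩ := ih
    have h2 : ((a ⟨t, Subgroup.mem_zpowers t⟩ : ℂˣ) : ℂ) * (a ⟨t, Subgroup.mem_zpowers t⟩ : ℂˣ) = 1 := by
      rw [← Units.val_mul, ← map_mul]
      have : (⟨t, Subgroup.mem_zpowers t⟩ : Subgroup.zpowers t) * ⟨t, Subgroup.mem_zpowers t⟩ = 1 := by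
        apply Subtype.ext; exact ht
      rw [this]; simp
    rcases mul_self_eq_one_iff.1 h2 with h3 | h3
    · exact ⟨1 + e, by rw [List.map_cons, List.sum_cons, he, h3]; push_cast; ring⟩
    · exact ⟨-1 + e, by rw [List.map_cons, List.sum_cons, he, h3]; push_cast; ring⟩

/-- sum of an irreducible character over products of two elements of conjugacy classes -/
theorem sum_class_mul [Fintype G] {χ : G → ℂ} (hχ : IsIrrCharacter G χ) (s t : G) (I J : Finset G)
    (hI : ∀ x, x ∈ I ↔ IsConj s x) (hJ : ∀ x, x ∈ J ↔ IsConj t x) :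
    (∑ u ∈ I, ∑ v ∈ J, χ (u * v)) * χ 1 = (I.card : ℂ) * J.card * χ s * χ t := by
  classical
  have hcf := IsCharacter.classFun (IsIrr.isCharacter hχ)
  have hne := IsIrr.one_ne_zero hχ
  have hI' : I = Finset.univ.filter (fun x => IsConj s x) := by ext x; simp [hI]
  have hcard : ((Nat.card (Subgroup.centralizer ({s} : Set G)) : ℕ) : ℂ) * I.card = Nat.card G := by
    have h1 := sum_conj_eq (A := ℕ) s (fun _ => 1)
    simp only [Finset.sum_const, smul_eq_mul, mul_one, Finset.card_univ] at h1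
    rw [← Nat.card_eq_fintype_card, ← hI'] at h1
    rw [h1]; push_cast; rfl
  have hG : (Nat.card G : ℂ) ≠ 0 := by exact_mod_cast Nat.card_pos.ne'
  have hc0 : ((Nat.card (Subgroup.centralizer ({s} : Set G)) : ℕ) : ℂ) ≠ 0 := by
    exact_mod_cast Nat.card_pos.ne'
  have key : ∀ v, (∑ u ∈ I, χ (u * v)) * χ 1 = (I.card : ℂ) * χ s * χ v := by
    intro v
    have h1 := irr_sum_conj_mul hχ s v
    have h2 := sum_conj_eq s (fun x => χ (x * v))
    rw [← hI'] at h2
    rw [h2, nsmul_eq_mul, ← hcard] at h1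
    have h3 : (Nat.card (Subgroup.centralizer ({s} : Set G)) : ℂ) * ((∑ u ∈ I, χ (u * v)) * χ 1) =
      (Nat.card (Subgroup.centralizer ({s} : Set G)) : ℂ) * ((I.card : ℂ) * χ s * χ v) := by
      field_simp at h1
      linear_combination (Nat.card (Subgroup.centralizer ({s} : Set G)) : ℂ) * h1
    exact mul_left_cancel₀ hc0 h3
  rw [Finset.sum_comm, Finset.sum_mul, Finset.sum_congr rfl (fun v _ => key v), ← Finset.mul_sum]
  have h4 : ∑ v ∈ J, χ v = J.card * χ t := by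
    rw [Finset.sum_congr rfl (fun v hv => IsClassFunction.eq_of_isConj hcf ((hJ v).1 hv).symm),
      Finset.sum_const, nsmul_eq_mul]
  rw [h4]; ring

/-- two nonzero terms from a sum of squares equal to two -/
theorem exists_two_of_sum_sq {ι : Type*} [Fintype ι] [DecidableEq ι] (n : ι → ℤ) (i0 : ι) (h0 : n i0 = 1)
    (h : ∑ i, n i ^ 2 = 3) :
    ∃ i j, i ≠ i0 ∧ j ≠ i0 ∧ i ≠ j ∧ (n i = 1 ∨ n i = -1) ∧ (n j = 1 ∨ n j = -1) ∧
      ∀ k, k ≠ i0 → k ≠ i → k ≠ j → n k = 0 := by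
  have h1 : ∑ i ∈ Finset.univ.erase i0, n i ^ 2 = 2 := by
    have := Finset.add_sum_erase Finset.univ (fun i => n i ^ 2) (Finset.mem_univ i0)
    simp only [h0] at this
    rw [h] at this; linarith
  have hsq : ∀ s : Finset ι, ∀ c : ℤ, 0 < c → c ≤ 2 → ∑ i ∈ s, n i ^ 2 = c →
      ∃ i ∈ s, (n i = 1 ∨ n i = -1) ∧ ∑ j ∈ s.erase i, n j ^ 2 = c - 1 := by
    intro s c hc hc2 hs
    have : ∃ i ∈ s, n i ≠ 0 := by
      by_contra hcon
      push Not at hcon
      rw [Finset.sum_congr rfl (fun i hi => by rw [hcon i hi])] at hs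
      simp at hs; omega
    obtain ⟨i, hi, hne⟩ := this
    have h2 := Finset.add_sum_erase s (fun i => n i ^ 2) hi
    rw [hs] at h2
    have h3 : 0 ≤ ∑ j ∈ s.erase i, n j ^ 2 := Finset.sum_nonneg (fun j _ => sq_nonneg _)
    have h4 : n i ^ 2 ≤ 2 := by linarith
    have h5 : n i ≤ 1 := by nlinarith
    have h6 : -1 ≤ n i := by nlinarith
    have h7 : n i = 1 ∨ n i = -1 := by omega
    refine ⟨i, hi, h7, ?_⟩
    have h8 : n i ^ 2 = 1 := by rcases h7 with h | h <;> rw [h] <;> norm_num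
    linarith
  obtain ⟨i, hi, hi1, hi2⟩ := hsq _ 2 (by norm_num) le_rfl h1
  obtain ⟨j, hj, hj1, hj2⟩ := hsq _ 1 (by norm_num) (by norm_num) (by rw [hi2]; norm_num)
  refine ⟨i, j, (Finset.mem_erase.1 hi).1, (Finset.mem_erase.1 (Finset.mem_erase.1 hj).2).1,
    (Finset.mem_erase.1 hj).1.symm, hi1, hj1, ?_⟩
  intro k hk0 hki hkj
  have := (Finset.sum_eq_zero_iff_of_nonneg (fun j _ => sq_nonneg (n j))).1 (by rw [hj2]; norm_num) k
    (Finset.mem_erase.2 ⟨hkj, Finset.mem_erase.2 ⟨hki, Finset.mem_erase.2 ⟨hk0, Finset.mem_univ k⟩⟩⟩)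
  exact pow_eq_zero_iff (two_ne_zero) |>.1 this

/-- the trivial irreducible character -/
noncomputable def trivIrr (G : Type u) [Group G] : IrrCharacter G := ⟨fun _ => 1, isIrrCharacter_trivial⟩

/-- a generalized character of norm three containing the principal character -/
theorem norm_three [Fintype G] {θ : G → ℂ} (hθ : IsGeneralizedCharacter G θ) (h3 : classInner θ θ = 3)
    (h1 : classInner θ (fun _ => 1) = 1) :
    ∃ (χ ψ : IrrCharacter G) (a b : ℤ), χ ≠ trivIrr G ∧ ψ ≠ trivIrr G ∧ χ ≠ ψ ∧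
      (a = 1 ∨ a = -1) ∧ (b = 1 ∨ b = -1) ∧ ∀ g, θ g = 1 + a * (χ : G → ℂ) g + b * (ψ : G → ℂ) g := by
  classical
  obtain ⟨hcf, hn⟩ := isGeneralizedCharacter_iff_inner.1 hθ
  choose n hn using hn
  have h4 : ∑ ψ : IrrCharacter G, (n ψ) ^ 2 = 3 := by
    have h5 := classInner_eq_sum (g := θ) hcf
    rw [h3] at h5
    have h6 : ∀ ψ : IrrCharacter G, classInner θ (ψ : G → ℂ) * conj (classInner θ (ψ : G → ℂ)) = ((n ψ ^ 2 : ℤ) : ℂ) := by
      intro ψ; rw [hn]; simp; ring
    rw [Finset.sum_congr rfl (fun ψ _ => h6 ψ)] at h5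
    exact_mod_cast h5.symm
  have h7 : n (trivIrr G) = 1 := by
    have := hn (trivIrr G)
    have h8 : classInner θ (trivIrr G : G → ℂ) = 1 := h1
    rw [h8] at this
    exact_mod_cast this.symm
  obtain ⟨χ, ψ, hχ, hψ, hχψ, ha, hb, hz⟩ := exists_two_of_sum_sq n (trivIrr G) h7 h4
  refine ⟨χ, ψ, n χ, n ψ, hχ, hψ, hχψ, ha, hb, ?_⟩
  intro g
  rw [classFun_expansion_apply hcf g]
  have h9 : ∀ φ : IrrCharacter G, classInner θ (φ : G → ℂ) * (φ : G → ℂ) g = (n φ : ℂ) * (φ : G → ℂ) g := by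
    intro φ; rw [hn]
  rw [Finset.sum_congr rfl (fun φ _ => h9 φ)]
  rw [← Finset.sum_subset (Finset.subset_univ {trivIrr G, χ, ψ})]
  · rw [Finset.sum_insert, Finset.sum_insert, Finset.sum_singleton, h7]
    · have : (trivIrr G : G → ℂ) g = 1 := rfl
      rw [this]; push_cast; ring
    · simpa using hχψ
    · simp only [Finset.mem_insert, Finset.mem_singleton, not_or]
      exact ⟨hχ.symm, hψ.symm⟩
  · intro φ _ hφ
    simp only [Finset.mem_insert, Finset.mem_singleton, not_or] at hφ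
    rw [hz φ hφ.1 hφ.2.1 hφ.2.2]; simp

end Cfsg.Agent.H2
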