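import Cfsg.Prelude.Def_Characters
import Cfsg.Agent.H4.Burnside
import Cfsg.Agent.H1.Hall
import Cfsg.Agent.H2.Fpf

/-! Class sizes, Burnside-type solvability criteria (helper2). -/

set_option autoImplicit false

namespace Cfsg.Agent.H2

open Subgroup

theorem relIndex_dvd_index_of_normal_right {G : Type*} [Group G] [Finite G] (C N : Subgroup G) [N.Normal] :
    C.relIndex N ∣ C.index := by
  have h1 : C.relIndex (C ⊔ N) = C.relIndex N := by
    have e1 : Nat.card C * C.relIndex (C ⊔ N) = Nat.card ↥(C ⊔ N) := by
      rw [← relIndex_bot_left, ← relIndex_bot_left]; exact relIndex_mul_relIndex _ _ _ bot_le le_sup_left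
    have e2 : Nat.card N * N.relIndex (C ⊔ N) = Nat.card ↥(C ⊔ N) := by
      rw [← relIndex_bot_left, ← relIndex_bot_left]; exact relIndex_mul_relIndex _ _ _ bot_le le_sup_right
    have e3 : Nat.card ↥(C ⊓ N) * C.relIndex N = Nat.card N := by
      rw [← relIndex_bot_left, ← relIndex_bot_left, ← inf_relIndex_right C N]
      exact relIndex_mul_relIndex _ _ _ bot_le inf_le_right
    have e4 : Nat.card ↥(C ⊓ N) * N.relIndex C = Nat.card C := by
      rw [← relIndex_bot_left, ← relIndex_bot_left, ← inf_relIndex_left C N]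
      exact relIndex_mul_relIndex _ _ _ bot_le inf_le_left
    rw [relIndex_sup_right] at e2
    have hpos : 0 < Nat.card ↥(C ⊓ N) := Nat.card_pos
    have hpos2 : 0 < Nat.card C := Nat.card_pos
    apply Nat.eq_of_mul_eq_mul_left hpos2
    rw [e1, ← e2, ← e3, ← e4]
    ring
  rw [← h1]
  exact relIndex_dvd_index_of_le le_sup_left

theorem ncard_class_eq_index {G : Type*} [Group G] [Finite G] (x : G) :
    (ConjClasses.mk x).carrier.ncard = (centralizer ({x} : Set G)).index := by
  have h1 : (ConjClasses.mk x).carrier = MulAction.orbit (ConjAct G) x := by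
    rw [ConjAct.orbit_eq_carrier_conjClasses]
  rw [h1]
  have h2 := MulAction.index_stabilizer (ConjAct G) x
  rw [← h2]
  rw [Subgroup.centralizer_eq_comap_stabilizer]
  exact (Subgroup.index_comap_of_surjective _ ConjAct.toConjAct.surjective).symm

theorem index_centralizer_map_dvd {G H : Type*} [Group G] [Group H] {f : G →* H} (hf : Function.Surjective f) (x : G) :
    (centralizer ({f x} : Set H)).index ∣ (centralizer ({x} : Set G)).index := by
  refine dvd_trans ?_ (Subgroup.index_map_dvd _ hf)
  apply Subgroup.index_dvd_of_le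
  rintro _ ⟨g, hg, rfl⟩
  rw [mem_centralizer_singleton_iff]
  have := mem_centralizer_singleton_iff.1 hg
  rw [← map_mul, ← map_mul, this]

theorem index_centralizer_normal_dvd {G : Type*} [Group G] [Finite G] (N : Subgroup G) [N.Normal] (x : N) :
    (centralizer ({x} : Set N)).index ∣ (centralizer ({(x : G)} : Set G)).index := by
  refine dvd_trans ?_ (relIndex_dvd_index_of_normal_right (centralizer ({(x : G)} : Set G)) N)
  have : centralizer ({x} : Set N) = (centralizer ({(x : G)} : Set G)).subgroupOf N := by
    ext y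
    rw [mem_subgroupOf, mem_centralizer_singleton_iff, mem_centralizer_singleton_iff, Subtype.ext_iff]
    rfl
  rw [this]
  exact dvd_rfl

/-- p'-elements lift to p'-elements through surjections -/
theorem exists_pprime_lift {G H : Type*} [Group G] [Finite G] [Group H] {p : ℕ} (hp : p.Prime) {f : G →* H}
    (hf : Function.Surjective f) (y : H) (hy : (orderOf y).Coprime p) : ∃ x : G, f x = y ∧ (orderOf x).Coprime p := by
  obtain ⟨g, rfl⟩ := hf y
  have hpos : 0 < orderOf g := orderOf_pos g
  obtain ⟨a, m, hm, hgm⟩ := Nat.exists_eq_pow_mul_and_not_dvd hpos.ne' p hp.ne_one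
  -- choose t with p^a t ≡ 1 mod orderOf (f g)
  have hcop : (p ^ a).Coprime (orderOf (f g)) := (Nat.Coprime.pow_right a hy).symm
  obtain ⟨t, ht⟩ : ∃ t : ℕ, p ^ a * t ≡ 1 [MOD orderOf (f g)] := by
    rcases Nat.lt_or_ge 1 (orderOf (f g)) with h | h
    · obtain ⟨t, ht⟩ := Nat.exists_mul_mod_eq_one_of_coprime hcop h
      exact ⟨t, by rw [Nat.ModEq, ht.2, Nat.mod_eq_of_lt h]⟩
    · have h1 : orderOf (f g) = 1 := le_antisymm h (Nat.pos_of_ne_zero (by
        intro h0
        have : orderOf (f g) ∣ orderOf g := orderOf_map_dvd f g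
        rw [h0] at this
        exact hpos.ne' (zero_dvd_iff.1 this)))
      exact ⟨1, by rw [h1]; exact Nat.modEq_one⟩
  refine ⟨g ^ (p ^ a * t), ?_, ?_⟩
  · rw [map_pow]
    have := pow_eq_pow_iff_modEq (x := f g) (n := p ^ a * t) (m := 1)
    rw [this.2 ht, pow_one]
  · have h1 : orderOf (g ^ (p ^ a * t)) ∣ m := by
      apply orderOf_dvd_of_pow_eq_one
      rw [← pow_mul, mul_assoc, mul_comm t m, ← mul_assoc, ← hgm, pow_mul, pow_orderOf_eq_one, one_pow]
    refine Nat.Coprime.coprime_dvd_left h1 ?_
    exact ((Nat.Prime.coprime_iff_not_dvd hp).2 hm).symm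

/-- if all `p`-regular classes have `p`-power size then `G` is solvable -/
theorem solvable_of_pregular_class_ppower (n : ℕ) : ∀ (G : Type*) [Group G] [Finite G], Nat.card G = n → ∀ {p : ℕ}, p.Prime →
    (∀ x : G, (orderOf x).Coprime p → ∃ k : ℕ, (centralizer ({x} : Set G)).index = p ^ k) → Group.IsSolvable G := by
  induction n using Nat.strong_induction_on with
  | _ n ih =>
  intro G _ _ hn p hp h
  rcases subsingleton_or_nontrivial G with hsub | hnt
  · infer_instance
  by_cases hex : ∃ N : Subgroup G, N.Normal ∧ N ≠ ⊥ ∧ N ≠ ⊤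
  · obtain ⟨N, hNn, hN1, hN2⟩ := hex
    have hq : Group.IsSolvable (G ⧸ N) := by
      refine ih _ ?_ (G ⧸ N) rfl hp ?_
      · have h1 := Subgroup.card_eq_card_quotient_mul_card_subgroup N
        rw [hn] at h1
        have h2 : 0 < Nat.card (G ⧸ N) := Nat.card_pos
        have h3 : 1 < Nat.card N := by
          rcases Nat.lt_or_ge 1 (Nat.card N) with h | h
          · exact h
          · exact absurd (Subgroup.card_eq_one.1 (le_antisymm h Nat.card_pos)) hN1
        nlinarith
      · intro y hy
        obtain ⟨x, rfl, hx⟩ := exists_pprime_lift hp (QuotientGroup.mk'_surjective N) y hy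
        obtain ⟨k, hk⟩ := h x hx
        have := index_centralizer_map_dvd (QuotientGroup.mk'_surjective N) x
        rw [hk] at this
        obtain ⟨l, -, hl⟩ := (Nat.dvd_prime_pow hp).1 this
        exact ⟨l, hl⟩
    have hs : Group.IsSolvable N := by
      refine ih _ ?_ N rfl hp ?_
      · rw [← hn]
        refine lt_of_le_of_ne (Nat.le_of_dvd Nat.card_pos (Subgroup.card_subgroup_dvd_card N)) ?_
        intro h
        exact hN2 (Subgroup.eq_top_of_card_eq N h)
      · intro x hx
        obtain ⟨k, hk⟩ := h x (by rw [Subgroup.orderOf_coe]; exact hx)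
        have := index_centralizer_normal_dvd N x
        rw [hk] at this
        obtain ⟨l, -, hl⟩ := (Nat.dvd_prime_pow hp).1 this
        exact ⟨l, hl⟩
    exact (Group.isSolvable_iff_subgroup_quotient N).2 ⟨hs, hq⟩
  · push Not at hex
    have hsimple : IsSimpleGroup G := ⟨fun N hN => by
      by_cases h1 : N = ⊥
      · exact Or.inl h1
      · exact Or.inr (hex N hN h1)⟩
    by_cases hreg : ∃ x : G, x ≠ 1 ∧ (orderOf x).Coprime p
    · obtain ⟨x, hx1, hx⟩ := hreg
      obtain ⟨k, hk⟩ := h x hx
      have hprime := H4.burnside_prime_power_class p k hp x hx1 hk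
      have hfp := Fact.mk hprime
      have hcyc : IsCyclic G := isCyclic_of_prime_card rfl
      exact Group.isSolvable_of_comm (fun a b => (IsCyclic.isMulCommutative (α := G)).is_comm.comm a b)
    · push Not at hreg
      have hfp := Fact.mk hp
      have hpg : IsPGroup p G := by
        rw [IsPGroup.iff_card]
        refine Nat.eq_prime_pow_of_unique_prime_dvd Nat.card_pos.ne' ?_ |> fun h => ⟨_, h⟩
        intro q hq hqd
        by_contra hne
        have := Fact.mk hq
        obtain ⟨x, hx⟩ := exists_prime_orderOf_dvd_card' q hqd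
        apply hreg x
        · intro h1; rw [h1, orderOf_one] at hx; exact hq.one_lt.ne hx
        · rw [hx]; exact (Nat.coprime_primes hq hp).2 hne
      have := hpg.isNilpotent
      infer_instance

/-- a finite group with an abelian subgroup of prime power index is solvable -/
theorem solvable_of_abelian_ppower_index (n : ℕ) : ∀ (G : Type*) [Group G] [Finite G], Nat.card G = n → ∀ {p : ℕ}, p.Prime →
    ∀ (A : Subgroup G), (∀ a ∈ A, ∀ b ∈ A, a * b = b * a) → (∃ k : ℕ, A.index = p ^ k) → Group.IsSolvable G := by
  induction n using Nat.strong_induction_on with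
  | _ n ih =>
  intro G _ _ hn p hp A hA ⟨k, hk⟩
  rcases subsingleton_or_nontrivial G with hsub | hnt
  · infer_instance
  by_cases hex : ∃ N : Subgroup G, N.Normal ∧ N ≠ ⊥ ∧ N ≠ ⊤
  · obtain ⟨N, hNn, hN1, hN2⟩ := hex
    have hq : Group.IsSolvable (G ⧸ N) := by
      refine ih _ ?_ (G ⧸ N) rfl hp (A.map (QuotientGroup.mk' N)) ?_ ?_
      · have h1 := Subgroup.card_eq_card_quotient_mul_card_subgroup N
        rw [hn] at h1
        have h2 : 0 < Nat.card (G ⧸ N) := Nat.card_pos
        have h3 : 1 < Nat.card N := by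
          rcases Nat.lt_or_ge 1 (Nat.card N) with h | h
          · exact h
          · exact absurd (Subgroup.card_eq_one.1 (le_antisymm h Nat.card_pos)) hN1
        nlinarith
      · rintro _ ⟨a, ha, rfl⟩ _ ⟨b, hb, rfl⟩
        rw [← map_mul, ← map_mul, hA a ha b hb]
      · have := Subgroup.index_map_dvd A (QuotientGroup.mk'_surjective N)
        rw [hk] at this
        obtain ⟨l, -, hl⟩ := (Nat.dvd_prime_pow hp).1 this
        exact ⟨l, hl⟩
    have hs : Group.IsSolvable N := by
      refine ih _ ?_ N rfl hp (A.subgroupOf N) ?_ ?_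
      · rw [← hn]
        refine lt_of_le_of_ne (Nat.le_of_dvd Nat.card_pos (Subgroup.card_subgroup_dvd_card N)) ?_
        intro h
        exact hN2 (Subgroup.eq_top_of_card_eq N h)
      · intro a ha b hb
        exact Subtype.ext (hA a ha b hb)
      · have := relIndex_dvd_index_of_normal_right A N
        rw [hk] at this
        obtain ⟨l, -, hl⟩ := (Nat.dvd_prime_pow hp).1 this
        exact ⟨l, hl⟩
    exact (Group.isSolvable_iff_subgroup_quotient N).2 ⟨hs, hq⟩
  · push Not at hex
    have hsimple : IsSimpleGroup G := ⟨fun N hN => by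
      by_cases h1 : N = ⊥
      · exact Or.inl h1
      · exact Or.inr (hex N hN h1)⟩
    by_cases hAb : A = ⊥
    · have hfp := Fact.mk hp
      have hpg : IsPGroup p G := IsPGroup.of_card (n := k) (by rw [← hk, hAb, Subgroup.index_bot])
      have := hpg.isNilpotent
      infer_instance
    · obtain ⟨a, ha⟩ := Subgroup.ne_bot_iff_exists_ne_one.1 hAb
      have hle : A ≤ centralizer ({(a : G)} : Set G) := by
        intro b hb
        rw [mem_centralizer_singleton_iff]
        exact hA b hb a a.2
      have := Subgroup.index_dvd_of_le hle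
      rw [hk] at this
      obtain ⟨l, -, hl⟩ := (Nat.dvd_prime_pow hp).1 this
      have hprime := H4.burnside_prime_power_class p l hp (a : G) (fun h => ha (Subtype.ext h)) hl
      have hfp := Fact.mk hprime
      have hcyc : IsCyclic G := isCyclic_of_prime_card rfl
      exact Group.isSolvable_of_comm (fun a b => (IsCyclic.isMulCommutative (α := G)).is_comm.comm a b)

theorem not_dvd_card_fitting {G : Type*} [Group G] [Finite G] {p : ℕ} (hp : p.Prime) (h : pCore p G = ⊥) :
    ¬ p ∣ Nat.card (fittingSubgroup G) := by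
  have hfp := Fact.mk hp
  have h1 := L0.not_dvd_index_pCore_of_nilpotent (p := p) (L0.fittingSubgroup_isNilpotent G)
  have h2 : pCore p (fittingSubgroup G) = ⊥ := by
    have h3 := L0.pCore_subgroup_le p (fittingSubgroup G)
    rw [h, le_bot_iff, Subgroup.map_eq_bot_iff_of_injective _ (Subgroup.subtype_injective _)] at h3
    exact h3
  rw [h2, Subgroup.index_bot] at h1
  exact h1

end Cfsg.Agent.H2
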