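import Cfsg.Agent.H3.Omega
import Cfsg.Agent.H6.Critical
import Cfsg.Agent.L0.Fus.Norm2
import Mathlib

set_option autoImplicit false

/-! Automorphisms trivial on small elements; normality criteria for strongly closed subgroups (helper2). -/

namespace Cfsg.Agent.H2

open Cfsg Cfsg.FusionSystem Cfsg.Agent.L0 Cfsg.Agent.L0.Fus
open scoped commutatorElement

section aut
variable {P : Type*} [Group P] [Finite P] {p : ℕ} [Fact p.Prime]

theorem aut_eq_one_of_omega_sub (hP : IsPGroup p P) {α : MulAut P} (ho : (orderOf α).Coprime p)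
    (D : Subgroup P) (hD : ∀ x ∈ D, α x ∈ D) (hPD : ∀ x : P, x⁻¹ * α x ∈ D)
    (h : ∀ a ∈ D, (a ^ p = 1 ∨ (p = 2 ∧ a ^ 4 = 1)) → α a = a) : α = 1 := by
  classical
  let H := SemidirectProduct P (MulAut P) (MonoidHom.id _)
  haveI : Finite H := Finite.of_equiv _ (SemidirectProduct.equivProd (N := P) (G := MulAut P) (φ := MonoidHom.id _)).symm
  let x : H := SemidirectProduct.inr α
  have hconj : ∀ a : P, x * (SemidirectProduct.inl a : H) * x⁻¹ = SemidirectProduct.inl (α a) := by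
    intro a
    have h := (SemidirectProduct.inl_aut (φ := MonoidHom.id (MulAut P)) α a).symm
    rw [map_inv] at h
    exact h
  have hxo : (orderOf x).Coprime p := by
    have : orderOf x = orderOf α := orderOf_injective (SemidirectProduct.inr : MulAut P →* H) SemidirectProduct.inr_injective α
    rw [this]; exact ho
  let Q : Subgroup H := D.map (SemidirectProduct.inl : P →* H)
  have hQ : IsPGroup p Q := (hP.to_subgroup D).map _
  have hxQ : x ∈ Subgroup.normalizer (Q : Set H) := by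
    apply mem_normalizer_of_finite
    rintro _ ⟨a, ha, rfl⟩
    rw [hconj]
    exact ⟨_, hD a ha, rfl⟩
  have h1 := H3.omega_centralizes hxo _ Q rfl hQ hxQ (by
    rintro _ ⟨a, ha, rfl⟩ h2
    have h3 : a ^ p = 1 ∨ (p = 2 ∧ a ^ 4 = 1) := by
      rcases h2 with h2 | ⟨h2, h3⟩
      · left
        rw [← map_pow] at h2
        exact SemidirectProduct.inl_injective (h2.trans (map_one _).symm)
      · right
        refine ⟨h2, ?_⟩
        rw [← map_pow] at h3
        exact SemidirectProduct.inl_injective (h3.trans (map_one _).symm)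
    have h4 := hconj a
    rw [h a ha h3] at h4
    calc x * SemidirectProduct.inl a = (x * SemidirectProduct.inl a * x⁻¹) * x := by rw [inv_mul_cancel_right]
      _ = SemidirectProduct.inl a * x := by rw [h4])
  have hfix : ∀ a ∈ D, α a = a := by
    intro a ha
    have h2 := Subgroup.mem_centralizer_iff.1 h1 (SemidirectProduct.inl a) ⟨a, ha, rfl⟩
    have h3 : x * (SemidirectProduct.inl a : H) * x⁻¹ = SemidirectProduct.inl a := by rw [← h2, mul_inv_cancel_right]
    rw [hconj] at h3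
    exact SemidirectProduct.inl_injective h3
  ext a
  have hit : ∀ k : ℕ, (α ^ k) a = a * (a⁻¹ * α a) ^ k := by
    intro k
    induction k with
    | zero => simp
    | succ k ih =>
      rw [pow_succ', MulAut.mul_apply, ih, map_mul, map_pow, hfix _ (hPD a), pow_succ' (a⁻¹ * α a) k, ← mul_assoc a,
        mul_inv_cancel_left]
  have h2 := hit (orderOf α)
  rw [pow_orderOf_eq_one, MulAut.one_apply] at h2
  have h3 : (a⁻¹ * α a) ^ orderOf α = 1 := mul_left_cancel (a := a) (by rw [mul_one]; exact h2.symm)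
  obtain ⟨k, hk⟩ := hP (a⁻¹ * α a)
  have h4 : a⁻¹ * α a = 1 := orderOf_eq_one_iff.1 (Nat.eq_one_of_dvd_coprimes (Nat.Coprime.pow_right k ho)
    (orderOf_dvd_of_pow_eq_one h3) (orderOf_dvd_of_pow_eq_one hk))
  rw [MulAut.one_apply]
  exact (inv_mul_eq_one.1 h4).symm

theorem aut_eq_one_of_omega (hP : IsPGroup p P) {α : MulAut P} (ho : (orderOf α).Coprime p)
    (h : ∀ a : P, (a ^ p = 1 ∨ (p = 2 ∧ a ^ 4 = 1)) → α a = a) : α = 1 :=
  aut_eq_one_of_omega_sub hP ho ⊤ (fun _ _ => Subgroup.mem_top _) (fun _ => Subgroup.mem_top _) (fun a _ => h a)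

/-- a `p'`-automorphism stabilizing a chain fixes it elementwise -/
theorem fix_of_chain (hP : IsPGroup p P) {α : MulAut P} (ho : (orderOf α).Coprime p) (D : ℕ → Subgroup P)
    (h0 : D 0 = ⊥) (hmono : ∀ i, D i ≤ D (i + 1)) (h1 : ∀ i, ∀ x ∈ D (i + 1), x⁻¹ * α x ∈ D i) (n : ℕ) :
    ∀ a ∈ D n, α a = a := by
  intro a h3
  obtain ⟨k, hk⟩ := pow_stab_chain hP D h0 hmono h1 n
  have h4 := hk a h3
  have hcop : (orderOf α).Coprime (p ^ k) := Nat.Coprime.pow_right k ho
  obtain ⟨m, hm⟩ := exists_pow_eq_self_of_coprime (Nat.Coprime.symm hcop)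
  have h5 : ∀ j : ℕ, ((α ^ p ^ k) ^ j) a = a := by
    intro j
    induction j with
    | zero => simp
    | succ j ih => rw [pow_succ, MulAut.mul_apply, h4, ih]
  have h6 := h5 m
  rw [hm] at h6
  exact h6

/-- two-step version -/
theorem fix_of_two (hP : IsPGroup p P) {α : MulAut P} (ho : (orderOf α).Coprime p) (A B : Subgroup P)
    (hA : ∀ a ∈ A, α a = a) (hBA : ∀ b ∈ B, b⁻¹ * α b ∈ A) : ∀ b ∈ B, α b = b := by
  intro b hb
  have hit : ∀ k : ℕ, (α ^ k) b = b * (b⁻¹ * α b) ^ k := by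
    intro k
    induction k with
    | zero => simp
    | succ k ih =>
      rw [pow_succ', MulAut.mul_apply, ih, map_mul, map_pow, hA _ (hBA b hb), pow_succ' (b⁻¹ * α b) k, ← mul_assoc b,
        mul_inv_cancel_left]
  have h2 := hit (orderOf α)
  rw [pow_orderOf_eq_one, MulAut.one_apply] at h2
  have h3 : (b⁻¹ * α b) ^ orderOf α = 1 := mul_left_cancel (a := b) (by rw [mul_one]; exact h2.symm)
  obtain ⟨k, hk⟩ := hP (b⁻¹ * α b)
  have h4 : b⁻¹ * α b = 1 := orderOf_eq_one_iff.1 (Nat.eq_one_of_dvd_coprimes (Nat.Coprime.pow_right k ho)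
    (orderOf_dvd_of_pow_eq_one h3) (orderOf_dvd_of_pow_eq_one hk))
  exact (inv_mul_eq_one.1 h4).symm

/-- the stabilizer of a family of sections in a group of automorphisms -/
def stabB {R : Type*} [Group R] (A : Subgroup (MulAut R)) (L : Set (Subgroup R × Subgroup R))
    (hL : ∀ q ∈ L, ∀ α ∈ A, (∀ x ∈ q.1, α x ∈ q.1) ∧ (∀ x ∈ q.2, α x ∈ q.2)) : Subgroup A where
  carrier := {α | ∀ q ∈ L, ∀ x ∈ q.1, x⁻¹ * (α : MulAut R) x ∈ q.2}
  one_mem' := by
    intro q hq x hx
    simp only [OneMemClass.coe_one, MulAut.one_apply, inv_mul_cancel]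
    exact Subgroup.one_mem _
  mul_mem' := by
    intro a b ha hb q hq x hx
    have h1 := hb q hq x hx
    have h2 := ha q hq _ ((hL q hq b b.2).1 x hx)
    have h3 := q.2.mul_mem h1 h2
    have e : x⁻¹ * (b : MulAut R) x * (((b : MulAut R) x)⁻¹ * (a : MulAut R) ((b : MulAut R) x)) =
      x⁻¹ * ((a * b : A) : MulAut R) x := by
      change _ = x⁻¹ * (a : MulAut R) ((b : MulAut R) x)
      group
    rwa [e] at h3
  inv_mem' := by
    intro a ha q hq x hx
    have h1 := ha q hq _ ((hL q hq _ (a⁻¹).2).1 x hx)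
    have h2 : (a : MulAut R) (((a⁻¹ : A) : MulAut R) x) = x := MulAut.apply_inv_self R _ x
    rw [h2] at h1
    have h3 := q.2.inv_mem h1
    have e : ((((a⁻¹ : A) : MulAut R) x)⁻¹ * x)⁻¹ = x⁻¹ * ((a⁻¹ : A) : MulAut R) x := by group
    rwa [e] at h3

theorem stabB_normal {R : Type*} [Group R] (A : Subgroup (MulAut R)) (L : Set (Subgroup R × Subgroup R))
    (hL : ∀ q ∈ L, ∀ α ∈ A, (∀ x ∈ q.1, α x ∈ q.1) ∧ (∀ x ∈ q.2, α x ∈ q.2)) : (stabB A L hL).Normal := by
  refine ⟨fun α hα β => ?_⟩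
  intro q hq x hx
  have h1 := hα q hq _ ((hL q hq _ (β⁻¹).2).1 x hx)
  have h2 := (hL q hq β β.2).2 _ h1
  rw [map_mul, map_inv] at h2
  have h3 : (β : MulAut R) (((β⁻¹ : A) : MulAut R) x) = x := MulAut.apply_inv_self R _ x
  rw [h3] at h2
  exact h2

end aut

section fus
variable {Ω : Type*} [Group Ω] {S : Subgroup Ω} [Finite S] {F : FusionSystem S} {p : ℕ} [Fact p.Prime]

/-- the radical criterion, in the stabilizer form -/
theorem le_of_stab (hS : IsPGroup p S) {R Q : Subgroup Ω} (hRc : F.IsCentric R) (hRr : F.IsRadical p R) (hQS : Q ≤ S)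
    (hQn : S ≤ Subgroup.normalizer (Q : Set Ω)) (L : Set (Subgroup R × Subgroup R))
    (hL : ∀ q ∈ L, ∀ α ∈ F.autGroup R, (∀ x ∈ q.1, α x ∈ q.1) ∧ (∀ x ∈ q.2, α x ∈ q.2))
    (hp : ∀ α ∈ F.autGroup R, (orderOf α).Coprime p → (∀ q ∈ L, ∀ x ∈ q.1, x⁻¹ * α x ∈ q.2) → α = 1)
    (hQ : ∀ α ∈ F.autGroup R, (∃ y ∈ Q, ∀ x : R, ((α x : R) : Ω) = y * x * y⁻¹) → ∀ q ∈ L, ∀ x ∈ q.1, x⁻¹ * α x ∈ q.2) :
    Q ≤ R := by
  haveI := finite_of_le hRc.1
  haveI := Fus.finite_autGroup (S := S) hRc.1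
  refine le_of_centric_radical hS hRc hRr hQS hQn (stabB (F.autGroup R) L hL) (stabB_normal _ _ _) ?_ ?_
  · apply H6.isPGroup_of_coprime
    intro d hd hdp
    have h1 : (d : MulAut R) = 1 := hp d d.2 (by rwa [orderOf_submonoid]) hd
    exact Subtype.ext h1
  · intro α hα
    exact hQ α α.2 hα

/-- a strongly closed subgroup is normal when the subgroup of its small elements has a central chain of strongly closed subgroups -/
theorem normal_of_omega (hS : IsPGroup p S) (hF : F.IsSaturated p) {P : Subgroup Ω} (hP : F.StronglyClosed P) (n : ℕ)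
    (C : ℕ → Subgroup Ω) (h0 : C 0 = ⊥) (hn : ∀ x ∈ P, (x ^ p = 1 ∨ (p = 2 ∧ x ^ 4 = 1)) → x ∈ C n)
    (hmono : ∀ i, C i ≤ C (i + 1)) (hsc : ∀ i, F.StronglyClosed (C i))
    (hcomm : ∀ i, ⁅C (i + 1), P⁆ ≤ C i) : F.IsNormal P := by
  rw [normal_iff_stronglyClosed hS hF]
  refine ⟨hP, fun R hRc hRr => ?_⟩
  have hRS := hRc.1
  haveI := finite_of_le hRS
  have hPn := StronglyClosed.le_normalizer hP
  refine le_of_stab hS hRc hRr hP.1 hPn
    (insert ((⊤ : Subgroup R), P.subgroupOf R) (Set.range fun i => ((C (i + 1)).subgroupOf R, (C i).subgroupOf R))) ?_ ?_ ?_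
  · rintro q (rfl | ⟨i, rfl⟩) α hα
    · exact ⟨fun x _ => Subgroup.mem_top _, fun x hx => Subgroup.mem_subgroupOf.mpr
        (StronglyClosed.aut_mem hP hRS hα (Subgroup.mem_subgroupOf.mp hx))⟩
    · exact ⟨fun x hx => Subgroup.mem_subgroupOf.mpr
        (StronglyClosed.aut_mem (hsc (i + 1)) hRS hα (Subgroup.mem_subgroupOf.mp hx)), fun x hx => Subgroup.mem_subgroupOf.mpr
        (StronglyClosed.aut_mem (hsc i) hRS hα (Subgroup.mem_subgroupOf.mp hx))⟩
  · intro α hα ho hst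
    have hRp : IsPGroup p R := hS.to_le hRS
    have h1 : ∀ i, ∀ x ∈ (C (i + 1)).subgroupOf R, x⁻¹ * α x ∈ (C i).subgroupOf R := fun i =>
      hst ((C (i + 1)).subgroupOf R, (C i).subgroupOf R) (Or.inr ⟨i, rfl⟩)
    have h2 : ∀ x : R, x⁻¹ * α x ∈ P.subgroupOf R := fun x =>
      hst ((⊤ : Subgroup R), P.subgroupOf R) (Or.inl rfl) x (Subgroup.mem_top _)
    obtain ⟨k, hk⟩ := pow_stab_chain hRp (fun i => (C i).subgroupOf R) (by simp only [h0]; exact Subgroup.bot_subgroupOf R)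
      (fun i => Subgroup.comap_mono (hmono i)) h1 n
    refine aut_eq_one_of_omega_sub hRp ho (P.subgroupOf R) (fun x hx => Subgroup.mem_subgroupOf.mpr
        (StronglyClosed.aut_mem hP hRS hα (Subgroup.mem_subgroupOf.mp hx))) h2 ?_
    intro a ha hap
    have h3 : a ∈ (C n).subgroupOf R := by
      apply Subgroup.mem_subgroupOf.mpr
      apply hn _ (Subgroup.mem_subgroupOf.mp ha)
      rcases hap with h | ⟨h, h'⟩
      · left
        have := congrArg Subtype.val h
        simpa using this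
      · right
        refine ⟨h, ?_⟩
        have := congrArg Subtype.val h'
        simpa using this
    have h4 := hk a h3
    -- `α` is a power of `α ^ p ^ k`
    have hcop : (orderOf α).Coprime (p ^ k) := Nat.Coprime.pow_right k ho
    obtain ⟨m, hm⟩ := exists_pow_eq_self_of_coprime (Nat.Coprime.symm hcop)
    have h5 : ∀ j : ℕ, ((α ^ p ^ k) ^ j) a = a := by
      intro j
      induction j with
      | zero => simp
      | succ j ih => rw [pow_succ, MulAut.mul_apply, h4, ih]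
    have h6 := h5 m
    rw [hm] at h6
    exact h6
  · rintro α hα ⟨y, hy, hyα⟩ q (rfl | ⟨i, rfl⟩) x hx
    · apply Subgroup.mem_subgroupOf.mpr
      change (x : Ω)⁻¹ * ((α x : R) : Ω) ∈ P
      rw [hyα]
      have h1 : (x : Ω)⁻¹ * y * ((x : Ω)⁻¹)⁻¹ ∈ P :=
        (Subgroup.mem_normalizer_iff.mp (hPn (S.inv_mem (hRS x.2))) y).mp hy
      have h2 := P.mul_mem h1 (P.inv_mem hy)
      have e : (x : Ω)⁻¹ * y * ((x : Ω)⁻¹)⁻¹ * y⁻¹ = (x : Ω)⁻¹ * (y * x * y⁻¹) := by group
      rwa [e] at h2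
    · apply Subgroup.mem_subgroupOf.mpr
      change (x : Ω)⁻¹ * ((α x : R) : Ω) ∈ C i
      rw [hyα]
      apply hcomm i
      have := Subgroup.commutator_mem_commutator ((C (i + 1)).inv_mem (Subgroup.mem_subgroupOf.mp hx)) hy
      have e : (x : Ω)⁻¹ * (y * x * y⁻¹) = ⁅(x : Ω)⁻¹, y⁆ := by
        rw [commutatorElement_def]; group
      rw [e]; exact this

end fus

end Cfsg.Agent.H2
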