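import Cfsg.Agent.H2.ZJFus3
import Cfsg.Agent.L0.Fus.GrpSt

set_option autoImplicit false
set_option linter.unusedSectionVars false
set_option linter.unusedSimpArgs false
set_option linter.unusedVariables false
set_option linter.style.haveILetI false
open Cfsg
open scoped commutatorElement

/-! `p`-stability of group fusion systems (helper2). -/

namespace Cfsg.Agent.H2
open Cfsg.Agent.H6

universe u

section
variable {G : Type*} [Group G] [Finite G] {p : ℕ} [hp : Fact p.Prime]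

/-- `p`-stability of a fusion system -/
def FPS (p : ℕ) {Ω : Type*} [Group Ω] {S : Subgroup Ω} (F : FusionSystem S) : Prop :=
  ∀ Q : Subgroup Ω, F.IsFullyNormalized Q → ∀ χ : MulAut ↥Q, χ ∈ F.autGroup Q →
    (∀ a : ↥Q, (χ a⁻¹) * a * (χ a⁻¹) * (χ (χ a)) = 1) →
    χ ∈ ((pCore p ↥(F.autGroup Q)).map (F.autGroup Q).subtype : Subgroup (MulAut ↥Q))

theorem npw_iff_aut {Q : Subgroup G} {g : G} (hg : g ∈ Subgroup.normalizer (Q : Set G)) {A : Subgroup (MulAut Q)}
    (hA : A = autInducedBy ⊤ Q) :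
    NPW p Q g ↔ Q.normalizerMonoidHom ⟨g, hg⟩ ∈ (pCore p ↥A).map A.subtype := by
  subst hA
  set A := autInducedBy ⊤ Q with hA
  let c : Subgroup.normalizer (Q : Set G) →* A := Q.normalizerMonoidHom.codRestrict A (fun g =>
    L0.Fus.mem_autInducedBy.2 ⟨g, Subgroup.mem_top _, fun x => rfl⟩)
  have hc : Function.Surjective c := by
    rintro ⟨α, hα⟩
    obtain ⟨g, -, h⟩ := L0.Fus.mem_autInducedBy.1 hα
    refine ⟨⟨g, L0.Fus.mem_normalizer_of_induced h⟩, Subtype.ext ?_⟩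
    ext x
    exact (h x).symm
  have hker : ∀ n : Subgroup.normalizer (Q : Set G), c n = 1 ↔ (n : G) ∈ Subgroup.centralizer (Q : Set G) := by
    intro n
    rw [Subgroup.mem_centralizer_iff]
    constructor
    · intro h q hq
      have h1 := congrArg (fun a : A => (((a : MulAut Q) ⟨q, hq⟩ : Q) : G)) h
      have h2 : (n : G) * q * (n : G)⁻¹ = q := h1
      calc q * n = (n * q * (n : G)⁻¹) * n := by rw [h2]
        _ = n * q := by group
    · intro h
      apply Subtype.ext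
      ext q
      show (n : G) * q * (n : G)⁻¹ = q
      rw [← h q q.2]; group
  constructor
  · rintro ⟨D, h1, h2, h3, h4, h5⟩
    have hDn : (D.subgroupOf (Subgroup.normalizer (Q : Set G))).Normal := by
      rw [Subgroup.normal_subgroupOf_iff_le_normalizer h2]; exact h3
    haveI : ((D.subgroupOf (Subgroup.normalizer (Q : Set G))).map c).Normal := hDn.map c hc
    have hp1 : IsPGroup p ↥((D.subgroupOf (Subgroup.normalizer (Q : Set G))).map c) := by
      rintro ⟨_, d, hd, rfl⟩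
      obtain ⟨k, hk⟩ := h4 d hd
      refine ⟨k, Subtype.ext ?_⟩
      show (c d) ^ p ^ k = 1
      rw [← map_pow, hker]
      exact hk
    have h6 := L0.le_pCore hp1
    refine ⟨c ⟨g, hg⟩, h6 ⟨⟨g, hg⟩, h5, rfl⟩, rfl⟩
  · rintro ⟨a, ha, hag⟩
    have hcg : c ⟨g, hg⟩ = a := Subtype.ext hag.symm
    set D0 := (pCore p ↥A).comap c with hD0
    haveI hD0n : D0.Normal := inferInstance
    refine ⟨D0.map (Subgroup.normalizer (Q : Set G)).subtype, ?_, Subgroup.map_subtype_le _, ?_, ?_, ?_⟩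
    · intro x hx
      refine ⟨⟨x, centralizer_le_norm _ hx⟩, ?_, rfl⟩
      show c _ ∈ pCore p A
      rw [(hker ⟨x, _⟩).2 hx]; exact Subgroup.one_mem _
    · have := (Subgroup.normal_subgroupOf_iff_le_normalizer
        (Subgroup.map_subtype_le D0)).1 (by
          rw [Subgroup.subgroupOf, Subgroup.comap_map_eq_self_of_injective (Subgroup.subtype_injective _)]; exact hD0n)
      exact this
    · rintro _ ⟨d, hd, rfl⟩
      obtain ⟨k, hk⟩ := L0.pCore_isPGroup p A ⟨_, hd⟩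
      refine ⟨k, ?_⟩
      have h1 : c (d ^ p ^ k) = 1 := by rw [map_pow]; exact congrArg Subtype.val hk
      exact (hker _).1 h1
    · exact ⟨⟨g, hg⟩, Subgroup.mem_comap.2 (by rw [hcg]; exact ha), rfl⟩

theorem autGroup_group (S : Sylow p G) {Q : Subgroup G} (hQ : Q ≤ S) :
    (groupFusionSystem (S : Subgroup G)).autGroup Q = autInducedBy ⊤ Q := by
  rw [L0.Fus.groupFusionSystem_eq]
  exact L0.Fus.autGroup_fso hQ

theorem quad_iff_aut {Q : Subgroup G} {g : G} (hg : g ∈ Subgroup.normalizer (Q : Set G)) {χ : MulAut Q}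
    (hχ : ∀ x : Q, ((χ x : Q) : G) = g * x * g⁻¹) :
    (∀ a : ↥Q, (χ a⁻¹) * a * (χ a⁻¹) * (χ (χ a)) = 1) ↔ ⁅⁅Q, Subgroup.zpowers g⁆, Subgroup.zpowers g⁆ = ⊥ := by
  have key : ∀ a : Q, (χ a⁻¹) * a * (χ a⁻¹) * (χ (χ a)) = 1 ↔
      g * ((a : G)⁻¹ * (g * a * g⁻¹)) * g⁻¹ = (a : G)⁻¹ * (g * a * g⁻¹) := by
    intro a
    rw [← Subtype.coe_inj]
    simp only [Subgroup.coe_mul, hχ, Subgroup.coe_inv, Subgroup.coe_one]
    have e : g * (a : G)⁻¹ * g⁻¹ * a * (g * (a : G)⁻¹ * g⁻¹) * (g * (g * a * g⁻¹) * g⁻¹) =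
        ((a : G)⁻¹ * (g * a * g⁻¹))⁻¹ * (g * ((a : G)⁻¹ * (g * a * g⁻¹)) * g⁻¹) := by group
    rw [e, inv_mul_eq_one, eq_comm]
  constructor
  · intro h
    apply quad_of_elem hg
    intro a ha
    have h1 := (key (⟨a, ha⟩ : Q)⁻¹).1 (h _)
    simp only [Subgroup.coe_inv, inv_inv] at h1
    -- `a * (g a⁻¹ g⁻¹)` is fixed
    have h2 : g * (g * a * g⁻¹ * a⁻¹) * g⁻¹ = g * a * g⁻¹ * a⁻¹ := by
      calc g * (g * a * g⁻¹ * a⁻¹) * g⁻¹ = (g * (a * (g * a⁻¹ * g⁻¹)) * g⁻¹)⁻¹ := by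
            simp only [mul_inv_rev, inv_inv, mul_assoc]
        _ = (a * (g * a⁻¹ * g⁻¹))⁻¹ := by rw [h1]
        _ = _ := by group
    calc (g * a * g⁻¹ * a⁻¹) * g = (g * (g * a * g⁻¹ * a⁻¹) * g⁻¹) * g := by rw [h2]
      _ = g * (g * a * g⁻¹ * a⁻¹) := by group
  · intro h a
    rw [key]
    have h2 := quad_elem h (Q.inv_mem a.2)
    calc g * ((a : G)⁻¹ * (g * a * g⁻¹)) * g⁻¹ = (g * (g * (a : G)⁻¹ * g⁻¹ * (a : G)⁻¹⁻¹) * g⁻¹)⁻¹ := by group
      _ = (g * (a : G)⁻¹ * g⁻¹ * (a : G)⁻¹⁻¹)⁻¹ := by rw [h2]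
      _ = _ := by group

theorem nps_iff_fps (S : Sylow p G) : IsNormalizerPStable p G ↔ FPS p (groupFusionSystem (S : Subgroup G)) := by
  rw [normalizerPStable_iff]
  constructor
  · intro h Q hQ χ hχ hquad
    have hQS : Q ≤ (S : Subgroup G) := hQ.1
    rw [autGroup_group S hQS] at hχ
    obtain ⟨g, -, hg⟩ := L0.Fus.mem_autInducedBy.1 hχ
    have hgN := L0.Fus.mem_normalizer_of_induced hg
    have h1 := h Q (S.2.to_le hQS) g hgN ((quad_iff_aut hgN hg).1 hquad)
    rw [npw_iff_aut hgN (autGroup_group S hQS)] at h1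
    have e : Q.normalizerMonoidHom ⟨g, hgN⟩ = χ := by
      ext x; exact (hg x).symm
    rwa [e] at h1
  · intro h P hP g hg hq
    obtain ⟨x, hx⟩ : ∃ x : G, P.map (MulAut.conj x).toMonoidHom ≤ S := by
      obtain ⟨x, -, hx⟩ := (sylow_sylIn_top S).exists_conj_le hP le_top
      exact ⟨x, hx⟩
    obtain ⟨y, hy, hyS⟩ := (L0.Fus.sylow_normalizer_representative S).1 _ hx
    set e : G ≃* G := (MulAut.conj x).trans (MulAut.conj y) with he
    have hmm : P.map e.toMonoidHom = (P.map (MulAut.conj x).toMonoidHom).map (MulAut.conj y).toMonoidHom := by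
      rw [Subgroup.map_map]; rfl
    set Q := P.map e.toMonoidHom with hQ
    have hfn : (groupFusionSystem (S : Subgroup G)).IsFullyNormalized Q := by
      rw [hmm, L0.Fus.group_fullyNormalized_iff S _ hy]
      exact hyS
    have hQS : Q ≤ (S : Subgroup G) := by rw [hmm]; exact hy
    have hgN : e g ∈ Subgroup.normalizer (Q : Set G) := by
      rw [mem_norm] at hg ⊢
      rw [hQ, show e g = e.toMonoidHom g from rfl, ← map_cj, hg]
    have hq' : ⁅⁅Q, Subgroup.zpowers (e g)⁆, Subgroup.zpowers (e g)⁆ = ⊥ := by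
      have := congrArg (Subgroup.map e.toMonoidHom) hq
      rw [Subgroup.map_commutator, Subgroup.map_commutator, Subgroup.map_bot, MonoidHom.map_zpowers] at this
      exact this
    have hχ : ∀ x : Q, ((Q.normalizerMonoidHom ⟨e g, hgN⟩ x : Q) : G) = e g * x * (e g)⁻¹ := fun x => rfl
    have h1 := h Q hfn (Q.normalizerMonoidHom ⟨e g, hgN⟩) (by
      rw [autGroup_group S hQS]
      exact L0.Fus.mem_autInducedBy.2 ⟨e g, Subgroup.mem_top _, hχ⟩) ((quad_iff_aut hgN hχ).2 hq')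
    rw [← npw_iff_aut hgN (autGroup_group S hQS)] at h1
    have h2 := h1.equiv e.symm
    rw [MulEquiv.symm_apply_apply, hQ, Subgroup.map_map] at h2
    have h3 : e.symm.toMonoidHom.comp e.toMonoidHom = MonoidHom.id G := by ext; simp
    rwa [h3, Subgroup.map_id] at h2

end
end Cfsg.Agent.H2
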