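import Cfsg.Agent.H2.QW
import Cfsg.Agent.H2.ZJ2
import Cfsg.Agent.H6.PNil4

set_option autoImplicit false
set_option linter.unusedSectionVars false
set_option linter.unusedSimpArgs false
set_option linter.unusedVariables false
set_option linter.style.haveILetI false
open Cfsg
open scoped commutatorElement

/-! Thompson's argument for the subgroup generated by the abelian subgroups of largest order (helper2). -/

namespace Cfsg.Agent.H2
open Cfsg.Agent.H6

section
variable {G : Type*} [Group G]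

/-- Thompson replacement for abelian `B` -/
theorem exists_replace_ab [Finite G] {p : ℕ} [hp : Fact p.Prime] {P B D A : Subgroup G}
    (hP : IsPGroup p P) [hBn : B.Normal] (hBP : B ≤ P) (hPD : P ≤ Subgroup.normalizer (D : Set G)) (hDP : D ≤ P)
    (hA : A ∈ AA 0 D) (hBA : ⁅B, B⁆ = ⊥) (hnot : ¬ B ≤ Subgroup.normalizer (A : Set G)) :
    ∃ A' ∈ AA 0 D, A' ≤ Subgroup.normalizer (A : Set G) ∧ A ⊓ B < A' ⊓ B := by
  classical
  set N := Subgroup.normalizer (A : Set G) ⊓ P with hN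
  have hAP : A ≤ P := hA.1.trans hDP
  have hAN : A ≤ N := le_inf Subgroup.le_normalizer hAP
  -- an element of `B` normalizing `N` but not in `N`
  obtain ⟨b, hbB, hbN, hbA⟩ : ∃ b ∈ B, b ∈ Subgroup.normalizer (N : Set G) ∧ b ∉ Subgroup.normalizer (A : Set G) := by
    have hlt : N < N ⊔ B := by
      refine lt_of_le_of_ne le_sup_left ?_
      intro he
      apply hnot
      have : B ≤ N := by rw [he]; exact le_sup_right
      exact this.trans inf_le_left
    have hNBP : N ⊔ B ≤ P := sup_le inf_le_right hBP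
    have hpg : IsPGroup p ↥(N ⊔ B) := hP.to_le hNBP
    haveI : Group.IsNilpotent ↥(N ⊔ B) := hpg.isNilpotent
    have hlt2 : N.subgroupOf (N ⊔ B) < ⊤ := by
      rw [lt_top_iff_ne_top]
      intro h
      rw [Subgroup.subgroupOf_eq_top] at h
      exact hlt.not_ge h
    obtain ⟨y, hyN, hyR⟩ := SetLike.exists_of_lt ((Group.normalizerCondition_of_isNilpotent (G := ↥(N ⊔ B))) _ hlt2)
    have hyN' : (y : G) ∈ Subgroup.normalizer (N : Set G) := by
      apply H2.mem_norm_of_conj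
      intro x hx
      have := (Subgroup.mem_normalizer_iff.mp hyN ⟨x, le_sup_left (a := N) hx⟩).1 hx
      exact this
    obtain ⟨n, hn, b, hb, hnb⟩ := Subgroup.mem_sup_of_normal_right.mp y.2
    refine ⟨b, hb, ?_, ?_⟩
    · have : b = n⁻¹ * y := by rw [← hnb]; group
      rw [this]
      exact Subgroup.mul_mem _ (Subgroup.inv_mem _ (Subgroup.le_normalizer hn)) hyN'
    · intro hbA
      apply hyR
      show (y : G) ∈ N
      rw [← hnb]
      exact N.mul_mem hn ⟨hbA, hBP hb⟩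
  have hw : ∀ w ∈ ⁅B, B⁆, b⁻¹ * w * b = w⁻¹ → w = 1 := by
    intro w hwB _
    rw [hBA, Subgroup.mem_bot] at hwB
    exact hwB
  have h : Rep A B ⁅B, B⁆ N (MulAut.conj b⁻¹) :=
    rep_of_conj hbB hA.2.1 (fun n hn a ha => (Subgroup.mem_normalizer_iff.mp hn.1 a).1 ha) hAN
      (Subgroup.mem_normalizer_iff.mp hbN) (hBA.le.trans bot_le) hw
  have hβ : ∀ x, (MulAut.conj b⁻¹) x = b⁻¹ * x * b := by intro x; rw [MulAut.conj_apply, inv_inv]
  obtain ⟨a, ha, hab⟩ : ∃ a ∈ A, (MulAut.conj b⁻¹) a ∉ A := by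
    by_contra hcon
    push Not at hcon
    apply hbA
    have h1 : b⁻¹ ∈ Subgroup.normalizer (A : Set G) := H2.mem_norm_of_conj (fun x hx => hcon x hx)
    have := Subgroup.inv_mem _ h1
    rwa [inv_inv] at this
  refine ⟨h.T, ⟨?_, h.T_comm, fun g _ => pow_zero g, ?_⟩, h.T_le_N.trans inf_le_left, ?_⟩
  · rintro _ ⟨z, c, hz, hc, rfl⟩
    have h1 : (MulAut.conj b⁻¹) c ∈ D := by
      have h2 := Subgroup.inv_mem _ (hPD (hBP hbB))
      exact (Subgroup.mem_normalizer_iff.mp h2 c).1 (hA.1 hc)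
    exact D.mul_mem (hA.1 (Rep.mem_Z.1 hz).1) (D.mul_mem (hA.1 hc) (D.inv_mem h1))
  · intro C hC hCc hCm
    rw [h.card_T]
    exact hA.2.2.2 C hC hCc hCm
  · refine lt_of_le_of_ne (le_inf (fun x hx => h.ZT (h.ABZ hx.1 hx.2)) inf_le_right) ?_
    intro he
    have h1 : a * ((MulAut.conj b⁻¹) a)⁻¹ ∈ h.T ⊓ B := ⟨h.xT ha, h.aB a⟩
    rw [← he] at h1
    apply hab
    have := A.mul_mem (A.inv_mem h1.1) ha
    have e : (a * ((MulAut.conj b⁻¹) a)⁻¹)⁻¹ * a = (MulAut.conj b⁻¹) a := by group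
    rwa [e] at this

/-- all members lie in `Q` if the normalized ones do -/
theorem all_le_of_norm [Finite G] {p : ℕ} [hp : Fact p.Prime] (T : Sylow p G) {Q V : Subgroup G} [hVn : V.Normal]
    (hVT : V ≤ (T : Subgroup G)) (hVQ : ∀ v ∈ V, ∀ q ∈ Q, q * v = v * q) (hVc : ⁅V, V⁆ = ⊥)
    (hN : ∀ A ∈ AA 0 (T : Subgroup G), V ≤ Subgroup.normalizer (A : Set G) → A ≤ Q) :
    ∀ A ∈ AA 0 (T : Subgroup G), A ≤ Q := by
  classical
  by_contra hcon
  push Not at hcon
  obtain ⟨A3, hA3, hA3'⟩ := hcon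
  have hne : ({A | A ∈ AA 0 (T : Subgroup G) ∧ ¬ A ≤ Q} : Set (Subgroup G)).Nonempty := ⟨A3, hA3, hA3'⟩
  have hfin2 : ({A | A ∈ AA 0 (T : Subgroup G) ∧ ¬ A ≤ Q} : Set (Subgroup G)).Finite := Set.toFinite _
  obtain ⟨A1, ⟨hA1, hA1'⟩, hmax1⟩ := Set.Finite.exists_maximalFor (fun A : Subgroup G => Nat.card ↥(A ⊓ V)) _ hfin2 hne
  have hnot : ¬ V ≤ Subgroup.normalizer (A1 : Set G) := fun h => hA1' (hN A1 hA1 h)
  obtain ⟨A', hA', hA'N, hlt'⟩ := exists_replace_ab T.2 hVT Subgroup.le_normalizer le_rfl hA1 hVc hnot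
  have h1 : Nat.card ↥(A1 ⊓ V) < Nat.card ↥(A' ⊓ V) := by
    apply lt_of_le_of_ne (Subgroup.card_le_of_le hlt'.le)
    intro h
    exact hlt'.ne (Subgroup.eq_of_le_of_card_ge hlt'.le h.ge)
  have hA'Q : A' ≤ Q := by
    by_contra h
    exact absurd (hmax1 ⟨hA', h⟩ h1.le) (not_le.mpr h1)
  apply hnot
  intro v hv
  exact hA'N (mem_of_centralize hA' (hVT hv) (pow_zero v) (fun a ha => hVQ v hv a (hA'Q ha)))

/-- if all members lie in the normal subgroup `Q`, the Thompson subgroup is normal -/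
theorem thompsonAOf_normal [Finite G] {p : ℕ} [hp : Fact p.Prime] (T : Sylow p G) {Q : Subgroup G} [hQn : Q.Normal]
    (hQT : Q ≤ (T : Subgroup G)) (hall : ∀ A ∈ AA 0 (T : Subgroup G), A ≤ Q) :
    (thompsonSubgroupAOf (T : Subgroup G)).Normal := by
  rw [thompsonAOf_eq]
  obtain ⟨A0, hA0⟩ := AA_nonempty 0 (T : Subgroup G)
  have h1 : AA 0 (T : Subgroup G) = AA 0 Q := by
    apply Set.Subset.antisymm
    · intro A hA
      exact (AA_restrict hQT hA (hall A hA)).1
    · exact (AA_restrict hQT hA0 (hall A0 hA0)).2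
  rw [h1]
  have key : ∀ g : G, (sSup (AA 0 Q)).map (MulAut.conj g).toMonoidHom ≤ sSup (AA 0 Q) := by
    intro g
    rw [Subgroup.map_le_iff_le_comap]
    apply sSup_le
    intro A hA
    rw [← Subgroup.map_le_iff_le_comap]
    apply le_sSup
    have h2 := AA_equiv (MulAut.conj g) hA
    have h3 : Q.map (MulAut.conj g).toMonoidHom = Q := H6.mem_norm.1 (norm_of_normal (⊤ : Subgroup G) (Subgroup.mem_top g))
    rwa [h3] at h2
  refine ⟨fun x hx g => key g ⟨x, hx, rfl⟩⟩

/-- coprime action trivial on the elements of order `p` of an abelian `p`-subgroup -/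
theorem cent_of_omega [Finite G] {p : ℕ} [hp : Fact p.Prime] {U : Subgroup G} (hUc : ∀ x ∈ U, ∀ y ∈ U, x * y = y * x) {x : G}
    (hx : (orderOf x).Coprime p) (hxU : ∀ u ∈ U, x * u * x⁻¹ ∈ U) (h1 : ∀ u ∈ U, u ^ p = 1 → x * u = u * x) :
    ∀ k : ℕ, ∀ u ∈ U, u ^ p ^ k = 1 → x * u = u * x := by
  intro k
  induction k with
  | zero => intro u hu h; rw [pow_zero, pow_one] at h; rw [h]; simp
  | succ k ih =>
    intro u hu h
    set w := x * u * x⁻¹ * u⁻¹ with hw
    have hwU : w ∈ U := U.mul_mem (hxU u hu) (U.inv_mem hu)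
    have hc : Commute (x * u * x⁻¹) u⁻¹ := hUc _ (hxU u hu) _ (U.inv_mem hu)
    have hup : x * u ^ p ^ k = u ^ p ^ k * x := by
      apply h1 _ (U.pow_mem hu _)
      rw [← pow_mul, ← pow_succ, h]
    have hwk : w ^ p ^ k = 1 := by
      rw [hw, hc.mul_pow, conj_pow, hup, inv_pow]; group
    have hxw : Commute x w := ih w hwU hwk
    have key : ∀ n : ℕ, x ^ n * u * (x ^ n)⁻¹ = w ^ n * u := by
      intro n
      induction n with
      | zero => simp
      | succ n ihn =>
        have e1 : x ^ (n + 1) * u * (x ^ (n + 1))⁻¹ = x * (x ^ n * u * (x ^ n)⁻¹) * x⁻¹ := by rw [pow_succ']; group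
        rw [e1, ihn]
        have e2 : x * (w ^ n * u) * x⁻¹ = (x * w ^ n * x⁻¹) * (x * u * x⁻¹) := by group
        have e3 : x * w ^ n * x⁻¹ = w ^ n := by rw [(hxw.pow_right n).eq]; group
        have e4 : x * u * x⁻¹ = w * u := by rw [hw]; group
        rw [e2, e3, e4, ← mul_assoc, ← pow_succ]
    have h2 := key (orderOf x)
    rw [pow_orderOf_eq_one] at h2
    have h3 : w ^ orderOf x = 1 := by
      have : 1 * u = w ^ orderOf x * u := by rw [← h2]; simp
      exact (mul_right_cancel this).symm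
    have h4 : w = 1 := by
      rw [← orderOf_eq_one_iff]
      exact Nat.eq_one_of_dvd_coprimes (Nat.Coprime.pow_right k hx) (orderOf_dvd_of_pow_eq_one h3)
        (orderOf_dvd_of_pow_eq_one hwk)
    calc x * u = (x * u * x⁻¹ * u⁻¹) * (u * x) := by group
      _ = u * x := by rw [← hw, h4, one_mul]

/-- the module `V` of the reduced situation -/
theorem exists_V [Finite G] {p : ℕ} [hp : Fact p.Prime] (T : Sylow p G)
    (hc : Subgroup.centralizer ((pCore p G : Subgroup G) : Set G) ≤ pCore p G)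
    (hZ : Subgroup.centralizer (((T : Subgroup G) ⊓ Subgroup.centralizer ((T : Subgroup G) : Set G) : Subgroup G) : Set G) ≤ T) :
    ∃ V : Subgroup G, V.Normal ∧ V ≤ pCore p G ∧ (∀ v ∈ V, ∀ q ∈ pCore p G, q * v = v * q) ∧ (∀ v ∈ V, v ^ p = 1) ∧
      Subgroup.centralizer (V : Set G) ≤ pCore p G := by
  set Q := pCore p G with hQ
  set Z := (T : Subgroup G) ⊓ Subgroup.centralizer ((T : Subgroup G) : Set G) with hZdef
  set U := Subgroup.normalClosure (Z : Set G) with hU
  have hQT : Q ≤ (T : Subgroup G) := L0.pCore_le_sylow T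
  haveI hCn : (Subgroup.centralizer (Q : Set G)).Normal := by
    apply normal_of_norm
    exact le_norm_centralizer (norm_of_normal ⊤)
  have hUC : U ≤ Subgroup.centralizer (Q : Set G) := by
    apply Subgroup.normalClosure_le_normal
    intro z hz
    exact (Subgroup.centralizer_le hQT) hz.2
  have hUQ : U ≤ Q := hUC.trans hc
  have hUc : ∀ x ∈ U, ∀ y ∈ U, x * y = y * x := fun x hx y hy =>
    (Subgroup.mem_centralizer_iff.1 (hUC hy)) x (hUQ hx)
  let V : Subgroup G :=
    { carrier := {u | u ∈ U ∧ u ^ p = 1}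
      one_mem' := ⟨U.one_mem, one_pow _⟩
      mul_mem' := by
        rintro x y ⟨hx, hx1⟩ ⟨hy, hy1⟩
        refine ⟨U.mul_mem hx hy, ?_⟩
        rw [(show Commute x y from hUc x hx y hy).mul_pow, hx1, hy1, one_mul]
      inv_mem' := by
        rintro x ⟨hx, hx1⟩
        exact ⟨U.inv_mem hx, by rw [inv_pow, hx1, inv_one]⟩ }
  have hVm : ∀ v, v ∈ V ↔ v ∈ U ∧ v ^ p = 1 := fun v => Iff.rfl
  haveI hVn : V.Normal := by
    constructor
    intro v hv g
    obtain ⟨h1, h2⟩ := (hVm v).1 hv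
    refine (hVm _).2 ⟨(inferInstance : U.Normal).conj_mem v h1 g, ?_⟩
    rw [conj_pow, h2]; simp
  refine ⟨V, hVn, fun v hv => hUQ ((hVm v).1 hv).1, ?_, fun v hv => ((hVm v).1 hv).2, ?_⟩
  · intro v hv q hq
    exact (Subgroup.mem_centralizer_iff.1 (hUC ((hVm v).1 hv).1)) q hq
  · haveI hCVn : (Subgroup.centralizer (V : Set G)).Normal := by
      apply normal_of_norm
      exact le_norm_centralizer (norm_of_normal ⊤)
    apply L0.le_pCore
    rintro ⟨x, hx⟩
    obtain ⟨k, hk⟩ := pow_mem_opR (p := p) (Subgroup.mem_top x)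
    -- split off the `p'`-part
    obtain ⟨k, m, hm, hn⟩ := Nat.exists_eq_pow_mul_and_not_dvd (orderOf_pos x).ne' p hp.out.ne_one
    refine ⟨k, Subtype.ext ?_⟩
    show x ^ p ^ k = 1
    set y := x ^ p ^ k with hy
    have hym : orderOf y ∣ m := by
      apply orderOf_dvd_of_pow_eq_one
      rw [hy, ← pow_mul, ← hn, pow_orderOf_eq_one]
    have hyp : (orderOf y).Coprime p :=
      Nat.Coprime.coprime_dvd_left hym ((Nat.Prime.coprime_iff_not_dvd hp.out).2 hm).symm
    have hyV : ∀ u ∈ U, u ^ p = 1 → y * u = u * y := by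
      intro u hu h1
      have h2 : x * u = u * x := ((Subgroup.mem_centralizer_iff.1 hx) u ((hVm u).2 ⟨hu, h1⟩)).symm
      exact ((show Commute x u from h2).pow_left _).eq
    have hyU : ∀ u ∈ U, y * u = u * y := by
      intro u hu
      obtain ⟨j, hj⟩ := L0.pCore_isPGroup p G ⟨u, hUQ hu⟩
      exact cent_of_omega hUc hyp (fun u hu => (inferInstance : U.Normal).conj_mem u hu y) hyV j u hu
        (congrArg Subtype.val hj)
    have hyT : y ∈ (T : Subgroup G) := by
      apply hZ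
      rw [Subgroup.mem_centralizer_iff]
      intro z hz
      exact (hyU z (Subgroup.subset_normalClosure hz)).symm
    obtain ⟨j, hj⟩ := T.2 ⟨y, hyT⟩
    have hj' : y ^ p ^ j = 1 := congrArg Subtype.val hj
    rw [← orderOf_eq_one_iff]
    exact Nat.eq_one_of_dvd_coprimes (Nat.Coprime.pow_right j hyp) dvd_rfl (orderOf_dvd_of_pow_eq_one hj')

theorem self_cent_of_coatom {p : ℕ} [hp : Fact p.Prime] [Finite G] (S : Sylow p G) (hS : IsCoatom (S : Subgroup G))
    (hG : PN p (⊤ : Subgroup G)) (hO : pCore p G = ⊥) :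
    Subgroup.centralizer ((opR p (⊤ : Subgroup G) : Subgroup G) : Set G) ≤ opR p (⊤ : Subgroup G) := by
  obtain ⟨hmin, habel⟩ := coatom_facts S hS hG
  set Q := opR p (⊤ : Subgroup G) with hQ
  haveI hQn : Q.Normal := inferInstance
  have hcommQ : ∀ x ∈ Q, ∀ y ∈ Q, x * y = y * x := by
    intro x hx y hy
    have h1 : ⁅x, y⁆ ∈ ⁅Q, Q⁆ := Subgroup.commutator_mem_commutator hx hy
    rw [habel, Subgroup.mem_bot, commutatorElement_eq_one_iff_mul_comm] at h1
    exact h1
  have hCn : ((S : Subgroup G) ⊓ Subgroup.centralizer ((Q : Subgroup G) : Set G)).Normal := by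
    apply normal_of_norm
    refine (top_le_opR_sup S).trans (sup_le ?_ ?_)
    · have h1 : Q ≤ Subgroup.centralizer (((S : Subgroup G) ⊓
          Subgroup.centralizer ((Q : Subgroup G) : Set G) : Subgroup G) : Set G) := by
        rw [Subgroup.le_centralizer_iff]; exact inf_le_right
      exact h1.trans (centralizer_le_norm _)
    · exact le_norm_inf Subgroup.le_normalizer (le_norm_centralizer (norm_of_normal _))
  have h1 : (S : Subgroup G) ⊓ Subgroup.centralizer ((Q : Subgroup G) : Set G) ≤ pCore p G :=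
    L0.le_pCore (S.2.to_le inf_le_left)
  rw [hO, le_bot_iff] at h1
  intro c hc
  obtain ⟨r, hr, s, hs, hrs⟩ := H6.mem_sup_normal.1 (show c ∈ (S : Subgroup G) ⊔ Q by
    rw [sup_comm]; exact top_le_opR_sup S (Subgroup.mem_top c))
  have h2 : r ∈ (S : Subgroup G) ⊓ Subgroup.centralizer ((Q : Subgroup G) : Set G) := by
    refine ⟨hr, ?_⟩
    have e : r = c * s⁻¹ := by rw [← hrs]; group
    show r ∈ Subgroup.centralizer ((Q : Subgroup G) : Set G)
    rw [e]
    refine Subgroup.mul_mem _ hc (Subgroup.inv_mem _ ?_)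
    rw [Subgroup.mem_centralizer_iff]
    intro y hy
    exact hcommQ y hy s hs
  rw [h1, Subgroup.mem_bot] at h2
  rw [← hrs, h2, one_mul]; exact hs


/-- the image of the maximal Sylow subgroup -/
theorem coatom_quot [Finite G] {p : ℕ} [hp : Fact p.Prime] (S : Sylow p G) (h3 : IsCoatom (S : Subgroup G)) {T : Subgroup G}
    [T.Normal] (hTS : T ≤ (S : Subgroup G)) :
    IsCoatom ((S.mapSurjective (QuotientGroup.mk'_surjective T) : Sylow p (G ⧸ T)) : Subgroup (G ⧸ T)) := by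
  set f := QuotientGroup.mk' T with hf
  have hfs : Function.Surjective f := QuotientGroup.mk'_surjective T
  rw [Sylow.coe_mapSurjective]
  have hcomap : ((S : Subgroup G).map f).comap f = S := by
    rw [comap_map_mk', sup_eq_left.2 hTS]
  constructor
  · intro h
    apply h3.1
    rw [← hcomap, h, Subgroup.comap_top]
  · intro K hK
    have h5 : (S : Subgroup G) < K.comap f := by
      rw [← hcomap]
      exact (Subgroup.comap_lt_comap_of_surjective hfs).2 hK
    have h6 := h3.2 _ h5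
    rw [← Subgroup.map_comap_eq_self_of_surjective hfs K, h6, Subgroup.map_top_of_surjective f hfs]

/-- the counting inequality for abelian subgroups of largest order -/
theorem count_AA [Finite G] {T A Q V : Subgroup G} (hA : A ∈ AA 0 T) (hVT : V ≤ T) [hQn : Q.Normal]
    (hVQ : ∀ v ∈ V, ∀ q ∈ Q, q * v = v * q) (hVc : ∀ v ∈ V, ∀ w ∈ V, v * w = w * v) (hVle : V ≤ Q) :
    (V ⊓ Subgroup.centralizer (A : Set G)).relIndex V ≤ (A ⊓ Q).relIndex A := by
  have hAV : A ⊓ Q ⊓ V = V ⊓ Subgroup.centralizer (A : Set G) := by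
    apply le_antisymm
    · rintro x ⟨⟨hx1, hx2⟩, hx3⟩
      refine ⟨hx3, Subgroup.mem_centralizer_iff.2 ?_⟩
      intro a ha
      exact hA.2.1 a ha x hx1
    · rintro x ⟨hx1, hx2⟩
      exact ⟨⟨mem_of_centralize hA (hVT hx1) (pow_zero x) (fun a ha => Subgroup.mem_centralizer_iff.1 hx2 a ha), hVle hx1⟩, hx1⟩
  have hn : V ≤ Subgroup.normalizer ((A ⊓ Q : Subgroup G) : Set G) := by
    intro v hv
    apply H2.mem_norm_of_conj
    intro x hx
    have h1 := hVQ v hv x hx.2
    have : v * x * v⁻¹ = x := by rw [← h1]; group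
    rw [this]; exact hx
  set C := (A ⊓ Q) ⊔ V with hC
  have hCmem : ∀ c ∈ C, ∃ a ∈ A ⊓ Q, ∃ v ∈ V, c = a * v := by
    intro c hc
    obtain ⟨a, ha, v, hv, h⟩ := (L0.mem_sup_of_normalizes hn).1 hc
    exact ⟨a, ha, v, hv, h.symm⟩
  have hCle : Nat.card C ≤ Nat.card A := by
    apply hA.2.2.2 C
    · exact sup_le (inf_le_left.trans hA.1) hVT
    · intro x hx y hy
      obtain ⟨a, ha, v, hv, rfl⟩ := hCmem x hx
      obtain ⟨b, hb, w, hw, rfl⟩ := hCmem y hy
      have h1 : Commute a b := hA.2.1 a ha.1 b hb.1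
      have h2 : Commute a w := hVQ w hw a ha.2
      have h3 : Commute v b := (hVQ v hv b hb.2).symm
      have h4 : Commute v w := hVc v hv w hw
      exact ((h1.mul_right h2).mul_left (h3.mul_right h4)).eq
    · intro x _; exact pow_zero x
  have h1 : Nat.card ↥(A ⊓ Q : Subgroup G) * (A ⊓ Q).relIndex C = Nat.card C := by
    have := Subgroup.relIndex_mul_relIndex ⊥ (A ⊓ Q) C bot_le le_sup_left
    rwa [Subgroup.relIndex_bot_left, Subgroup.relIndex_bot_left] at this
  have h2 : Nat.card ↥(A ⊓ Q : Subgroup G) * (A ⊓ Q).relIndex A = Nat.card A := by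
    have := Subgroup.relIndex_mul_relIndex ⊥ (A ⊓ Q) A bot_le inf_le_left
    rwa [Subgroup.relIndex_bot_left, Subgroup.relIndex_bot_left] at this
  have h3 : (A ⊓ Q).relIndex C = (V ⊓ Subgroup.centralizer (A : Set G)).relIndex V := by
    rw [hC, L0.relIndex_sup_of_normalizes hn, ← hAV, Subgroup.inf_relIndex_right]
  rw [← h3]
  have h4 : 0 < Nat.card ↥(A ⊓ Q : Subgroup G) := Nat.card_pos
  rw [← h1, ← h2] at hCle
  exact Nat.le_of_mul_le_mul_left hCle h4

/-- **`p = 2`**: normalized members lie in the core, or there is an `S₄`-section -/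
theorem le_core_two [Finite G] (T : Sylow 2 G) (hc : Subgroup.centralizer ((pCore 2 G : Subgroup G) : Set G) ≤ pCore 2 G)
    (hco : IsCoatom (T : Subgroup G)) (hq : PN 2 (⊤ : Subgroup (G ⧸ pCore 2 G))) (hS4 : ¬ Sec (Equiv.Perm (Fin 4)) G)
    {V : Subgroup G} [hVn : V.Normal] (hVQ : V ≤ pCore 2 G) (hVc : ∀ v ∈ V, ∀ q ∈ pCore 2 G, q * v = v * q)
    (hV2 : ∀ v ∈ V, v ^ 2 = 1) (hCV : Subgroup.centralizer (V : Set G) ≤ pCore 2 G)
    {A : Subgroup G} (hA : A ∈ AA 0 (T : Subgroup G)) (hVA : V ≤ Subgroup.normalizer (A : Set G)) : A ≤ pCore 2 G := by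
  by_contra hAQ
  apply hS4
  set Q := pCore 2 G with hQ
  haveI hQn : Q.Normal := inferInstance
  have hQ2 : IsPGroup 2 ↥Q := L0.pCore_isPGroup 2 G
  have hQT : Q ≤ (T : Subgroup G) := L0.pCore_le_sylow T
  have hW : QW Q V := ⟨inferInstance, hVn, hQ2, hVQ, fun v hv q hq => (hVc v hv q hq).symm, hV2, hCV⟩
  set f := QuotientGroup.mk' Q with hf
  have hfm : ∀ g : G, f g = 1 ↔ g ∈ Q := fun g => QuotientGroup.eq_one_iff g
  have hcob := coatom_quot T hco hQT
  set R := opR 2 (⊤ : Subgroup (G ⧸ Q)) with hR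
  have hOq : pCore 2 (G ⧸ Q) = ⊥ := L0.pCore_quotient_pCore 2 G
  have hself : Subgroup.centralizer (R : Set (G ⧸ Q)) ≤ R := self_cent_of_coatom _ hcob hq hOq
  have hRodd : Odd (Nat.card R) := Nat.coprime_two_right.1 hq
  have hVcomm : ∀ v ∈ V, ∀ w ∈ V, v * w = w * v := fun v hv w hw => (hVc w hw v (hVQ hv))
  have hA2 : ∀ a ∈ A, a ^ 2 ∈ Q := by
    intro a ha
    apply hCV
    rw [Subgroup.mem_centralizer_iff]
    intro v hv
    set w := v * a * v⁻¹ * a⁻¹ with hw
    have hwA : w ∈ A := A.mul_mem ((Subgroup.mem_normalizer_iff.1 (hVA hv) a).1 ha) (A.inv_mem ha)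
    have hwV : w ∈ V := by
      have e : w = v * (a * v⁻¹ * a⁻¹) := by rw [hw]; group
      rw [e]; exact V.mul_mem hv (hVn.conj_mem _ (V.inv_mem hv) a)
    have h1 : a * w = w * a := hA.2.1 a ha w hwA
    have h2 := hV2 w hwV
    have h3 : w * v = v * w := hVcomm w hwV v hv
    -- `v a = w a v`
    have h4 : v * a = w * (a * v) := by rw [hw]; group
    calc v * a ^ 2 = (v * a) * a := by rw [pow_two]; group
      _ = w * (a * v) * a := by rw [h4]
      _ = w * a * (v * a) := by group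
      _ = w * a * (w * (a * v)) := by rw [h4]
      _ = w * (a * w) * (a * v) := by group
      _ = w * (w * a) * (a * v) := by rw [h1]
      _ = w ^ 2 * (a ^ 2 * v) := by rw [pow_two, pow_two]; group
      _ = a ^ 2 * v := by rw [h2, one_mul]
  obtain ⟨-, h2⟩ := hW.chain T.2 (hVQ.trans hQT) (R := R) hRodd hself (A := A) hA.1 hA.2.1 hA2 _ A le_rfl rfl
  obtain ⟨a, haA, haQ, haC⟩ := h2 hAQ (count_AA hA (hVQ.trans hQT) hVc hVcomm hVQ)
  have haT := hA.1 haA
  -- an element of `R` not centralized by `a`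
  have hex : ∃ x' ∈ R, x' * f a ≠ f a * x' := by
    by_contra hcon
    push Not at hcon
    have h1 : f a ∈ R := hself (Subgroup.mem_centralizer_iff.2 hcon)
    obtain ⟨k, hk⟩ := T.2 ⟨a, haT⟩
    have hk' : a ^ 2 ^ k = 1 := congrArg Subtype.val hk
    have h3 : orderOf (f a) ∣ 2 ^ k := orderOf_dvd_of_pow_eq_one (by rw [← map_pow, hk', map_one])
    have h4 : orderOf (f a) ∣ Nat.card R := orderOf_dvd_card_of_mem h1
    have h5 : f a = 1 := by
      rw [← orderOf_eq_one_iff]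
      exact Nat.eq_one_of_dvd_coprimes (Nat.Coprime.pow_left k (Nat.coprime_two_left.2 hRodd)) h3 h4
    exact haQ ((hfm a).1 h5)
  obtain ⟨x', hx'R, hx'a⟩ := hex
  obtain ⟨x, rfl⟩ := QuotientGroup.mk'_surjective Q x'
  change f x ∈ R at hx'R
  have hyR : f (x * a * x⁻¹ * a⁻¹) ∈ R := by
    have e : f (x * a * x⁻¹ * a⁻¹) = f x * (f a * (f x)⁻¹ * (f a)⁻¹) := by
      simp only [map_mul, map_inv]; group
    rw [e]
    exact R.mul_mem hx'R ((inferInstance : R.Normal).conj_mem _ (R.inv_mem hx'R) (f a))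
  refine hW.sec T.2 hQT (a := a) (x := x) haT (hA2 a haA) (m := Nat.card R) hRodd ?_ ?_ haC
  · rw [← hfm, map_pow]
    have := pow_card_eq_one' (x := (⟨_, hyR⟩ : ↥R))
    exact congrArg Subtype.val this
  · intro h1
    rw [← hfm] at h1
    apply hx'a
    have e : f (x * a * x⁻¹ * a⁻¹) = (f x * f a) * (f a * f x)⁻¹ := by
      simp only [map_mul, map_inv]; group
    rw [e] at h1
    exact mul_inv_eq_one.1 h1

end
end Cfsg.Agent.H2
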