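import Cfsg.Agent.H2.GrpFree
import Cfsg.Agent.H2.ThomAb

set_option autoImplicit false
set_option linter.unusedSectionVars false
set_option linter.unusedSimpArgs false
set_option linter.unusedVariables false
set_option linter.style.haveILetI false
open Pointwise
open scoped commutatorElement

/-! Thompson's normal `p`-complement theorem for fusion systems (helper2). -/

namespace Cfsg.Agent.H2
open Cfsg Cfsg.Agent.L0 Cfsg.Agent.L0.Fus Cfsg.FusionSystem Cfsg.Agent.H6

universe u v w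

section
variable {p : ℕ} [hp : Fact p.Prime]

/-- in a minimal situation the Sylow subgroup is maximal in the model -/
theorem coatom_of_min' {Ω : Type u} [Group Ω] {S : Subgroup Ω} [Finite S] {F : FusionSystem S}
    {G : Type v} [Group G] {ι : S →* G} (hG : F.IsModel p G ι) (hni : ¬ F ≤ innerFusionSystem S)
    (hmin : ∀ (M : Subgroup G) (hM : ι.range ≤ M), ¬ F.IsSubsystemOf (realSys ι hG.2.1.1 M hM) →
      realSys ι hG.2.1.1 M hM ≤ innerFusionSystem S)
    (T : Sylow p G) (hT : (T : Subgroup G) = ι.range) : IsCoatom (T : Subgroup G) := by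
  haveI : Finite G := hG.1
  constructor
  · intro htop
    apply hni
    refine inner_of_model hG.2.1 T hT (npc_iff.2 ?_)
    rw [← htop]
    exact pn_of_pgroup T.2
  · intro M hTM
    by_contra hM
    have hιM : ι.range ≤ M := hT ▸ hTM.le
    have hE := realSys_realized ι hG.2.1.1 M hιM
    obtain ⟨T', hT'⟩ := realSys_sylow ι M hιM T hT
    have hnot : ¬ F.IsSubsystemOf (realSys ι hG.2.1.1 M hιM) := by
      intro hFE
      apply hM
      rw [eq_top_iff]
      intro g _
      obtain ⟨R, hR, hRp⟩ := model_core_pre hG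
      have hmemR : ∀ x : R, ι ⟨x, hR.1 x.2⟩ ∈ pCore p G := fun x => by rw [← hRp]; exact ⟨⟨x, hR.1 x.2⟩, x.2, rfl⟩
      obtain ⟨φ, hφ, hφS, h1⟩ := exists_hom_of_conj hG.2.1 g hR.1 (fun x => by
        have h2 : g * ι ⟨x, hR.1 x.2⟩ * g⁻¹ ∈ pCore p G := (inferInstance : (pCore p G).Normal).conj_mem _ (hmemR x) g
        rw [← hRp] at h2
        obtain ⟨y, hy, hyx⟩ := h2
        exact ⟨y, hyx⟩)
      have hφE := hFE R hφ
      obtain ⟨hP', hφ', m, hmM, hm⟩ := hφE
      have h3 : m⁻¹ * g ∈ pCore p G := by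
        apply hG.2.2.2
        rw [Subgroup.mem_centralizer_iff]
        intro y hy
        have hy' : y ∈ (R.subgroupOf S).map ι := by rw [hRp]; exact hy
        obtain ⟨x, hx, rfl⟩ := hy'
        have e1 := h1 ⟨x, hx⟩
        have e2 := hm ⟨x, hx⟩
        have e4 := e1.symm.trans e2
        change g * ι x * g⁻¹ = m * ι x * m⁻¹ at e4
        calc ι x * (m⁻¹ * g) = m⁻¹ * (m * ι x * m⁻¹) * g := by group
          _ = m⁻¹ * (g * ι x * g⁻¹) * g := by rw [e4]
          _ = m⁻¹ * g * ι x := by group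
      have h4 : pCore p G ≤ M := (pCore_le_sylow T).trans hTM.le
      have h5 : g = m * (m⁻¹ * g) := by group
      rw [h5]; exact M.mul_mem hmM (h4 h3)
    have hin := hmin M hιM hnot
    have h1 := npc_of_inner_real hE T' hT' hin
    rw [npc_iff, pn_top_iff] at h1
    have h2 := pgroup_of_pn h1 hG.2.2.2 ((pCore_le_sylow T).trans hTM.le)
    exact hTM.ne (T.3 h2 hTM.le).symm

/-- innerness of the factor system by the core gives `p`-nilpotence of the quotient -/
theorem pn_quot_of_inner_factor {Ω : Type u} [Group Ω] {S : Subgroup Ω} [Finite S] {F : FusionSystem S}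
    (hS : IsPGroup p S) (hF : F.IsSaturated p) {G : Type v} [Group G] {ι : S →* G} (hG : F.IsModel p G ι) [Finite G]
    (T : Sylow p G) (hT : (T : Subgroup G) = ι.range) {Ω' : Type w} [Group Ω'] {S' : Subgroup Ω'}
    {θ : S →* Ω'} {E : FusionSystem S'} (hE : F.IsFactorSystem F.core θ E) (hin : E ≤ innerFusionSystem S') :
    PN p (⊤ : Subgroup (G ⧸ pCore p G)) := by
  rw [← npc_iff]
  set O := pCore p G with hO
  set f := QuotientGroup.mk' O with hf
  have hfs : Function.Surjective f := QuotientGroup.mk'_surjective O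
  have hOT : O ≤ (T : Subgroup G) := pCore_le_sylow T
  have hf1 : ∀ g, f g = 1 ↔ g ∈ O := fun g => QuotientGroup.eq_one_iff g
  have hcore : (F.core.subgroupOf S).map ι = O := model_core hS hG
  have hsm := factor_surjectiveMorphism hS hF (stronglyClosed_of_normal (core_normal F)) hE
  refine npc_of_inner (T.mapSurjective hfs) ?_
  rw [Sylow.coe_mapSurjective]
  intro Qb gb hQb hgb
  obtain ⟨g, rfl⟩ := hfs gb
  have hcomap : ∀ x : G, f x ∈ (T : Subgroup G).map f → x ∈ (T : Subgroup G) := by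
    rintro x ⟨t, ht, htx⟩
    have h1 : t⁻¹ * x ∈ O := by rw [← hf1, map_mul, map_inv, htx, inv_mul_cancel]
    have h2 : x = t * (t⁻¹ * x) := by group
    rw [h2]; exact (T : Subgroup G).mul_mem ht (hOT h1)
  set P : Subgroup Ω := ((Qb.comap f).comap ι).map S.subtype with hP
  have hPS : P ≤ S := Subgroup.map_subtype_le _
  have hPm : ∀ x : S, (x : Ω) ∈ P ↔ f (ι x) ∈ Qb := fun x => by
    constructor
    · rintro ⟨y, hy, hyx⟩
      have : y = x := Subtype.ext hyx
      rw [← this]; exact hy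
    · intro h; exact ⟨x, h, rfl⟩
  obtain ⟨φ, hφ, hφS, h1⟩ := exists_hom_of_conj hG.2.1 g hPS (by
    intro x
    have h2 : f (ι ⟨x, hPS x.2⟩) ∈ Qb := (hPm ⟨x, hPS x.2⟩).1 x.2
    have h3 := hgb _ h2
    rw [← map_inv, ← map_mul, ← map_mul] at h3
    rw [← hT]
    exact hcomap _ h3)
  obtain ⟨φ', hφ', hP', hφS', hm, hind⟩ := hsm.1.2 P φ hφ
  obtain ⟨-, s', hs', hsx⟩ := hin _ hφ'
  obtain ⟨s, hs⟩ : ∃ s : S, θ s = s' := by
    have : s' ∈ θ.range := by rw [hsm.2.1]; exact hs'
    exact this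
  refine ⟨f (ι s), ⟨ι s, by rw [hT]; exact ⟨s, rfl⟩, rfl⟩, ?_⟩
  intro xb hxb
  obtain ⟨t, ht, htx⟩ := hQb hxb
  rw [SetLike.mem_coe, hT] at ht
  obtain ⟨x, rfl⟩ := ht
  have hxP : (x : Ω) ∈ P := (hPm x).2 (by rw [htx]; exact hxb)
  have h2 := hind ⟨x, hxP⟩
  rw [hsx] at h2
  have h3 : (⟨((⟨(x : Ω), hxP⟩ : P) : Ω), hP' hxP⟩ : S) = x := rfl
  change s' * θ ⟨((⟨(x : Ω), hxP⟩ : P) : Ω), hP' hxP⟩ * s'⁻¹ = θ ⟨φ ⟨x, hxP⟩, hφS' _⟩ at h2
  rw [h3, ← hs, ← map_inv, ← map_mul, ← map_mul] at h2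
  -- same image under `θ`, so same image under `f ∘ ι`
  have h4 : f (ι (s * x * s⁻¹)) = f (ι ⟨φ ⟨x, hxP⟩, hφS' _⟩) := by
    have h5 : θ ((s * x * s⁻¹)⁻¹ * ⟨φ ⟨x, hxP⟩, hφS' _⟩) = 1 := by
      rw [map_mul, map_inv, h2, inv_mul_cancel]
    rw [hE.2.1] at h5
    have h6 : ι ((s * x * s⁻¹)⁻¹ * ⟨φ ⟨x, hxP⟩, hφS' _⟩) ∈ O := by
      rw [← hcore]; exact ⟨_, h5, rfl⟩
    rw [← hf1, map_mul, map_inv, map_mul, map_inv, inv_mul_eq_one] at h6
    exact h6
  have h5 := h1 ⟨x, hxP⟩
  change _ = g * ι x * g⁻¹ at h5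
  have h6 : f (ι (s * x * s⁻¹)) = f (g * ι x * g⁻¹) := by rw [h4, h5]
  simp only [map_mul, map_inv] at h6
  rw [← htx]; exact h6

/-- **Thompson's theorem** in the reduced situation -/
theorem thompson_local {G : Type u} [Group G] [Finite G] (T : Sylow p G) (hc : Cons p G) (hco : IsCoatom (T : Subgroup G))
    (hq : PN p (⊤ : Subgroup (G ⧸ pCore p G))) (h : p ≠ 2 ∨ ¬ Sec (Equiv.Perm (Fin 4)) G)
    (hC : PN p (Subgroup.centralizer (((T : Subgroup G) ⊓ Subgroup.centralizer ((T : Subgroup G) : Set G) : Subgroup G) : Set G)))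
    (hN : PN p (Subgroup.normalizer ((thompsonSubgroupAOf (T : Subgroup G) : Subgroup G) : Set G))) :
    PN p (⊤ : Subgroup G) := by
  by_contra hn
  have hTC : (T : Subgroup G) ≤ Subgroup.centralizer (((T : Subgroup G) ⊓ Subgroup.centralizer ((T : Subgroup G) : Set G) : Subgroup G) : Set G) := by
    rw [Subgroup.le_centralizer_iff]; exact inf_le_right
  have hZ : Subgroup.centralizer (((T : Subgroup G) ⊓ Subgroup.centralizer ((T : Subgroup G) : Set G) : Subgroup G) : Set G) ≤ T := by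
    rcases hco.le_iff.1 hTC with h1 | h1
    · exact absurd (h1 ▸ hC) hn
    · exact h1.le
  obtain ⟨V, hVn, hVQ, hVc, hVp, hCV⟩ := exists_V T hc hZ
  haveI := hVn
  haveI : (pCore p G).Normal := inferInstance
  have hQT : pCore p G ≤ (T : Subgroup G) := L0.pCore_le_sylow T
  have hVab : ⁅V, V⁆ = ⊥ := by
    rw [eq_bot_iff, Subgroup.commutator_le]
    intro x hx y hy
    rw [Subgroup.mem_bot, commutatorElement_eq_one_iff_mul_comm]
    exact hVc y hy x (hVQ hx)
  have hall := all_le_of_norm T (Q := pCore p G) (hVQ.trans hQT) hVc hVab ?_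
  · have h1 := thompsonAOf_normal T hQT hall
    apply hn
    have h2 : Subgroup.normalizer ((thompsonSubgroupAOf (T : Subgroup G) : Subgroup G) : Set G) = ⊤ :=
      Subgroup.normalizer_eq_top_iff.2 h1
    rwa [h2] at hN
  · intro A hA hVA
    by_cases hp2 : p = 2
    · subst hp2
      exact le_core_two T hc hco hq (h.resolve_left (by simp)) hVQ hVc hVp hCV hA hVA
    · intro a ha
      obtain ⟨E, hEn, hCE, hE, haE⟩ := goodEl_of_coatom hp2 T hq hco V ((L0.pCore_isPGroup p G).to_le hVQ) a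
        (comm_le_of_norm hA.2.1 hVA ha)
      have hEp : IsPGroup p E := by
        rintro ⟨e, he⟩
        obtain ⟨k, hk⟩ := hE e he
        obtain ⟨j, hj⟩ := L0.pCore_isPGroup p G ⟨_, hCV hk⟩
        refine ⟨k + j, Subtype.ext ?_⟩
        have h2 := congrArg Subtype.val hj
        simp only [SubmonoidClass.coe_pow, Subgroup.coe_one] at h2 ⊢
        rw [pow_add, pow_mul]; exact h2
      exact L0.le_pCore hEp haE


theorem thompson_cons (n : ℕ) : ∀ (G : Type u) [Group G] [Finite G], Nat.card G = n → ∀ (T : Sylow p G), Cons p G →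
    PN p (⊤ : Subgroup (G ⧸ pCore p G)) → (p ≠ 2 ∨ ¬ Sec (Equiv.Perm (Fin 4)) G) →
    PN p (Subgroup.centralizer (((T : Subgroup G) ⊓ Subgroup.centralizer ((T : Subgroup G) : Set G) : Subgroup G) : Set G)) →
    PN p (Subgroup.normalizer ((thompsonSubgroupAOf (T : Subgroup G) : Subgroup G) : Set G)) →
    PN p (⊤ : Subgroup G) := by
  induction n using Nat.strong_induction_on with
  | _ n ih =>
  intro G _ _ hn T hc hq h hC hN
  by_contra hnot
  have hOT : pCore p G ≤ (T : Subgroup G) := pCore_le_sylow T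
  have hco : IsCoatom (T : Subgroup G) := by
    constructor
    · intro htop
      apply hnot
      rw [← htop]
      exact pn_of_pgroup T.2
    · intro M hTM
      by_contra hM
      have hOM : pCore p G ≤ M := hOT.trans hTM.le
      have hlt : Nat.card M < n := by
        rw [← hn]
        have := H6.card_lt_of_lt (lt_top_iff_ne_top.2 hM)
        rwa [Subgroup.card_top] at this
      set TM := T.subtype hTM.le with hTMd
      have hTMc : (TM : Subgroup M) = (T : Subgroup G).subgroupOf M := Sylow.coe_subtype _ _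
      haveI hO'n : ((pCore p G).subgroupOf M).Normal := inferInstance
      have hO'p : (pCore p G).subgroupOf M ≤ pCore p M := L0.le_pCore ((L0.pCore_isPGroup p G).comap_subtype)
      have hMpn : PN p (⊤ : Subgroup M) := by
        refine ih _ hlt ↥M rfl TM ?_ ?_ ?_ ?_ ?_
        · intro c hcM
          apply hO'p
          show (c : G) ∈ pCore p G
          apply hc
          show (c : G) ∈ Subgroup.centralizer ((pCore p G : Subgroup G) : Set G)
          rw [Subgroup.mem_centralizer_iff]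
          intro y hy
          exact congrArg Subtype.val (Subgroup.mem_centralizer_iff.1 hcM ⟨y, hOM hy⟩ (hO'p hy))
        · -- the quotient
          set X := M ⧸ (pCore p G).subgroupOf M with hX
          let j : X →* G ⧸ pCore p G := QuotientGroup.map ((pCore p G).subgroupOf M) (pCore p G) M.subtype (fun x hx => hx)
          have hj : Function.Injective j := by
            rw [injective_iff_map_eq_one]
            intro x hx
            obtain ⟨m, rfl⟩ := QuotientGroup.mk_surjective x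
            have h1 : (QuotientGroup.mk (m : G) : G ⧸ pCore p G) = 1 := hx
            rw [QuotientGroup.eq_one_iff] at h1
            exact (QuotientGroup.eq_one_iff m).2 h1
          have hPX : PN p (⊤ : Subgroup X) := by
            rw [← pn_map_iff (f := j) hj]
            exact hq.mono le_top
          let k : X →* M ⧸ pCore p M := QuotientGroup.map ((pCore p G).subgroupOf M) (pCore p M) (MonoidHom.id M) hO'p
          have hk : Function.Surjective k := by
            intro y
            obtain ⟨m, rfl⟩ := QuotientGroup.mk_surjective y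
            exact ⟨QuotientGroup.mk m, rfl⟩
          have := hPX.map k
          rwa [Subgroup.map_top_of_surjective k hk] at this
        · exact h.imp_right (fun h1 h2 => h1 (h2.trans ⟨M, MonoidHom.id _, Function.surjective_id⟩))
        · rw [← pn_map_iff (f := M.subtype) Subtype.val_injective]
          refine hC.mono ?_
          rintro _ ⟨c, hcM, rfl⟩
          show (c : G) ∈ Subgroup.centralizer _
          rw [Subgroup.mem_centralizer_iff]
          rintro z ⟨hz1, hz2⟩
          refine congrArg Subtype.val (Subgroup.mem_centralizer_iff.1 hcM ⟨z, hTM.le hz1⟩ ⟨?_, ?_⟩)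
          · show _ ∈ (TM : Subgroup M)
            rw [hTMc]; exact hz1
          · refine Subgroup.mem_centralizer_iff.2 ?_
            intro t ht
            rw [hTMc] at ht
            exact Subtype.ext (Subgroup.mem_centralizer_iff.1 hz2 t ht)
        · rw [← pn_map_iff (f := M.subtype) Subtype.val_injective]
          refine hN.mono ?_
          have h1 : (thompsonSubgroupAOf (TM : Subgroup M)).map M.subtype = thompsonSubgroupAOf (T : Subgroup G) := by
            rw [thompsonAOf_map _ _ M.subtype_injective, hTMc, Subgroup.map_subgroupOf_eq_of_le hTM.le]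
          rw [← h1]
          rintro _ ⟨m, hm, rfl⟩
          apply H2.mem_norm_of_conj
          rintro _ ⟨x, hx, rfl⟩
          exact ⟨m * x * m⁻¹, (Subgroup.mem_normalizer_iff.1 hm x).1 hx, rfl⟩
      have h2 := pgroup_of_pn (pn_top_iff.1 hMpn) hc hOM
      exact hTM.ne (T.3 h2 hTM.le).symm
  exact hnot (thompson_local T hc hco hq h hC hN)

/-- centralizer-local innerness in terms of a realizing group -/
theorem npc_of_cenIn {Ω : Type u} [Group Ω] {S : Subgroup Ω} [Finite S] {F : FusionSystem S} {G : Type v} [Group G] [Finite G]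
    {ι : S →* G} (hG : F.IsRealizedBy ι) (T : Sylow p G)
    (hT : (T : Subgroup G) = ι.range) {W : Subgroup Ω} (hWS : W ≤ S) (hn : S ≤ Subgroup.centralizer (W : Set Ω))
    (h : ∀ Y : Subgroup Ω, F.centralizerHom W Y ⊆ (innerFusionSystem S).Hom Y) :
    HasNormalPComplement p ↥(Subgroup.centralizer (((W.subgroupOf S).map ι : Subgroup G) : Set G)) := by
  set N := Subgroup.centralizer (((W.subgroupOf S).map ι : Subgroup G) : Set G) with hN
  have hTN : (T : Subgroup G) ≤ N := by
    rw [hT]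
    rintro _ ⟨s, rfl⟩
    refine Subgroup.mem_centralizer_iff.2 ?_
    rintro _ ⟨x, hx, rfl⟩
    rw [← map_mul, ← map_mul]
    congr 1
    exact Subtype.ext (Subgroup.mem_centralizer_iff.1 (hn s.2) x hx)
  refine npc_of_inner (T.subtype hTN) ?_
  intro Q g hQ hg
  have hcoe : ((T.subtype hTN : Sylow p N) : Subgroup N) = (T : Subgroup G).subgroupOf N := Sylow.coe_subtype _ _
  -- the preimage of `Q`
  set P : Subgroup Ω := ((Q.map N.subtype).comap ι).map S.subtype with hP
  have hPS : P ≤ S := Subgroup.map_subtype_le _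
  have hP1 : P ⊔ W ≤ S := sup_le hPS hWS
  have hgW : ∀ (x : Ω) (hx : x ∈ W), (g : G) * ι ⟨x, hWS hx⟩ * (g : G)⁻¹ = ι ⟨x, hWS hx⟩ := by
    intro x hx
    have := Subgroup.mem_centralizer_iff.1 g.2 _ (⟨⟨x, hWS hx⟩, hx, rfl⟩ : ι ⟨x, hWS hx⟩ ∈ (W.subgroupOf S).map ι)
    rw [← this]; group
  have hKey : P ⊔ W ≤ ((ι.range.comap (MulAut.conj (g : G)).toMonoidHom).comap ι).map S.subtype := by
    refine sup_le ?_ ?_
    · rintro _ ⟨x, hx, rfl⟩
      obtain ⟨q, hq, hqx⟩ := hx
      refine ⟨x, ?_, rfl⟩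
      show (g : G) * ι x * (g : G)⁻¹ ∈ ι.range
      have h1 := hg q hq
      rw [hcoe, Subgroup.mem_subgroupOf, hT] at h1
      rw [← hqx]; exact h1
    · intro x hx
      refine ⟨⟨x, hWS hx⟩, ?_, rfl⟩
      show (g : G) * ι ⟨x, hWS hx⟩ * (g : G)⁻¹ ∈ ι.range
      rw [hgW x hx]; exact ⟨_, rfl⟩
  obtain ⟨φ, hφ, hφS, h1⟩ := exists_hom_of_conj hG (g : G) hP1 (by
    intro x
    obtain ⟨y, hy, hyx⟩ := hKey x.2
    have : y = ⟨x, hP1 x.2⟩ := Subtype.ext hyx
    rw [← this]; exact hy)
  have hcS : centralizerIn S W = S := inf_eq_left.2 hn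
  have hφW : φ ∈ F.centralizerHom W (P ⊔ W) := by
    have hle2 : (P ⊔ W) ⊔ W ≤ P ⊔ W := sup_le le_rfl le_sup_right
    refine ⟨hφ, hcS.symm ▸ hP1, fun x => hcS.symm ▸ hφS x, φ.comp (Subgroup.inclusion hle2), restrict_mem F hφ hle2,
      fun x => rfl, ?_⟩
    intro x
    have h2 := h1 ⟨x, (le_sup_right : W ≤ P ⊔ W) x.2⟩
    have h3 := h2.trans (hgW x x.2)
    exact congrArg (fun z : S => (z : Ω)) (hG.1 h3)
  obtain ⟨-, s, hs, hsx⟩ := h _ hφW
  have hιs : ι ⟨s, hs⟩ ∈ (T : Subgroup G) := by rw [hT]; exact ⟨_, rfl⟩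
  refine ⟨⟨ι ⟨s, hs⟩, hTN hιs⟩, ?_, ?_⟩
  · rw [hcoe]; exact hιs
  · intro x hx
    have hxT : ((x : N) : G) ∈ ι.range := by
      rw [← hT]
      have := hQ hx
      rw [hcoe] at this
      exact this
    obtain ⟨y, hy⟩ := hxT
    have hyP : (y : Ω) ∈ P ⊔ W := by
      refine (le_sup_left : P ≤ P ⊔ W) ⟨y, ?_, rfl⟩
      show ι y ∈ Q.map N.subtype
      rw [hy]; exact ⟨x, hx, rfl⟩
    apply Subtype.ext
    show ι ⟨s, hs⟩ * (x : G) * (ι ⟨s, hs⟩)⁻¹ = (g : G) * (x : G) * (g : G)⁻¹
    have h2 := h1 ⟨y, hyP⟩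
    have h3 : (⟨φ ⟨y, hyP⟩, hφS ⟨y, hyP⟩⟩ : S) = ⟨s, hs⟩ * y * ⟨s, hs⟩⁻¹ := Subtype.ext (hsx ⟨y, hyP⟩)
    rw [h3, map_mul, map_mul, map_inv] at h2
    rw [← hy, h2]

/-! ### the fusion theorem -/

theorem jj_le {Ω : Type*} [Group Ω] (T : Subgroup Ω) : thompsonSubgroupAOf T ≤ T := Subgroup.map_subtype_le _

theorem norm_le_norm_jj {Ω : Type*} [Group Ω] (T : Subgroup Ω) :
    Subgroup.normalizer (T : Set Ω) ≤ Subgroup.normalizer ((thompsonSubgroupAOf T : Subgroup Ω) : Set Ω) := by
  intro n hn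
  have h1 : T.map (MulAut.conj n).toMonoidHom = T := H6.mem_norm.1 hn
  have h2 := thompsonAOf_map T (MulAut.conj n).toMonoidHom (MulAut.conj n).injective
  rw [h1] at h2
  exact H6.mem_norm.2 h2

theorem jj_ne_bot {Ω : Type*} [Group Ω] {T : Subgroup Ω} [Finite T] (hT : IsPGroup p T) (hne : T ≠ ⊥) :
    thompsonSubgroupAOf T ≠ ⊥ := by
  intro h
  refine zz_fin_ne_bot (m := 0) (Or.inl rfl) hT hne ?_
  rw [← centerThompsonAOf_fin, eq_bot_iff, ← h]
  exact inf_le_left

section
variable {Ω : Type u} [Group Ω] {S : Subgroup Ω} [Finite S] {F : FusionSystem S}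

/-- centralizer-local innerness -/
def CenIn (F D : FusionSystem S) (R : Subgroup Ω) : Prop := ∀ Y : Subgroup Ω, F.centralizerHom R Y ⊆ D.Hom Y

theorem cenIn_sub_top {E₁ D : FusionSystem S} {R : Subgroup Ω} (h : E₁.IsSubsystemOf F) (hR : CenIn F D R) : CenIn E₁ D R := by
  rintro Y φ ⟨h1, h2, h3, ψ, hψ, h4, h5⟩
  exact hR Y ⟨h _ h1, h2, h3, ψ, h _ hψ, h4, h5⟩

/-- the centre inside the ambient group -/
def zc (S : Subgroup Ω) : Subgroup Ω := S ⊓ Subgroup.centralizer (S : Set Ω)

theorem cenIn_of_locIn {D : FusionSystem S} {R : Subgroup Ω} (hR : R ≤ S) (h : LocIn F D R) : CenIn F D R := by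
  rintro Y φ ⟨h1, h2, h3, ψ, hψ, h4, h5⟩
  refine h Y ⟨h1, h2.trans (inf_le_inf_left _ (H6.centralizer_le_norm R)),
    fun x => (inf_le_inf_left S (H6.centralizer_le_norm R) : centralizerIn S R ≤ normalizerIn S R) (h3 x), ψ, hψ, h4, ?_⟩
  ext y
  constructor
  · rintro ⟨x, hx, rfl⟩
    have := h5 ⟨x, hx⟩
    have e : ψ (Subgroup.inclusion le_sup_right ⟨x, hx⟩) = ψ x := rfl
    rw [e] at this
    rw [this]; exact hx
  · intro hy
    exact ⟨⟨y, (le_sup_right : R ≤ Y ⊔ R) hy⟩, hy, h5 ⟨y, hy⟩⟩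

/-- passing the centralizer condition to a normalizer system -/
theorem cenIn_normalizer (hS : IsPGroup p S) {R : Subgroup Ω} (hR : R ≤ S) {T W : Subgroup Ω} (hT : T = normalizerIn S R)
    (hW : W = zc T) {E : FusionSystem T}
    (hE : ∀ P, E.Hom P = F.normalizerHom R P) (h : CenIn F (innerFusionSystem S) (zc S)) :
    CenIn E (innerFusionSystem T) W := by
  intro P φ hφ
  obtain ⟨h1, h2, h3, ψ, hψ, h4, h5⟩ := hφ
  rw [hE] at hψ
  obtain ⟨g1, g2, g3, χ, hχ, g4, g5⟩ := hψ
  have hfR : Finite R := finite_of_le hR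
  have hRT : R ≤ T := hT ▸ le_normalizerIn hR
  have hTS : T ≤ S := hT ▸ inf_le_left
  have hP : P ≤ T := h2.trans inf_le_left
  have hWT : W ≤ T := hW ▸ inf_le_left
  have hle : (P ⊔ W) ⊔ R ≤ T := sup_le (sup_le hP hWT) hRT
  have hZW : zc S ≤ W := by
    rw [hW]
    rintro z ⟨hz1, hz2⟩
    refine ⟨?_, ?_⟩
    · rw [hT]
      exact ⟨hz1, (Subgroup.centralizer_le hR).trans (H6.centralizer_le_norm R) hz2⟩
    · exact Subgroup.centralizer_le hTS hz2
  have hcS : centralizerIn S (zc S) = S := by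
    apply inf_eq_left.2
    rw [Subgroup.le_centralizer_iff]; exact inf_le_right
  have hχZ : χ ∈ F.centralizerHom (zc S) ((P ⊔ W) ⊔ R) := by
    have hle2 : ((P ⊔ W) ⊔ R) ⊔ zc S ≤ (P ⊔ W) ⊔ R := sup_le le_rfl (hZW.trans (le_sup_right.trans le_sup_left))
    refine ⟨hχ, hcS.symm ▸ hle.trans hTS, fun x => hcS.symm ▸ hom_mem F hχ x, χ.comp (Subgroup.inclusion hle2),
      restrict_mem F hχ hle2, fun x => rfl, ?_⟩
    intro z
    have e1 := h5 ⟨z, hZW z.2⟩
    have e2 := g4 (Subgroup.inclusion le_sup_right ⟨(z : Ω), hZW z.2⟩)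
    exact e2.trans e1
  obtain ⟨-, s, hs, hsx⟩ := h _ hχZ
  have hsR : s ∈ Subgroup.normalizer (R : Set Ω) := by
    apply mem_normalizer_of_finite
    intro r hr
    have e1 := hsx ⟨r, (le_sup_right : R ≤ (P ⊔ W) ⊔ R) hr⟩
    rw [← e1]
    exact g5.le ⟨⟨r, (le_sup_right : R ≤ (P ⊔ W) ⊔ R) hr⟩, hr, rfl⟩
  refine ⟨hP, s, hT ▸ ⟨hs, hsR⟩, fun x => ?_⟩
  rw [← h4 x, ← g4, hsx]
  rfl

end

/-- **Thompson's theorem for fusion systems.** -/
theorem thompson_inner : ∀ (Ω : Type u) [Group Ω] (S : Subgroup Ω) [Finite S] (F : FusionSystem S), IsPGroup p S →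
    F.IsSaturated p → (p ≠ 2 ∨ F.IsSectionFree p (Equiv.Perm (Fin 4))) → CenIn F (innerFusionSystem S) (zc S) →
    LocIn F (innerFusionSystem S) (thompsonSubgroupAOf S) → F ≤ innerFusionSystem S := by
  classical
  apply fusion_induction
  intro Ω _ S _ F IH hS hF hfree hcen hloc
  by_contra hni
  have hS1 : S ≠ ⊥ := by
    intro h
    apply hni
    intro P φ hφ
    refine ⟨hom_le F hφ, 1, S.one_mem, fun x => ?_⟩
    have h1 := hom_mem F hφ x
    have h2 := hom_le F hφ x.2
    rw [h, Subgroup.mem_bot] at h1 h2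
    rw [h1, h2]; simp
  have hnotnorm : ¬ F.IsNormal (thompsonSubgroupAOf S) := by
    intro hn
    apply hni
    intro P φ hφ
    rw [← normalizerHom_eq_of_normal hn] at hφ
    exact hloc P hφ
  have hW2 : ∀ T : Subgroup Ω, T ≤ S → normalizerIn S T ≤ normalizerIn S (thompsonSubgroupAOf T) :=
    fun T hT => inf_le_inf_left _ (norm_le_norm_jj T)
  have hprop : ∀ R : Subgroup Ω, F.IsFullyNormalized R → ¬ F.IsNormal R →
      LocIn F (innerFusionSystem S) (thompsonSubgroupAOf (normalizerIn S R)) → LocIn F (innerFusionSystem S) R := by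
    intro R hR hRn hW
    obtain ⟨E, hE⟩ := exists_normalizerSystem F hR.1
    have hsub : E.IsSubsystemOf F := fun P φ hφ => by rw [hE P] at hφ; exact hφ.1
    have hsm : Smaller E F := smaller_of_sub hsub (fun h => hRn (normal_of_normalizerHom hR.1 fun P φ hφ => by
      rw [← hE P]; exact h P hφ))
    have hTS : normalizerIn S R ≤ S := inf_le_left
    refine loc_of_inner hE (IH Ω _ E hsm (hS.to_le hTS) (normalizerSystem_saturated hS hF hR hE)
      (hfree.imp_right (fun h => sectionFree_normalizer hS hF h hR hE)) (cenIn_normalizer hS hR.1 rfl rfl hE hcen) ?_)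
    exact innLoc_sub hS hR.1 hE (jj_le _) (Subgroup.le_normalizer.trans (norm_le_norm_jj _)) hW
  -- the preimage argument for factor systems
  have hfacgen : ∀ Q : Subgroup Ω, F.IsNormal Q → (∀ R, F.IsNormal R → R ≤ Q) → ∀ (Ω' : Type u) [Group Ω'] (θ : S →* Ω')
      (E : FusionSystem (⊤ : Subgroup Ω')), F.IsFactorSystem Q θ E → ∀ W' : Subgroup Ω', W' ≠ ⊥ →
      (⊤ : Subgroup Ω') ≤ Subgroup.normalizer (W' : Set Ω') → LocIn E (innerFusionSystem (⊤ : Subgroup Ω')) W' := by
    intro Q hQ hmax Ω' _ θ E hE W' hW'ne hW'n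
    have hQsc := stronglyClosed_of_normal hQ
    have hsm := factor_surjectiveMorphism hS hF hQsc hE
    have hr : θ.range = ⊤ := hsm.2.1
    refine locIn_factor hF hQsc hS hE le_top hW'n ?_
    have hWn : S ≤ Subgroup.normalizer (preimageAlong θ W' : Set Ω) := by
      intro s hs
      haveI : Finite ↥(preimageAlong θ W') := finite_of_le preimageAlong_le
      apply mem_normalizer_of_finite
      intro x hx
      obtain ⟨a, b⟩ := mem_preimageAlong.1 hx
      refine mem_preimageAlong.2 ⟨S.mul_mem (S.mul_mem hs a) (S.inv_mem hs), ?_⟩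
      have e1 : (⟨s * x * s⁻¹, S.mul_mem (S.mul_mem hs a) (S.inv_mem hs)⟩ : S) = ⟨s, hs⟩ * ⟨x, a⟩ * ⟨s, hs⟩⁻¹ := rfl
      rw [e1, map_mul, map_mul, map_inv]
      exact (Subgroup.mem_normalizer_iff.1 (hW'n (Subgroup.mem_top _)) _).1 b
    have hnS : normalizerIn S (preimageAlong θ W') = S := inf_eq_left.mpr hWn
    refine hprop _ (fullyNormalized_of_le_normalizer preimageAlong_le hWn) (fun h => hW'ne ?_) ?_
    · have h2 := hmax _ h
      rw [eq_bot_iff]
      intro y hy
      have hy' : y ∈ θ.range := by rw [hr]; exact Subgroup.mem_top _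
      obtain ⟨s, rfl⟩ := hy'
      rw [Subgroup.mem_bot, hE.2.1]
      exact h2 (mem_preimageAlong.mpr ⟨s.2, hy⟩)
    · rw [hnS]; exact hloc
  have hfac : ∀ Q : Subgroup Ω, F.IsNormal Q → (∀ R, F.IsNormal R → R ≤ Q) → Q ≠ ⊥ →
      ∀ (Ω' : Type u) [Group Ω'] [Finite (⊤ : Subgroup Ω')] (θ : S →* Ω') (E : FusionSystem (⊤ : Subgroup Ω')),
        F.IsFactorSystem Q θ E → E.IsSaturated p → IsPGroup p (⊤ : Subgroup Ω') →
        Nat.card (⊤ : Subgroup Ω') < Nat.card S → E ≤ innerFusionSystem (⊤ : Subgroup Ω') := by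
    intro Q hQ hmax hQne Ω' _ _ θ E hE hEs hp' hlt
    have htriv : (⊤ : Subgroup Ω') = ⊥ → E ≤ innerFusionSystem (⊤ : Subgroup Ω') := by
      intro h0 P φ hφ
      refine ⟨le_top, 1, Subgroup.one_mem _, fun x => ?_⟩
      have h1 : φ x ∈ (⊤ : Subgroup Ω') := Subgroup.mem_top _
      have h2 : (x : Ω') ∈ (⊤ : Subgroup Ω') := Subgroup.mem_top _
      rw [h0, Subgroup.mem_bot] at h1 h2
      rw [h1, h2]; simp
    by_cases h0 : (⊤ : Subgroup Ω') = ⊥
    · exact htriv h0
    refine IH Ω' ⊤ E (Or.inl hlt) hp' hEs (hfree.imp_right (fun h => sectionFree_factor hS hF h hQ hE)) ?_ ?_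
    · refine cenIn_of_locIn inf_le_left (hfacgen Q hQ hmax Ω' θ E hE _ ?_ ?_)
      · haveI : Group.IsNilpotent ↥(⊤ : Subgroup Ω') := hp'.isNilpotent
        have h1 := inf_cent_ne_bot hp' (D := (⊤ : Subgroup Ω')) le_rfl (by
          intro x _; exact Subgroup.le_normalizer (Subgroup.mem_top x)) h0
        exact h1
      · intro x _
        haveI : Finite ↥(zc (⊤ : Subgroup Ω')) := finite_of_le (inf_le_left : zc (⊤ : Subgroup Ω') ≤ ⊤)
        apply mem_normalizer_of_finite
        intro z hz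
        have h1 := Subgroup.mem_centralizer_iff.1 hz.2 x (Subgroup.mem_top x)
        have h2 : x * z * x⁻¹ = z := by rw [h1]; group
        rw [h2]; exact hz
    · exact hfacgen Q hQ hmax Ω' θ E hE _ (jj_ne_bot hp' h0) (Subgroup.le_normalizer.trans (norm_le_norm_jj _))
  apply hni
  refine inner_of_steps_free.{u, 0} hS hF hS1 (fun T => thompsonSubgroupAOf T) ?_ (fun T _ => jj_le T) hW2 hloc hprop ?_ ?_ ?_
  · intro T hT hT1
    haveI : Finite T := finite_of_le hT
    exact jj_ne_bot (hS.to_le hT) hT1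
  · intro E₁ h1 h2 h3 h4
    exact IH Ω S E₁ (smaller_of_sub h2 h3) hS h1 (hfree.imp_right (fun h => h4 h)) (cenIn_sub_top h2 hcen)
      (locIn_sub_top h2 hloc)
  · intro Q hQ hQne hmax hAp Ω' _ _ θ E hE hEs hp' hlt
    exact hfac Q hQ hmax hQne Ω' θ E hE hEs hp' hlt
  · intro Q hQ hQc
    exfalso
    have hcn := core_normal F
    have hcc : centralizerIn S F.core ≤ F.core :=
      (centric_of_ge hQc (le_core hQ) hcn.1).2 F.core ⟨F.core.subtype, subtype_mem _ hcn.1, Subgroup.range_subtype _⟩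
    obtain ⟨hQc', G, _, ι, hG, -, hfreeG⟩ := exists_model_free.{u, 0} hS hF hcn hcc
    haveI := hG.1
    obtain ⟨T, hT⟩ := hG.2.2.1
    have hinv : p ≠ 2 ∨ ¬ Sec (Equiv.Perm (Fin 4)) G :=
      hfree.imp_right (fun h h2 => hfreeG h h2.involves)
    have hcore : F.core ≠ ⊥ := by
      intro h0
      rw [h0] at hcc
      have h1 : centralizerIn S (⊥ : Subgroup Ω) = S := by
        apply inf_eq_left.2
        intro x _
        rw [Subgroup.mem_centralizer_iff]
        intro y hy
        have : y = 1 := by simpa using hy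
        rw [this]; simp
      rw [h1] at hcc
      exact hS1 (le_bot_iff.1 hcc)
    obtain ⟨Ω', _, _, θ, E, hE, hEs, hp', hlt, hne⟩ := exists_factor hS hF (stronglyClosed_of_normal hcn)
    have hEin := hfac F.core hcn (fun R hR => le_core hR) hcore Ω' θ E hE hEs hp' (hlt hcore)
    have hq := pn_quot_of_inner_factor hS hF hG T hT hE hEin
    have hι := hG.2.1.1
    have hC : PN p (Subgroup.centralizer (((T : Subgroup G) ⊓ Subgroup.centralizer ((T : Subgroup G) : Set G) : Subgroup G) : Set G)) := by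
      have h1 := npc_of_cenIn hG.2.1 T hT (W := zc S) inf_le_left (by rw [Subgroup.le_centralizer_iff]; exact inf_le_right) hcen
      rw [npc_iff'] at h1
      have h2 : ((zc S).subgroupOf S).map ι = (T : Subgroup G) ⊓ Subgroup.centralizer ((T : Subgroup G) : Set G) := by
        rw [hT]
        ext y
        constructor
        · rintro ⟨x, hx, rfl⟩
          refine ⟨⟨x, rfl⟩, Subgroup.mem_centralizer_iff.2 ?_⟩
          rintro _ ⟨z, rfl⟩
          rw [← map_mul, ← map_mul]
          congr 1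
          have hx' : (x : Ω) ∈ zc S := hx
          exact Subtype.ext (Subgroup.mem_centralizer_iff.1 hx'.2 z z.2)
        · rintro ⟨⟨x, rfl⟩, hx⟩
          refine ⟨x, ⟨x.2, Subgroup.mem_centralizer_iff.2 ?_⟩, rfl⟩
          intro z hz
          have h3 := Subgroup.mem_centralizer_iff.1 hx (ι ⟨z, hz⟩) ⟨_, rfl⟩
          rw [← map_mul, ← map_mul] at h3
          exact congrArg (fun z : S => (z : Ω)) (hι h3)
      rwa [h2] at h1
    have hN : PN p (Subgroup.normalizer ((thompsonSubgroupAOf (T : Subgroup G) : Subgroup G) : Set G)) := by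
      have h1 := npc_of_locIn hG.2.1 T hT (W := thompsonSubgroupAOf S) (jj_le S)
        (Subgroup.le_normalizer.trans (norm_le_norm_jj S)) hloc
      rw [npc_iff'] at h1
      have h2 : ((thompsonSubgroupAOf S).subgroupOf S).map ι = thompsonSubgroupAOf (T : Subgroup G) := by
        have e1 : (thompsonSubgroupAOf S).subgroupOf S = thompsonSubgroupAOf (⊤ : Subgroup S) := by
          apply Subgroup.map_injective S.subtype_injective
          rw [Subgroup.map_subgroupOf_eq_of_le (jj_le S), thompsonAOf_map _ _ S.subtype_injective,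
            ← MonoidHom.range_eq_map, Subgroup.range_subtype]
        rw [e1, thompsonAOf_map _ _ hι, ← MonoidHom.range_eq_map, hT]
      rwa [h2] at h1
    have hPN := thompson_cons _ G rfl T hG.2.2.2 hq hinv hC hN
    exact hni (inner_of_model hG.2.1 T hT (npc_iff.2 hPN))

end
end Cfsg.Agent.H2
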