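import Cfsg.Agent.H2.MinInn
import Cfsg.Agent.L0.Fus.App3
import Cfsg.Agent.L0.Fus.ModelUn2
import Cfsg.Agent.H6.Section
import Cfsg.Agent.H6.NoSL2

set_option autoImplicit false
set_option linter.unusedSectionVars false
set_option linter.unusedSimpArgs false
set_option linter.unusedVariables false
set_option linter.style.haveILetI false
open Pointwise
open scoped commutatorElement

/-! Local models of group fusion systems are sections of the group (helper2). -/

namespace Cfsg.Agent.H2
open Cfsg Cfsg.Agent.L0 Cfsg.Agent.L0.Fus Cfsg.FusionSystem Cfsg.Agent.H6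

universe u v w

section
variable {G : Type u} [Group G] [Finite G] {p : ℕ} [hp : Fact p.Prime]

set_option maxHeartbeats 1000000 in
/-- the local model of a fully normalized centric subgroup is a section of the group -/
theorem sec_of_local_model (S : Sylow p G) {Q : Subgroup G}
    (hQfn : (groupFusionSystem (S : Subgroup G)).IsFullyNormalized Q)
    (hQc : (groupFusionSystem (S : Subgroup G)).IsCentric Q)
    (N : FusionSystem (normalizerIn (S : Subgroup G) Q))
    (hN : (groupFusionSystem (S : Subgroup G)).IsNormalizerSystem Q N)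
    (L : Type v) [Group L] (ι : ↥(normalizerIn (S : Subgroup G) Q) →* L) (hL : N.IsModel p L ι) : Sec L G := by
  classical
  have hQS : Q ≤ (S : Subgroup G) := hQfn.1
  suffices key : ∀ T : Subgroup G, T = normalizerIn (S : Subgroup G) Q → ∀ N : FusionSystem T,
      (∀ P, N.Hom P = (groupFusionSystem (S : Subgroup G)).normalizerHom Q P) → ∀ ι : T →* L, N.IsModel p L ι → Sec L G from
    key _ rfl N hN ι hL
  clear hL ι hN N
  intro T hT N hN ι hL
  set M := Subgroup.normalizer (Q : Set G) with hM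
  obtain ⟨TM, hTMc⟩ : ∃ R : Sylow p M, (R : Subgroup M) = T.subgroupOf M := by
    rw [hT]; exact (group_fullyNormalized_iff S Q hQS).1 hQfn
  have hTM : T ≤ M := hT ▸ inf_le_right
  have hTS : T ≤ (S : Subgroup G) := hT ▸ inf_le_left
  have hQT : Q ≤ T := hT ▸ le_inf hQS Subgroup.le_normalizer
  have hTp : IsPGroup p T := S.2.to_le hTS
  set C := Subgroup.centralizer (Q : Set G) with hC
  have hCM : C ≤ M := H6.centralizer_le_norm Q
  have hMC : M ≤ Subgroup.normalizer (C : Set G) := le_norm_centralizer le_rfl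
  have hcen : (S : Subgroup G) ⊓ C ≤ Q := hQc.2 Q ⟨Q.subtype, subtype_mem _ hQS, Subgroup.range_subtype Q⟩
  -- `C` is `p`-nilpotent
  have hTC : T ⊓ C = (S : Subgroup G) ⊓ C := by
    apply le_antisymm (inf_le_inf_right _ hTS)
    rintro x ⟨h1, h2⟩
    exact ⟨hT ▸ ⟨h1, hCM h2⟩, h2⟩
  have hsylM : SylIn p T M := by
    refine ⟨hTM, hTp, ?_⟩
    have h1 : T.relIndex M = (TM : Subgroup M).index := by rw [hTMc]; rfl
    rw [h1]; exact TM.not_dvd_index
  have hsylC : SylIn p (T ⊓ C) C := sylIn_inf_normal hsylM hCM hMC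
  obtain ⟨P, hP⟩ := hsylC.exists_sylow
  have hPN : PN p C := by
    rw [← npc_iff']
    refine npc_of_inner P ?_
    intro R g hR _
    refine ⟨1, one_mem _, ?_⟩
    intro x hx
    have h1 : (x : G) ∈ Q := by
      have := hR hx
      rw [hP] at this
      have h2 : (x : G) ∈ T ⊓ C := this
      rw [hTC] at h2
      exact hcen h2
    have h2 := Subgroup.mem_centralizer_iff.1 g.2 (x : G) h1
    apply Subtype.ext
    show (1 : G) * x * 1⁻¹ = g * x * (g : G)⁻¹
    rw [← h2]; simp
  set K := opR p C with hK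
  have hKC : K ≤ C := by
    refine (Subgroup.closure_le _).2 ?_
    rintro x ⟨hx, -⟩
    exact hx
  have hKM : K ≤ M := hKC.trans hCM
  have hMK : M ≤ Subgroup.normalizer (K : Set G) := by
    intro m hm
    rw [H6.mem_norm]
    have h1 : H6.cj m C = C := H6.mem_norm.1 (hMC hm)
    have h2 : H6.cj m K = opR p (H6.cj m C) := (opR_map _ _).symm
    rw [h1] at h2
    exact h2
  have hKT : T ⊓ K = ⊥ := by rw [inf_comm]; exact opR_inf_pgroup hPN hTp
  have hCle : C ≤ K ⊔ (C ⊓ T) := by
    have h1 := top_le_opR_sup P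
    have h2 := Subgroup.map_mono (f := C.subtype) h1
    rw [← MonoidHom.range_eq_map, Subgroup.range_subtype, Subgroup.map_sup, ← opR_map, ← MonoidHom.range_eq_map,
      Subgroup.range_subtype, hP, Subgroup.subgroupOf_map_subtype] at h2
    refine h2.trans (sup_le_sup_left ?_ _)
    rintro x ⟨⟨h3, h4⟩, -⟩
    exact ⟨h4, h3⟩
  set K' := K.subgroupOf M with hK'
  haveI hK'n : K'.Normal := Subgroup.normal_subgroupOf_of_le_normalizer hMK
  set π := QuotientGroup.mk' K' with hπ
  have hπs : Function.Surjective π := QuotientGroup.mk'_surjective K'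
  have hπ1 : ∀ m : M, π m = 1 ↔ (m : G) ∈ K := fun m => (QuotientGroup.eq_one_iff m).trans Subgroup.mem_subgroupOf
  set ι' : T →* M ⧸ K' := π.comp (Subgroup.inclusion hTM) with hι'
  have hι'v : ∀ t : T, ι' t = π ⟨t, hTM t.2⟩ := fun t => rfl
  have hinj : Function.Injective ι' := by
    rw [injective_iff_map_eq_one]
    intro t ht
    rw [hι'v, hπ1] at ht
    have h1 : (t : G) ∈ T ⊓ K := ⟨t.2, ht⟩
    rw [hKT, Subgroup.mem_bot] at h1
    exact Subtype.ext h1
  have hKp : ¬ p ∣ Nat.card K' := by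
    have h1 : Nat.card K' = Nat.card K := Nat.card_congr (Subgroup.subgroupOfEquivOfLe hKM).toEquiv
    rw [h1]
    exact (Nat.Prime.coprime_iff_not_dvd hp.out).1 (Nat.Coprime.symm hPN)
  have hmodel : N.IsModel p (M ⧸ K') ι' := by
    refine ⟨inferInstance, ⟨hinj, ?_⟩, ?_, ?_⟩
    · intro P₁ hP₁ φ hφ
      constructor
      · intro h
        rw [hN P₁] at h
        obtain ⟨h1, h2, h3, ψ, ⟨hψ1, hψ2, g, hg⟩, h4, h5⟩ := h
        have hgM : g ∈ M := by
          apply H2.mem_norm_of_conj
          intro x hx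
          have := hg ⟨x, (le_sup_right : Q ≤ P₁ ⊔ Q) hx⟩
          rw [← this]
          exact h5.le ⟨⟨x, (le_sup_right : Q ≤ P₁ ⊔ Q) hx⟩, hx, rfl⟩
        refine ⟨π ⟨g, hgM⟩, fun x => ?_⟩
        rw [hι'v, hι'v, ← map_inv, ← map_mul, ← map_mul]
        congr 1
        apply Subtype.ext
        show φ x = g * x * g⁻¹
        rw [← h4 x, hg]; rfl
      · rintro ⟨γ, hγ⟩
        obtain ⟨m, hm⟩ := fusion_lifts K' hKp TM (P₁.subgroupOf M) (by
          rw [hTMc]; exact Subgroup.comap_mono hP₁) γ (by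
          intro x hx
          have h1 := hγ ⟨x, hx⟩
          rw [hι'v, hι'v] at h1
          have h2 : (QuotientGroup.mk x : M ⧸ K') = π ⟨(x : G), hTM (hP₁ hx)⟩ := rfl
          rw [h2, ← h1]
          refine ⟨⟨φ ⟨x, hx⟩, hTM (hφ _)⟩, ?_, rfl⟩
          show _ ∈ (TM : Subgroup M)
          rw [hTMc]; exact hφ _)
        have hconj : ∀ x : P₁, (m : G) * x * (m : G)⁻¹ = φ x := by
          intro x
          have hxM : (x : G) ∈ M := hTM (hP₁ x.2)
          obtain ⟨h1, h2⟩ := hm ⟨x, hxM⟩ x.2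
          have h3 : (m : G) * x * (m : G)⁻¹ ∈ T := by
            have h5 : m * ⟨x, hxM⟩ * m⁻¹ ∈ (TM : Subgroup M) := h1
            rw [hTMc] at h5
            exact h5
          have h4 : ι' ⟨(m : G) * x * (m : G)⁻¹, h3⟩ = ι' ⟨φ x, hφ x⟩ := by
            rw [hγ x]
            exact h2
          exact congrArg (fun z : T => (z : G)) (hinj h4)
        have hP1 : P₁ ⊔ Q ≤ T := sup_le hP₁ hQT
        have hmT : ∀ x ∈ P₁ ⊔ Q, (m : G) * x * (m : G)⁻¹ ∈ (S : Subgroup G) := by
          have : P₁ ⊔ Q ≤ (S : Subgroup G).comap (MulAut.conj (m : G)).toMonoidHom := by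
            refine sup_le ?_ ?_
            · intro x hx
              show (m : G) * x * (m : G)⁻¹ ∈ (S : Subgroup G)
              have := hconj ⟨x, hx⟩
              change (m : G) * x * (m : G)⁻¹ = _ at this
              rw [this]; exact hTS (hφ _)
            · intro x hx
              exact hQS ((Subgroup.mem_normalizer_iff.1 m.2 x).1 hx)
          exact fun x hx => this hx
        rw [hN P₁]
        refine ⟨⟨hP₁.trans hTS, fun x => hTS (hφ x), m, fun x => (hconj x).symm⟩, hT ▸ hP₁, fun x => hT ▸ hφ x, conjHom (P₁ ⊔ Q) (m : G),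
          ⟨hP1.trans hTS, fun x => hmT x x.2, m, fun x => rfl⟩, fun x => hconj x, ?_⟩
        ext y
        constructor
        · rintro ⟨x, hx, rfl⟩
          exact (Subgroup.mem_normalizer_iff.1 m.2 x).1 hx
        · intro hy
          have h1 : (m : G)⁻¹ * y * m ∈ Q := by
            have := (Subgroup.mem_normalizer_iff.1 (Subgroup.inv_mem _ m.2) y).1 hy
            rwa [inv_inv] at this
          refine ⟨⟨(m : G)⁻¹ * y * m, (le_sup_right : Q ≤ P₁ ⊔ Q) h1⟩, h1, ?_⟩
          show (m : G) * ((m : G)⁻¹ * y * m) * (m : G)⁻¹ = y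
          group
    · refine ⟨TM.mapSurjective hπs, ?_⟩
      rw [Sylow.coe_mapSurjective, hTMc]
      ext y
      constructor
      · rintro ⟨x, hx, rfl⟩
        exact ⟨⟨x, hx⟩, rfl⟩
      · rintro ⟨x, rfl⟩
        exact ⟨⟨x, hTM x.2⟩, x.2, rfl⟩
    · -- self-centralizing
      intro c hc
      obtain ⟨m, rfl⟩ := hπs c
      have hQn : ((Q.subgroupOf M).map π).Normal := by
        haveI : (Q.subgroupOf M).Normal := Subgroup.normal_in_normalizer
        exact Subgroup.Normal.map inferInstance π hπs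
      have hQp : IsPGroup p ↥((Q.subgroupOf M).map π) := by
        have : IsPGroup p ↥(Q.subgroupOf M) := (S.2.to_le hQS).comap_subtype
        exact this.map π
      have hQO : (Q.subgroupOf M).map π ≤ pCore p (M ⧸ K') := L0.le_pCore hQp
      have hmC : (m : G) ∈ C := by
        rw [Subgroup.mem_centralizer_iff]
        intro q hq
        have hqM : q ∈ M := Subgroup.le_normalizer hq
        have h1 : π ⟨q, hqM⟩ ∈ pCore p (M ⧸ K') := hQO ⟨⟨q, hqM⟩, hq, rfl⟩
        have h2 := Subgroup.mem_centralizer_iff.1 hc _ h1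
        have h3 : (m : G) * q * (m : G)⁻¹ * q⁻¹ ∈ T ⊓ K := by
          refine ⟨hQT (Q.mul_mem ((Subgroup.mem_normalizer_iff.1 m.2 q).1 hq) (Q.inv_mem hq)), ?_⟩
          have h4 : π (m * ⟨q, hqM⟩ * m⁻¹ * ⟨q, hqM⟩⁻¹) = 1 := by
            simp only [map_mul, map_inv]
            rw [← h2]; group
          exact (hπ1 _).1 h4
        rw [hKT, Subgroup.mem_bot] at h3
        calc q * (m : G) = ((m : G) * q * (m : G)⁻¹ * q⁻¹)⁻¹ * ((m : G) * q) := by group
          _ = (m : G) * q := by rw [h3]; simp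
      obtain ⟨k, hk, t, ht, hkt⟩ := (L0.mem_sup_of_normalizes (M := K) (A := C ⊓ T)
        ((inf_le_left.trans hCM).trans hMK)).1 (hCle hmC)
      have htQ : t ∈ Q := hcen ⟨hTS ht.2, ht.1⟩
      apply hQO
      refine ⟨⟨t, hCM ht.1⟩, htQ, ?_⟩
      have e : m = ⟨k, hKM hk⟩ * ⟨t, hCM ht.1⟩ := Subtype.ext hkt.symm
      rw [e, map_mul, (hπ1 ⟨k, hKM hk⟩).2 hk, one_mul]
  haveI : Finite T := inferInstance
  obtain ⟨e, -⟩ := model_unique hTp (constrained_of_model hL) hL hmodel
  exact ⟨M, e.symm.toMonoidHom.comp π, e.symm.surjective.comp hπs⟩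

/-- **The fusion system of an `H`-free group is `H`-free.** -/
theorem group_sectionFree (S : Sylow p G) {H : Type w} [Group H] (hH : ¬ Involves H G) :
    (groupFusionSystem (S : Subgroup G)).IsSectionFree p H := by
  intro Q hQfn hQc N hN L _ ι hL hInv
  exact hH ((Sec.of_involves hInv).trans (sec_of_local_model S hQfn hQc N hN L ι hL)).involves

end
end Cfsg.Agent.H2
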