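import Cfsg.Agent.H1.Class2
import Cfsg.Prelude
import Mathlib

set_option autoImplicit false

/-! Metacyclic `p`-groups, `p` odd: the elements of order `p` (helper2). -/

namespace Cfsg.Agent.H2

open Cfsg
open scoped commutatorElement

theorem int_pow_cong {p : ℕ} [hp : Fact p.Prime] (hp2 : p ≠ 2) {n : ℕ} {r : ℤ} (h : ((p : ℤ) ^ n) ∣ r ^ p - 1) (hn : 1 ≤ n) :
    (p : ℤ) ∣ r - 1 ∧ ((p : ℤ) ^ n) ∣ (p : ℤ) * (r - 1) := by
  have hpp : p.Prime := hp.out
  have h1 : (p : ℤ) ∣ r - 1 := by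
    have h2 : (p : ℤ) ∣ r ^ p - 1 := (dvd_pow_self _ (by omega)).trans h
    have h3 : ((r ^ p - 1 : ℤ) : ZMod p) = 0 := (ZMod.intCast_zmod_eq_zero_iff_dvd _ p).2 h2
    push_cast at h3
    rw [ZMod.pow_card] at h3
    apply (ZMod.intCast_zmod_eq_zero_iff_dvd _ p).1
    push_cast; exact h3
  refine ⟨h1, ?_⟩
  have h2 : ¬ (p : ℤ) ∣ r := by
    intro h3
    have h4 : (p : ℤ) ∣ 1 := by
      have := dvd_sub h3 h1
      simpa using this
    exact (Nat.prime_iff_prime_int.1 hpp).not_unit (isUnit_of_dvd_one h4)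
  have h3 := Int.emultiplicity_pow_sub_pow hpp (hpp.odd_of_ne_two hp2) (x := r) (y := 1) h1 h2 p
  rw [one_pow] at h3
  have h4 : emultiplicity p p = 1 := by
    have : FiniteMultiplicity p p := Nat.finiteMultiplicity_iff.mpr ⟨hpp.ne_one, hpp.pos⟩
    rw [this.emultiplicity_self]
  rw [h4] at h3
  have h5 : (n : ℕ∞) ≤ emultiplicity (p : ℤ) (r - 1) + 1 := by
    rw [← h3]
    exact le_emultiplicity_of_pow_dvd h
  obtain ⟨m, rfl⟩ : ∃ m, n = m + 1 := ⟨n - 1, by omega⟩
  have h6 : (p : ℤ) ^ m ∣ r - 1 := by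
    apply pow_dvd_of_le_emultiplicity
    push_cast at h5
    exact (ENat.add_le_add_iff_right (by simp)).1 h5
  rw [pow_succ']
  exact mul_dvd_mul_left _ h6

theorem meta_omega {P : Type*} [Group P] [Finite P] {p : ℕ} [hpf : Fact p.Prime] (hp : p ≠ 2) (hP : IsPGroup p P)
    (hm : IsMetacyclic P) : ∃ A : Subgroup P, (∀ x, x ∈ A ↔ x ^ p = 1) ∧ Nat.card A ≤ p ^ 2 := by
  classical
  have hpp : p.Prime := hpf.out
  obtain ⟨N, hN, hNc, hQc⟩ := hm
  haveI := hNc
  haveI := hQc
  obtain ⟨a, ha⟩ := hNc.exists_generator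
  obtain ⟨n, hn⟩ := IsPGroup.iff_card.1 (hP.to_subgroup N)
  have hao : orderOf (a : P) = p ^ n := by
    rw [Subgroup.orderOf_coe, orderOf_eq_card_of_forall_mem_zpowers ha, hn]
  have hNa : ∀ x ∈ N, ∃ k : ℤ, x = (a : P) ^ k := by
    intro x hx
    obtain ⟨k, hk⟩ := Subgroup.mem_zpowers_iff.1 (ha ⟨x, hx⟩)
    exact ⟨k, by rw [← Subgroup.coe_zpow, hk]⟩
  have hNab : ∀ x ∈ N, ∀ y ∈ N, x * y = y * x := by
    intro x hx y hy
    obtain ⟨k, rfl⟩ := hNa x hx
    obtain ⟨l, rfl⟩ := hNa y hy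
    rw [← zpow_add, ← zpow_add, add_comm]
  -- elements with `p`-th power in `N`
  have hact : ∀ t : P, t ^ p ∈ N → ∀ c ∈ N, (t * c * t⁻¹ * c⁻¹) ^ p = 1 ∧ (c ^ p = 1 → t * c * t⁻¹ = c) := by
    intro t ht c hc
    rcases Nat.eq_zero_or_pos n with h0 | hn1
    · have hb : N = ⊥ := Subgroup.card_eq_one.1 (by rw [hn, h0, pow_zero])
      rw [hb, Subgroup.mem_bot] at hc
      subst hc; simp
    obtain ⟨r, hr⟩ := hNa _ (hN.conj_mem a a.2 t)
    have hpow : ∀ j : ℕ, t ^ j * (a : P) * (t ^ j)⁻¹ = (a : P) ^ (r ^ j) := by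
      intro j
      induction j with
      | zero => simp
      | succ j ih =>
        calc t ^ (j + 1) * (a : P) * (t ^ (j + 1))⁻¹ = t * (t ^ j * (a : P) * (t ^ j)⁻¹) * t⁻¹ := by rw [pow_succ']; group
          _ = (t * a * t⁻¹) ^ (r ^ j) := by rw [ih, conj_zpow]
          _ = (a : P) ^ (r ^ (j + 1)) := by rw [hr, ← zpow_mul, pow_succ']
    have h1 : (a : P) ^ (r ^ p) = a := by
      rw [← hpow p, hNab _ ht _ a.2]; group
    have h2 : (p : ℤ) ^ n ∣ r ^ p - 1 := by
      have h3 : (a : P) ^ (r ^ p - 1) = 1 := by rw [zpow_sub_one, h1, mul_inv_cancel]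
      have h4 := orderOf_dvd_iff_zpow_eq_one.2 h3
      rw [hao] at h4
      push_cast at h4
      exact h4
    obtain ⟨h3, h4⟩ := int_pow_cong hp h2 hn1
    obtain ⟨k, rfl⟩ := hNa c hc
    have h5 : t * (a : P) ^ k * t⁻¹ = ((a : P) ^ k) ^ r := by
      rw [← conj_zpow, hr, ← zpow_mul, ← zpow_mul, mul_comm]
    constructor
    · rw [h5]
      have h6 : ((a : P) ^ k) ^ r * ((a : P) ^ k)⁻¹ = (a : P) ^ (k * (r - 1)) := by
        rw [← zpow_mul, ← zpow_neg, ← zpow_add]; congr 1; ring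
      rw [h6, ← zpow_natCast, ← zpow_mul]
      apply orderOf_dvd_iff_zpow_eq_one.1
      rw [hao]
      push_cast
      have : k * (r - 1) * (p : ℤ) = k * ((p : ℤ) * (r - 1)) := by ring
      rw [this]
      exact h4.mul_left k
    · intro hcp
      rw [h5]
      obtain ⟨m, hm⟩ := h3
      have h6 : r = (p : ℤ) * m + 1 := by linarith
      rw [h6, zpow_add_one, zpow_mul, zpow_natCast, hcp, one_zpow, one_mul]
  -- the subgroup `M`
  let M : Subgroup P := (Subgroup.closure {y : P ⧸ N | y ^ p = 1}).comap (QuotientGroup.mk' N)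
  have hcl : ∀ y ∈ Subgroup.closure {y : P ⧸ N | y ^ p = 1}, y ^ p = 1 := by
    intro y hy
    letI : CommGroup (P ⧸ N) := IsCyclic.commGroup
    induction hy using Subgroup.closure_induction with
    | mem z hz => exact hz
    | one => exact one_pow p
    | mul a b _ _ ha hb =>
      have h1 : (a * b) ^ p = a ^ p * b ^ p := mul_pow a b p
      rw [h1, ha, hb, one_mul]
    | inv a _ ha => rw [inv_pow, ha, inv_one]
  have hM : ∀ x, x ∈ M ↔ x ^ p ∈ N := by
    intro x
    constructor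
    · intro hx
      have h1 := hcl _ hx
      rw [← map_pow] at h1
      exact (QuotientGroup.eq_one_iff _).1 h1
    · intro hx
      apply Subgroup.subset_closure
      show (QuotientGroup.mk' N x) ^ p = 1
      rw [← map_pow]
      exact (QuotientGroup.eq_one_iff _).2 hx
  have hNM : N ≤ M := fun x hx => (hM x).2 (N.pow_mem hx p)
  -- commutators of `M`
  have hkey : ∀ x ∈ M, ∀ y ∈ M, ⁅x, y⁆ ∈ N ∧ ⁅x, y⁆ ^ p = 1 := by
    -- a generator `t` of `M` modulo `N`
    let Z : Subgroup P :=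
      { carrier := {c | c ∈ N ∧ c ^ p = 1}
        one_mem' := ⟨N.one_mem, one_pow p⟩
        mul_mem' := by
          rintro x y ⟨hx, hx'⟩ ⟨hy, hy'⟩
          refine ⟨N.mul_mem hx hy, ?_⟩
          have hc : Commute x y := hNab x hx y hy
          rw [hc.mul_pow, hx', hy', one_mul]
        inv_mem' := by
          rintro x ⟨hx, hx'⟩
          exact ⟨N.inv_mem hx, by rw [inv_pow, hx', inv_one]⟩ }
    have hZn : Z.Normal := ⟨fun c hc g => ⟨hN.conj_mem c hc.1 g, by rw [conj_pow, hc.2]; group⟩⟩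
    let π := QuotientGroup.mk' Z
    have hcomm : ∀ u v : P, π u * π v = π v * π u → ⁅u, v⁆ ∈ Z := by
      intro u v huv
      have h1 : π ⁅u, v⁆ = 1 := by
        rw [map_commutatorElement, commutatorElement_eq_one_iff_mul_comm]; exact huv
      exact (QuotientGroup.eq_one_iff _).1 h1
    have hcomm' : ∀ u v : P, ⁅u, v⁆ ∈ Z → Commute (π u) (π v) := by
      intro u v h
      have h1 : π ⁅u, v⁆ = 1 := (QuotientGroup.eq_one_iff _).2 h
      rw [map_commutatorElement, commutatorElement_eq_one_iff_mul_comm] at h1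
      exact h1
    obtain ⟨g, hg⟩ := (inferInstance : IsCyclic ↥(Subgroup.closure {y : P ⧸ N | y ^ p = 1})).exists_generator
    obtain ⟨t, ht⟩ := QuotientGroup.mk'_surjective N (g : P ⧸ N)
    have htM : t ∈ M := by
      have h0 : QuotientGroup.mk' N t ∈ Subgroup.closure {y : P ⧸ N | y ^ p = 1} := by rw [ht]; exact g.2
      exact h0
    have hdec : ∀ x ∈ M, ∃ (k : ℤ), ∃ c ∈ N, x = t ^ k * c := by
      intro x hx
      obtain ⟨k, hk⟩ := Subgroup.mem_zpowers_iff.1 (hg ⟨QuotientGroup.mk' N x, hx⟩)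
      have h1 : (QuotientGroup.mk' N t) ^ k = QuotientGroup.mk' N x := by
        rw [ht]
        exact congrArg Subtype.val hk
      refine ⟨k, (t ^ k)⁻¹ * x, ?_, by group⟩
      rw [← QuotientGroup.eq_one_iff]
      show QuotientGroup.mk' N ((t ^ k)⁻¹ * x) = 1
      rw [map_mul, map_inv, map_zpow, h1, inv_mul_cancel]
    have htc : ∀ c ∈ N, Commute (π t) (π c) := by
      intro c hc
      apply hcomm'
      rw [commutatorElement_def]
      exact ⟨N.mul_mem (hN.conj_mem c hc t) (N.inv_mem hc), (hact t ((hM t).1 htM) c hc).1⟩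
    intro x hx y hy
    obtain ⟨k, c, hc, rfl⟩ := hdec x hx
    obtain ⟨l, d, hd, rfl⟩ := hdec y hy
    apply hcomm
    have h1 : Commute (π c) (π d) := by
      have h2 : Commute c d := hNab c hc d hd
      exact h2.map π
    rw [map_mul, map_mul, map_zpow, map_zpow]
    have h3 : Commute (π t ^ k * π c) (π t ^ l * π d) := by
      apply Commute.mul_left
      · apply Commute.mul_right
        · exact ((Commute.refl (π t)).zpow_left k).zpow_right l
        · exact (htc d hd).zpow_left k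
      · apply Commute.mul_right
        · exact ((htc c hc).symm).zpow_right l
        · exact h1
    exact h3
  have hcen : ∀ x ∈ M, ∀ y ∈ M, ∀ z ∈ M, Commute ⁅x, y⁆ z := by
    intro x hx y hy z hz
    obtain ⟨h1, h2⟩ := hkey x hx y hy
    have h3 := (hact z ((hM z).1 hz) _ h1).2 h2
    have h4 : z * ⁅x, y⁆ = ⁅x, y⁆ * z := by
      calc z * ⁅x, y⁆ = (z * ⁅x, y⁆ * z⁻¹) * z := by group
        _ = _ := by rw [h3]
    exact h4.symm
  have hmul : ∀ x ∈ M, ∀ y ∈ M, (x * y) ^ p = x ^ p * y ^ p := by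
    intro x hx y hy
    rw [H1.mul_pow_class_two (hcen y hy x hx x hx) (hcen y hy x hx y hy) p]
    obtain ⟨k, hk⟩ := H1.dvd_choose_two hpp hp
    rw [hk, pow_mul, (hkey y hy x hx).2, one_pow, mul_one]
  let f : M →* P :=
    { toFun := fun x => (x : P) ^ p
      map_one' := by simp
      map_mul' := fun x y => hmul x x.2 y y.2 }
  let A : Subgroup P := f.ker.map M.subtype
  have hA : ∀ x, x ∈ A ↔ x ^ p = 1 := by
    intro x
    constructor
    · rintro ⟨y, hy, rfl⟩; exact hy
    · intro hx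
      exact ⟨⟨x, (hM x).2 (by rw [hx]; exact N.one_mem)⟩, hx, rfl⟩
  refine ⟨A, hA, ?_⟩
  have hcA : Nat.card A = Nat.card f.ker := Nat.card_congr (Subgroup.equivMapOfInjective _ _ M.subtype_injective).toEquiv.symm
  have hcM : Nat.card M ≤ p * p ^ n := by
    have h1 : Nat.card M = Nat.card ↥(N.subgroupOf M) * (N.subgroupOf M).index := (Subgroup.card_mul_index _).symm
    have h2 : Nat.card ↥(N.subgroupOf M) = p ^ n := by
      rw [Nat.card_congr (Subgroup.subgroupOfEquivOfLe hNM).toEquiv, hn]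
    have h3 : (N.subgroupOf M).index ≤ p := by
      have h4 : (N.subgroupOf M).index = Nat.card ↥(M.map (QuotientGroup.mk' N)) := by
        have h5 := Subgroup.index_ker ((QuotientGroup.mk' N).comp M.subtype)
        have h6 : ((QuotientGroup.mk' N).comp M.subtype).ker = N.subgroupOf M := by
          ext x
          rw [MonoidHom.mem_ker, MonoidHom.comp_apply, Subgroup.mem_subgroupOf]
          exact QuotientGroup.eq_one_iff _
        rw [h6] at h5
        rw [h5, MonoidHom.range_comp, Subgroup.range_subtype]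
      rw [h4]
      haveI : Finite (P ⧸ N) := inferInstance
      letI := Fintype.ofFinite (P ⧸ N)
      have h5 := IsCyclic.card_pow_eq_one_le (α := P ⧸ N) hpp.pos
      refine le_trans ?_ h5
      have h7 : Nat.card ↥(M.map (QuotientGroup.mk' N)) = ((M.map (QuotientGroup.mk' N) : Subgroup (P ⧸ N)) : Set (P ⧸ N)).ncard :=
        Nat.card_coe_set_eq _
      have h8 : ((Finset.univ.filter fun y : P ⧸ N => y ^ p = 1) : Finset (P ⧸ N)).card =
          (((Finset.univ.filter fun y : P ⧸ N => y ^ p = 1) : Finset (P ⧸ N)) : Set (P ⧸ N)).ncard := (Set.ncard_coe_finset _).symm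
      rw [h7, h8]
      apply Set.ncard_le_ncard _ (Set.toFinite _)
      rintro _ ⟨x, hx, rfl⟩
      rw [Finset.mem_coe, Finset.mem_filter]
      exact ⟨Finset.mem_univ _, hcl _ hx⟩
    rw [h1, h2, mul_comm]
    exact Nat.mul_le_mul_right _ h3
  have hidx : Nat.card M = Nat.card f.ker * Nat.card f.range := by
    rw [← Subgroup.index_ker, Subgroup.card_mul_index]
  rw [hcA]
  rcases Nat.eq_zero_or_pos n with h0 | hn1
  · rw [h0, pow_zero, mul_one] at hcM
    have h1 : Nat.card f.ker ≤ Nat.card M := by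
      rw [hidx]; exact Nat.le_mul_of_pos_right _ Nat.card_pos
    calc Nat.card f.ker ≤ p := h1.trans hcM
      _ ≤ p ^ 2 := Nat.le_self_pow (by norm_num) p
  · obtain ⟨m, rfl⟩ : ∃ m, n = m + 1 := ⟨n - 1, by omega⟩
    have h1 : p ^ m ≤ Nat.card f.range := by
      have h2 : Subgroup.zpowers ((a : P) ^ p) ≤ f.range := by
        rw [Subgroup.zpowers_le]
        exact ⟨⟨a, hNM a.2⟩, rfl⟩
      have h3 : Nat.card ↥(Subgroup.zpowers ((a : P) ^ p)) = p ^ m := by
        rw [Nat.card_zpowers, orderOf_pow' _ hpp.ne_zero, hao, pow_succ, Nat.gcd_eq_right (dvd_mul_left p _),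
          Nat.mul_div_cancel _ hpp.pos]
      rw [← h3]
      exact Subgroup.card_le_of_le h2
    have h2 : Nat.card f.ker * p ^ m ≤ p ^ 2 * p ^ m := by
      calc Nat.card f.ker * p ^ m ≤ Nat.card f.ker * Nat.card f.range := Nat.mul_le_mul_left _ h1
        _ = Nat.card M := hidx.symm
        _ ≤ p * p ^ (m + 1) := hcM
        _ = p ^ 2 * p ^ m := by ring
    exact Nat.le_of_mul_le_mul_right h2 (pow_pos hpp.pos m)

end Cfsg.Agent.H2
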