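import Cfsg.Agent.H2.FusOm
import Cfsg.Agent.H2.FusZJ
import Cfsg.Agent.H2.MetaC
import Cfsg.Agent.L0.Fus.Well4
import Mathlib

set_option autoImplicit false

/-! Strongly closed subgroups with few elements of order `p` (helper2). -/

namespace Cfsg.Agent.H2

open Cfsg Cfsg.FusionSystem Cfsg.Agent.L0 Cfsg.Agent.L0.Fus
open scoped commutatorElement

section two
variable {A : Type*} [Group A] [Finite A] {p : ℕ} [hpf : Fact p.Prime]

theorem top_of_two (hA : Nat.card A = p ^ 2) {Z K : Subgroup A} (hZ : Nat.card Z = p) {e y : A} (he : e ∈ Z) (he1 : e ≠ 1)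
    (hy : y ∉ Z) (heK : e ∈ K) (hyK : y ∈ K) : K = ⊤ := by
  have hpp : p.Prime := hpf.out
  have h1 : Subgroup.zpowers e = Z := by
    apply Subgroup.eq_of_le_of_card_ge
    · rwa [Subgroup.zpowers_le]
    · have h2 : Nat.card ↥(Subgroup.zpowers e) ∣ p := by
        rw [← hZ]; exact Subgroup.card_dvd_of_le (by rwa [Subgroup.zpowers_le])
      rcases (Nat.dvd_prime hpp).1 h2 with h3 | h3
      · exact absurd (Subgroup.zpowers_eq_bot.1 (Subgroup.card_eq_one.1 h3)) he1
      · rw [h3, hZ]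
  have h2 : Z ≤ K := by rw [← h1, Subgroup.zpowers_le]; exact heK
  have h3 : Z < K := lt_of_le_of_ne h2 (fun h => hy (h ▸ hyK))
  have h4 : Nat.card K ∣ p ^ 2 := by rw [← hA]; exact Subgroup.card_subgroup_dvd_card K
  obtain ⟨k, hk, hk'⟩ := (Nat.dvd_prime_pow hpp).1 h4
  have h5 : p < Nat.card K := by
    rw [← hZ]
    exact lt_of_le_of_ne (Subgroup.card_le_of_le h2) (fun h => h3.ne (Subgroup.eq_of_le_of_card_ge h2 h.ge))
  have h6 : k = 2 := by
    rcases Nat.lt_or_ge k 2 with h | h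
    · exfalso
      have : p ^ k ≤ p ^ 1 := Nat.pow_le_pow_right hpp.pos (by omega)
      rw [pow_one] at this
      omega
    · omega
  rw [h6] at hk'
  exact Subgroup.eq_top_of_card_eq _ (by rw [hk', hA])

theorem inv_mem_of_two (hA : Nat.card A = p ^ 2) (hcomm : ∀ a b : A, a * b = b * a)
    (U : Subgroup (MulAut A)) (Z : Subgroup A) (hZ : Nat.card Z = p) {u : MulAut A} (huU : u ∈ U) (hu1 : ∀ z ∈ Z, u z = z)
    (hu2 : ∀ a, a⁻¹ * u a ∈ Z) (hu : u ≠ 1) {γ : MulAut A} (hγU : γ ∈ U) (hγ : ∃ z ∈ Z, γ z ∉ Z) :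
    ∃ w ∈ U, ∀ a, w a = a⁻¹ := by
  have hpp : p.Prime := hpf.out
  obtain ⟨z0, hz0, hy⟩ := hγ
  set y := γ z0 with hydef
  have hy1 : y ≠ 1 := fun h => hy (h ▸ Z.one_mem)
  have hz1 : z0 ≠ 1 := fun h => hy1 (by rw [hydef, h, map_one])
  set e := y⁻¹ * u y with hedef
  have heZ : e ∈ Z := hu2 y
  have huy : u y = y * e := by rw [hedef, mul_inv_cancel_left]
  have he1 : e ≠ 1 := by
    intro h
    apply hu
    have h1 : (MonoidHom.eqLocus (u : A →* A) (MonoidHom.id A)) = ⊤ :=
      top_of_two hA hZ hz0 hz1 hy (hu1 z0 hz0) (by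
        show u y = y
        rw [huy, h, mul_one])
    ext a
    exact (h1 ▸ Subgroup.mem_top a : a ∈ MonoidHom.eqLocus (u : A →* A) (MonoidHom.id A))
  have hZz : ∀ z ∈ Z, ∃ k : ℤ, z = z0 ^ k := by
    intro z hz
    have h1 : (⟨z, hz⟩ : Z) ∈ Subgroup.zpowers (⟨z0, hz0⟩ : Z) :=
      mem_zpowers_of_prime_card hZ (fun h => hz1 (congrArg Subtype.val h))
    obtain ⟨k, hk⟩ := Subgroup.mem_zpowers_iff.1 h1
    exact ⟨k, (congrArg Subtype.val hk).symm⟩
  set v := γ * u * γ⁻¹ with hv
  have hvU : v ∈ U := U.mul_mem (U.mul_mem hγU huU) (U.inv_mem hγU)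
  have hvγ : ∀ a, v (γ a) = γ (u a) := by
    intro a
    rw [hv, MulAut.mul_apply, MulAut.mul_apply, MulAut.inv_apply_self]
  have hvy : v y = y := by
    rw [hydef, hvγ, hu1 z0 hz0]
  obtain ⟨b, hb⟩ : ∃ b : ℤ, v e = e * y ^ b := by
    obtain ⟨a, ha⟩ := γ.surjective e
    obtain ⟨b, hb⟩ := hZz _ (hu2 a)
    refine ⟨b, ?_⟩
    have h1 : u a = a * z0 ^ b := by rw [← hb, mul_inv_cancel_left]
    rw [← ha, hvγ, h1, map_mul, map_zpow]
  have hyb : y ^ b ≠ 1 := by
    intro h
    have h1 : (MonoidHom.eqLocus (v : A →* A) (MonoidHom.id A)) = ⊤ :=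
      top_of_two hA hZ heZ he1 hy (by
        show v e = e
        rw [hb, h, mul_one]) hvy
    apply hu
    have h2 : v = 1 := by
      ext a
      exact (h1 ▸ Subgroup.mem_top a : a ∈ MonoidHom.eqLocus (v : A →* A) (MonoidHom.id A))
    have h3 : u = γ⁻¹ * v * γ := by rw [hv]; group
    rw [h3, h2]; group
  have hyc : Nat.card ↥(Subgroup.zpowers y) = p := by
    have h1 : Subgroup.zpowers y = Z.map (γ : A →* A) := by
      apply le_antisymm
      · rw [Subgroup.zpowers_le]; exact ⟨z0, hz0, rfl⟩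
      · rintro _ ⟨z, hz, rfl⟩
        obtain ⟨k, rfl⟩ := hZz z hz
        exact Subgroup.mem_zpowers_iff.2 ⟨k, by rw [hydef]; exact (map_zpow γ z0 k).symm⟩
    rw [h1, ← hZ]
    exact (Nat.card_congr (Subgroup.equivMapOfInjective Z (γ : A →* A) γ.injective).toEquiv).symm
  obtain ⟨n, hn⟩ : ∃ n : ℕ, (y ^ b) ^ n = y⁻¹ := by
    have h1 : (⟨y⁻¹, Subgroup.inv_mem _ (Subgroup.mem_zpowers y)⟩ : Subgroup.zpowers y) ∈
        Subgroup.zpowers (⟨y ^ b, Subgroup.zpow_mem_zpowers y b⟩ : Subgroup.zpowers y) :=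
      mem_zpowers_of_prime_card hyc (fun h => hyb (congrArg Subtype.val h))
    rw [← mem_powers_iff_mem_zpowers] at h1
    obtain ⟨n, hn⟩ := Submonoid.mem_powers_iff _ _ |>.1 h1
    exact ⟨n, congrArg Subtype.val hn⟩
  have hvn : ∀ k : ℕ, (v ^ k) e = e * (y ^ b) ^ k ∧ (v ^ k) y = y := by
    intro k
    induction k with
    | zero => simp
    | succ k ih =>
      constructor
      · rw [pow_succ', MulAut.mul_apply, ih.1, map_mul, map_pow, map_zpow, hvy, hb, mul_assoc, ← pow_succ']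
      · rw [pow_succ', MulAut.mul_apply, ih.2, hvy]
  obtain ⟨hv1, hv2⟩ := hvn n
  rw [hn] at hv1
  set w := u * v ^ n * u with hw
  have hwU : w ∈ U := U.mul_mem (U.mul_mem huU (U.pow_mem hvU n)) huU
  have hwe : w e = y⁻¹ := by
    rw [hw, MulAut.mul_apply, MulAut.mul_apply, hu1 e heZ, hv1, map_mul, hu1 e heZ, map_inv, huy, mul_inv_rev,
      mul_inv_cancel_left]
  have hwy : w y = e := by
    rw [hw, MulAut.mul_apply, MulAut.mul_apply, huy, map_mul, hv1, hv2, hcomm e y⁻¹, mul_inv_cancel_left, hu1 e heZ]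
  refine ⟨w * w, U.mul_mem hwU hwU, ?_⟩
  let K : Subgroup A :=
    { carrier := {a | (w * w) a = a⁻¹}
      one_mem' := by simp
      mul_mem' := by
        intro a b ha hb
        show (w * w) (a * b) = (a * b)⁻¹
        rw [map_mul, show (w * w) a = a⁻¹ from ha, show (w * w) b = b⁻¹ from hb, mul_inv_rev, hcomm]
      inv_mem' := by
        intro a ha
        show (w * w) a⁻¹ = a⁻¹⁻¹
        rw [map_inv, show (w * w) a = a⁻¹ from ha] }
  have hK : K = ⊤ := top_of_two hA hZ heZ he1 hy (by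
    show (w * w) e = e⁻¹
    rw [MulAut.mul_apply, hwe, map_inv, hwy]) (by
    show (w * w) y = y⁻¹
    rw [MulAut.mul_apply, hwy, hwe])
  intro a
  exact (hK ▸ Subgroup.mem_top a : a ∈ K)

/-- an automorphism inverting the elements of order `p`, `p` odd, forces commutativity -/
theorem comm_of_inv {P : Type*} [Group P] [Finite P] (hp : p ≠ 2) (hP : IsPGroup p P) (α : MulAut P)
    (h : ∀ x : P, x ^ p = 1 → α x = x⁻¹) (x y : P) : x * y = y * x := by
  have hpp : p.Prime := hpf.out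
  obtain ⟨k, m, hm, hkm⟩ := Nat.exists_eq_pow_mul_and_not_dvd (orderOf_pos α).ne' p hpp.ne_one
  set α' := α ^ p ^ k with hα'
  have ho : orderOf α' = m := by
    rw [hα', orderOf_pow' _ (pow_ne_zero _ hpp.ne_zero), hkm, Nat.gcd_eq_right (dvd_mul_right _ _),
      Nat.mul_div_cancel_left _ (pow_pos hpp.pos k)]
  have hcop : m.Coprime p := ((Nat.Prime.coprime_iff_not_dvd hpp).2 hm).symm
  have hodd : Odd (p ^ k) := (hpp.odd_of_ne_two hp).pow
  have hinv : ∀ x : P, x ^ p = 1 → α' x = x⁻¹ := by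
    intro x hx
    have h1 : ∀ j : ℕ, (α ^ (2 * j)) x = x := by
      intro j
      induction j with
      | zero => simp
      | succ j ih =>
        rw [show 2 * (j + 1) = 2 * j + 1 + 1 by ring, pow_succ, pow_succ, MulAut.mul_apply, MulAut.mul_apply, h x hx, map_inv,
          h x hx, inv_inv, ih]
    obtain ⟨j, hj⟩ := hodd
    rw [hα', hj, pow_succ, MulAut.mul_apply, h x hx, map_inv, h1]
  have h2 : α' ^ 2 = 1 := by
    apply aut_eq_one_of_omega (p := p) hP
    · exact Nat.Coprime.coprime_dvd_left (orderOf_pow_dvd 2) (by rw [ho]; exact hcop)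
    · rintro a (ha | ⟨ha, -⟩)
      · rw [pow_two, MulAut.mul_apply, hinv a ha, map_inv, hinv a ha, inv_inv]
      · exact absurd ha hp
  have hfp : MonoidHom.FixedPointFree (α' : P → P) := by
    intro g hg
    by_contra hg1
    obtain ⟨j, hj⟩ := (IsPGroup.iff_orderOf.1 hP) g
    have hj0 : j ≠ 0 := by
      intro h0; rw [h0, pow_zero] at hj
      exact hg1 (orderOf_eq_one_iff.1 hj)
    obtain ⟨i, rfl⟩ : ∃ i, j = i + 1 := ⟨j - 1, by omega⟩
    set z := g ^ p ^ i with hz
    have hzp : z ^ p = 1 := by rw [hz, ← pow_mul, ← pow_succ, ← hj, pow_orderOf_eq_one]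
    have hz1 : z ≠ 1 := by
      intro h
      have := orderOf_dvd_of_pow_eq_one h
      rw [hj] at this
      have := (Nat.pow_dvd_pow_iff_le_right hpp.one_lt).1 this
      omega
    have h3 : α' z = z := by rw [hz, map_pow, hg]
    rw [hinv z hzp] at h3
    have h4 : z ^ 2 = 1 := by rw [pow_two]; nth_rw 1 [← h3]; rw [inv_mul_cancel]
    have h5 : Nat.Coprime 2 p := (Nat.coprime_primes Nat.prime_two hpp).2 (Ne.symm hp)
    exact hz1 (orderOf_eq_one_iff.1 (Nat.eq_one_of_dvd_coprimes h5 (orderOf_dvd_of_pow_eq_one h4) (orderOf_dvd_of_pow_eq_one hzp)))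
  have hinvol : Function.Involutive (α' : P → P) := by
    intro g
    have := congrArg (fun f : MulAut P => f g) h2
    simp only [pow_two, MulAut.mul_apply, MulAut.one_apply] at this
    exact this
  exact hfp.commute_all_of_involutive hinvol x y

end two

theorem stronglyClosed_bot {Ω : Type*} [Group Ω] {S : Subgroup Ω} {F : FusionSystem S} : F.StronglyClosed ⊥ :=
  ⟨bot_le, fun R hR φ hφ x => by
    have hx : x = 1 := Subtype.ext (Subgroup.mem_bot.mp (hR x.2))
    rw [hx, map_one]; exact Subgroup.one_mem _⟩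

section fus
variable {Ω : Type*} [Group Ω] {S : Subgroup Ω} [Finite S] {F : FusionSystem S} {p : ℕ} [hpf : Fact p.Prime]

theorem exists_aut_of_hom {P : Subgroup Ω} [Finite P] {φ : P →* Ω} (hφ : φ ∈ F.Hom P) (h : ∀ x, φ x ∈ P) :
    ∃ α ∈ F.autGroup P, ∀ x, ((α x : P) : Ω) = φ x := by
  have hinj : Function.Injective (φ.codRestrict P h) := by
    intro a b hab
    exact F.injective_of_mem hφ (congrArg Subtype.val hab)
  let α : MulAut P := MulEquiv.ofBijective (φ.codRestrict P h) ⟨hinj, Finite.surjective_of_injective hinj⟩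
  refine ⟨α, (mem_autGroup F (hom_le F hφ)).2 ?_, fun x => rfl⟩
  have : P.subtype.comp α.toMonoidHom = φ := by ext x; rfl
  show P.subtype.comp α.toMonoidHom ∈ F.Hom P
  rw [this]; exact hφ

/-- a strongly closed subgroup with at most `p²` elements of order `p`, `p` odd, is normal -/
theorem normal_of_small_omega (hp : p ≠ 2) (hS : IsPGroup p S) (hF : F.IsSaturated p) {P : Subgroup Ω} (hP : F.StronglyClosed P)
    {A : Subgroup Ω} (hAP : A ≤ P) (hA : ∀ x ∈ P, x ∈ A ↔ x ^ p = 1) (hAc : Nat.card A ≤ p ^ 2) : F.IsNormal P := by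
  classical
  have hpp : p.Prime := hpf.out
  have hPS := hP.1
  haveI := finite_of_le hPS
  haveI := finite_of_le (hAP.trans hPS)
  have hPp : IsPGroup p P := hS.to_le hPS
  have hAp : IsPGroup p A := hS.to_le (hAP.trans hPS)
  have hAsc : F.StronglyClosed A := by
    refine ⟨hAP.trans hPS, fun R hR φ hφ x => ?_⟩
    have h1 : φ x ∈ P := hP.2 R (hR.trans hAP) φ hφ x
    rw [hA _ h1, ← map_pow]
    have h2 : x ^ p = 1 := Subtype.ext (by
      have := (hA _ (hAP (hR x.2))).1 (hR x.2)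
      simpa using this)
    rw [h2, map_one]
  have hAn := StronglyClosed.le_normalizer hAsc
  have hPn := StronglyClosed.le_normalizer hP
  have hPAn : P ≤ Subgroup.normalizer (A : Set Ω) := hPS.trans hAn
  by_cases hAcen : A ≤ Subgroup.centralizer (P : Set Ω)
  · refine normal_of_omega hS hF hP 1 (fun i => if i = 0 then ⊥ else A) (if_pos rfl) ?_ ?_ ?_ ?_
    · rintro x hx (h | ⟨h, -⟩)
      · simp only [one_ne_zero, if_false]
        exact (hA x hx).2 h
      · exact absurd h hp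
    · intro i
      by_cases h : i = 0
      · simp [h]
      · simp [h]
    · intro i
      by_cases h : i = 0
      · simp only [h, if_true]
        exact stronglyClosed_bot
      · simp only [h, if_false]; exact hAsc
    · intro i
      have h1 : ⁅A, P⁆ = ⊥ := (Subgroup.commutator_eq_bot_iff_le_centralizer).2 hAcen
      simp only [Nat.add_eq_zero_iff, one_ne_zero, and_false, if_false, h1, bot_le]
  -- `A` is not central
  set Z := A ⊓ Subgroup.centralizer (P : Set Ω) with hZdef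
  have hZA : Z ≤ A := inf_le_left
  have hZlt : Z < A := lt_of_le_of_ne hZA (fun h => hAcen (h ▸ inf_le_right))
  have hAne : A ≠ ⊥ := by
    intro h; apply hAcen; rw [h]; exact bot_le
  have hZne : Z ≠ ⊥ := inf_cent_ne_bot hPp hAP hPAn hAne
  haveI := finite_of_le (hZA.trans (hAP.trans hPS))
  have hZp : IsPGroup p Z := hAp.to_le hZA
  obtain ⟨a, ha⟩ := IsPGroup.iff_card.1 hAp
  obtain ⟨z, hz⟩ := IsPGroup.iff_card.1 hZp
  have hz1 : z ≠ 0 := by
    intro h; rw [h, pow_zero] at hz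
    exact hZne (Subgroup.card_eq_one.1 hz)
  have hza : z < a := by
    have h1 : Nat.card Z < Nat.card A :=
      lt_of_le_of_ne (Subgroup.card_le_of_le hZA) (fun h => hZlt.ne (Subgroup.eq_of_le_of_card_ge hZA h.ge))
    rw [ha, hz] at h1
    exact (Nat.pow_lt_pow_iff_right hpp.one_lt).1 h1
  have ha2 : a ≤ 2 := by
    rw [ha] at hAc
    exact (Nat.pow_le_pow_iff_right hpp.one_lt).1 hAc
  have hz' : z = 1 := by omega
  have ha' : a = 2 := by omega
  rw [hz', pow_one] at hz
  rw [ha'] at ha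
  have hAcomm : ∀ x y : A, x * y = y * x := by
    letI := IsPGroup.commGroupOfCardEqPrimeSq ha
    exact fun x y => mul_comm x y
  -- `Z` is normalized by `S`
  have hZn : S ≤ Subgroup.normalizer (Z : Set Ω) := by
    intro s hs
    apply mem_normalizer_of_finite
    rintro x ⟨hx, hx'⟩
    refine ⟨(Subgroup.mem_normalizer_iff.1 (hAn hs) x).1 hx, ?_⟩
    replace hx' := Subgroup.mem_centralizer_iff.1 hx'
    refine Subgroup.mem_centralizer_iff.2 ?_
    intro y hy
    have h1 : s⁻¹ * y * s ∈ P := by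
      have := (Subgroup.mem_normalizer_iff.1 (hPn (S.inv_mem hs)) y).1 hy
      simpa using this
    have h2 := hx' _ h1
    calc y * (s * x * s⁻¹) = s * ((s⁻¹ * y * s) * x) * s⁻¹ := by group
      _ = s * (x * (s⁻¹ * y * s)) * s⁻¹ := by rw [h2]
      _ = s * x * s⁻¹ * y := by group
  have hAcm : ⁅A, P⁆ ≤ Z := by
    -- `[A, P]` is a proper subgroup of `A`
    have h1 : ⁅A, P⁆ ≤ A := by
      rw [Subgroup.commutator_le]
      intro x hx y hy
      have h5 : y * x⁻¹ * y⁻¹ ∈ A := (Subgroup.mem_normalizer_iff.mp (hPAn hy) _).mp (Subgroup.inv_mem _ hx)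
      have h6 := A.mul_mem hx h5
      have e : x * (y * x⁻¹ * y⁻¹) = ⁅x, y⁆ := by rw [commutatorElement_def]; group
      rwa [e] at h6
    by_cases hb : ⁅A, P⁆ = ⊥
    · rw [hb]; exact bot_le
    have hne : ⁅A, P⁆ ≠ A := by
      intro h
      haveI : Group.IsNilpotent ↥P := hPp.isNilpotent
      have h2 : ∀ k, A ≤ (P.lowerCentralSeries k : Subgroup Ω) := by
        intro k
        induction k with
        | zero => rw [Subgroup.lowerCentralSeries_zero]; exact hAP
        | succ k ih =>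
          rw [Subgroup.lowerCentralSeries_succ]
          calc A = ⁅A, P⁆ := h.symm
            _ ≤ _ := Subgroup.commutator_mono ih le_rfl
      obtain ⟨n, hn⟩ := (Subgroup.isNilpotent_iff_lowerCentralSeries P).1 inferInstance
      have h3 := h2 n
      rw [hn, le_bot_iff] at h3
      exact hAne h3
    have hcn : P ≤ Subgroup.normalizer ((⁅A, P⁆ : Subgroup Ω) : Set Ω) := by
      haveI : Finite ↥(⁅A, P⁆ : Subgroup Ω) := finite_of_le (h1.trans (hAP.trans hPS))
      intro g hg
      apply mem_normalizer_of_finite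
      intro x hx
      have h2 : (⁅A, P⁆ : Subgroup Ω).map (MulAut.conj g).toMonoidHom ≤ ⁅A, P⁆ := by
        rw [Subgroup.map_commutator]
        apply Subgroup.commutator_mono
        · rintro _ ⟨y, hy, rfl⟩
          exact (Subgroup.mem_normalizer_iff.mp (hPAn hg) _).mp hy
        · rintro _ ⟨y, hy, rfl⟩
          exact P.mul_mem (P.mul_mem hg hy) (P.inv_mem hg)
      exact h2 ⟨x, hx, rfl⟩
    have h3 : ⁅A, P⁆ ⊓ Subgroup.centralizer (P : Set Ω) ≠ ⊥ := inf_cent_ne_bot hPp (h1.trans hAP) hcn hb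
    have h4 : ⁅A, P⁆ ⊓ Subgroup.centralizer (P : Set Ω) = Z := by
      apply Subgroup.eq_of_le_of_card_ge (inf_le_inf_right _ h1)
      have h5 : Nat.card ↥(⁅A, P⁆ ⊓ Subgroup.centralizer (P : Set Ω) : Subgroup Ω) ∣ p := by
        rw [← hz]; exact Subgroup.card_dvd_of_le (inf_le_inf_right _ h1)
      rcases (Nat.dvd_prime hpp).1 h5 with h6 | h6
      · exact absurd (Subgroup.card_eq_one.1 h6) h3
      · rw [h6, hz]
    haveI : Finite ↥(⁅A, P⁆ : Subgroup Ω) := finite_of_le (h1.trans (hAP.trans hPS))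
    have h5 : Z ≤ ⁅A, P⁆ := h4 ▸ inf_le_left
    have h6 : Nat.card ↥(⁅A, P⁆ : Subgroup Ω) ∣ p ^ 2 := by rw [← ha]; exact Subgroup.card_dvd_of_le h1
    obtain ⟨k, hk, hk'⟩ := (Nat.dvd_prime_pow hpp).1 h6
    have h7 : k ≠ 2 := by
      intro h; rw [h] at hk'
      exact hne (Subgroup.eq_of_le_of_card_ge h1 (by rw [ha, hk']))
    have h8 : Nat.card ↥(⁅A, P⁆ : Subgroup Ω) ≤ Nat.card Z := by
      rw [hk', hz]
      calc p ^ k ≤ p ^ 1 := Nat.pow_le_pow_right hpp.pos (by omega)
        _ = p := pow_one p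
    exact (Subgroup.eq_of_le_of_card_ge h5 h8).ge
  -- `Z` is strongly closed
  have hZsc : F.StronglyClosed Z := by
    refine ⟨hZA.trans (hAP.trans hPS), fun R hR φ hφ x => ?_⟩
    by_contra hcon
    have hxne : (x : Ω) ≠ 1 := by
      intro h
      apply hcon
      have : x = 1 := Subtype.ext h
      rw [this, map_one]; exact Z.one_mem
    have hyA : φ x ∈ A := hAsc.2 R (hR.trans hZA) φ hφ x
    -- the inverse map
    have hzZ : Subgroup.zpowers (x : Ω) = Z := by
      apply Subgroup.eq_of_le_of_card_ge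
      · rw [Subgroup.zpowers_le]; exact hR x.2
      · have h2 : Nat.card ↥(Subgroup.zpowers (x : Ω)) ∣ p := by
          rw [← hz]; exact Subgroup.card_dvd_of_le (by rw [Subgroup.zpowers_le]; exact hR x.2)
        rcases (Nat.dvd_prime hpp).1 h2 with h3 | h3
        · exact absurd (Subgroup.zpowers_eq_bot.1 (Subgroup.card_eq_one.1 h3)) hxne
        · rw [h3, hz]
    have hRZ : R = Z := le_antisymm hR (by rw [← hzZ, Subgroup.zpowers_le]; exact x.2)
    obtain ⟨ψ, hψ, hψx⟩ := F.inv_mem hφ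
    have hψr : ψ.range = Z := by
      apply le_antisymm
      · rintro _ ⟨⟨_, ⟨t, rfl⟩⟩, rfl⟩
        rw [hψx t]; exact hR t.2
      · intro t ht
        rw [← hRZ] at ht
        exact ⟨⟨φ ⟨t, ht⟩, ⟨⟨t, ht⟩, rfl⟩⟩, hψx ⟨t, ht⟩⟩
    have hASle : A ≤ S := hAP.trans hPS
    have hZfn : F.IsFullyNormalized Z := fullyNormalized_of_le_normalizer (hZA.trans hASle) hZn
    obtain ⟨θ, hθ, hθag⟩ := (receptive_of_fullyNormalized_sat hS hF hZfn).2 φ.range ψ hψ hψr
    have hAE : A ≤ FusionSystem.extender S φ.range ψ := by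
      intro a ha
      apply centralizerIn_le_extender
      refine ⟨hASle ha, ?_⟩
      refine Subgroup.mem_centralizer_iff.2 ?_
      rintro _ ⟨t, rfl⟩
      have h1 : φ t ∈ A := hAsc.2 R (hR.trans hZA) φ hφ t
      exact congrArg Subtype.val (hAcomm ⟨φ t, h1⟩ ⟨a, ha⟩)
    have hθA := restrict_mem F hθ hAE
    obtain ⟨β, hβ, hβx⟩ := exists_aut_of_hom hθA (fun a => hAsc.2 A le_rfl _ hθA a)
    have hβy : β ⟨φ x, hyA⟩ = ⟨x, hZA (hR x.2)⟩ := by
      apply Subtype.ext
      rw [hβx]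
      show θ ⟨φ x, _⟩ = x
      rw [hθag (φ x) ⟨x, rfl⟩, hψx x]
    have hγx : β⁻¹ ⟨x, hZA (hR x.2)⟩ = ⟨φ x, hyA⟩ := by
      rw [← hβy, MulAut.inv_apply_self]
    -- a non-centralizing element of `P`
    obtain ⟨g, hgP, hgA⟩ : ∃ g ∈ P, ∃ a ∈ A, g * a ≠ a * g := by
      by_contra hcon2
      push Not at hcon2
      apply hAcen
      intro a ha
      refine Subgroup.mem_centralizer_iff.2 ?_
      intro g hg
      exact hcon2 g hg a ha
    set u : MulAut A := A.normalizerMonoidHom ⟨g, hPAn hgP⟩ with hu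
    have huap : ∀ a : A, ((u a : A) : Ω) = g * a * g⁻¹ := fun a => rfl
    have huF : u ∈ F.autGroup A := autInducedBy_le_autGroup F hASle (mem_autInducedBy.mpr ⟨g, hPS hgP, huap⟩)
    have hZAc : Nat.card ↥(Z.subgroupOf A) = p := by
      rw [Nat.card_congr (Subgroup.subgroupOfEquivOfLe hZA).toEquiv, hz]
    obtain ⟨w, hwF, hw⟩ := inv_mem_of_two (p := p) ha hAcomm (F.autGroup A) (Z.subgroupOf A) hZAc huF (by
        intro t ht
        apply Subtype.ext
        rw [huap]
        have h1 := Subgroup.mem_centralizer_iff.1 (Subgroup.mem_subgroupOf.1 ht).2 g hgP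
        rw [h1]; group) (by
        intro a
        apply Subgroup.mem_subgroupOf.2
        apply hAcm
        have h1 := Subgroup.commutator_mem_commutator (A.inv_mem a.2) hgP
        have e : ⁅(a : Ω)⁻¹, g⁆ = ((a⁻¹ * u a : A) : Ω) := by
          rw [commutatorElement_def, Subgroup.coe_mul, huap, Subgroup.coe_inv]; group
        rw [← e]; exact h1) (by
        intro h1
        obtain ⟨a, ha, hne⟩ := hgA
        apply hne
        have h2 := huap ⟨a, ha⟩
        rw [h1, MulAut.one_apply] at h2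
        have h3 : g * a * g⁻¹ = a := h2.symm
        calc g * a = (g * a * g⁻¹) * g := by group
          _ = a * g := by rw [h3]) (Subgroup.inv_mem _ hβ)
      ⟨⟨x, hZA (hR x.2)⟩, Subgroup.mem_subgroupOf.2 (hR x.2), fun h1 => by
        rw [hγx] at h1
        exact hcon (Subgroup.mem_subgroupOf.1 h1)⟩
    -- extend the inversion
    have hAfn : F.IsFullyNormalized A := fullyNormalized_of_le_normalizer hASle hAn
    have hwF' := (mem_autGroup F hASle).mp hwF
    obtain ⟨θ', hθ', hθ'ag⟩ := (receptive_of_fullyNormalized_sat hS hF hAfn).2 A _ hwF' (range_subtype_comp w)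
    have hSE : S ≤ FusionSystem.extender S A (A.subtype.comp w.toMonoidHom) := by
      intro s hs
      refine mem_extender.mpr ⟨hs, hAn hs, s, hs, fun t ht => ?_⟩
      show ((w ⟨s * t * s⁻¹, ht⟩ : A) : Ω) = s * ((w t : A) : Ω) * s⁻¹
      rw [hw, hw, Subgroup.coe_inv, Subgroup.coe_inv]
      group
    have hθP := restrict_mem F hθ' (hPS.trans hSE)
    obtain ⟨δ, -, hδ⟩ := exists_aut_of_hom hθP (fun a => hP.2 P le_rfl _ hθP a)
    have hcomm := comm_of_inv hp hPp δ (by
      intro t ht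
      have htA : (t : Ω) ∈ A := (hA t t.2).2 (by simpa using congrArg Subtype.val ht)
      apply Subtype.ext
      rw [hδ]
      show θ' ⟨t, _⟩ = _
      rw [hθ'ag t htA]
      show ((w ⟨t, htA⟩ : A) : Ω) = _
      rw [hw]; rfl)
    apply hAcen
    intro a ha
    refine Subgroup.mem_centralizer_iff.2 ?_
    intro t ht
    exact congrArg Subtype.val (hcomm ⟨t, ht⟩ ⟨a, hAP ha⟩)
  refine normal_of_omega hS hF hP 2 (fun i => if i = 0 then ⊥ else if i = 1 then Z else A) (if_pos rfl) ?_ ?_ ?_ ?_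
  · rintro x hx (h | ⟨h, -⟩)
    · simp only [OfNat.ofNat_ne_zero, OfNat.ofNat_ne_one, if_false]
      exact (hA x hx).2 h
    · exact absurd h hp
  · intro i
    rcases i with _ | _ | i
    · simp
    · simpa using hZA
    · simp
  · intro i
    rcases i with _ | _ | i
    · simpa using stronglyClosed_bot
    · simpa using hZsc
    · simpa using hAsc
  · intro i
    rcases i with _ | _ | i
    · have h1 : ⁅Z, P⁆ = ⊥ := (Subgroup.commutator_eq_bot_iff_le_centralizer).2 inf_le_right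
      simp [h1]
    · simpa using hAcm
    · simpa using hAcm.trans hZA

/-- S5234 -/
theorem meta_normal (hp : p ≠ 2) (hS : IsPGroup p S) (hF : F.IsSaturated p) {P : Subgroup Ω} (hP : F.StronglyClosed P)
    (hm : IsMetacyclic ↥P) : F.IsNormal P := by
  haveI := finite_of_le hP.1
  obtain ⟨A0, hA0, hc⟩ := meta_omega hp (hS.to_le hP.1) hm
  refine normal_of_small_omega hp hS hF hP (A := A0.map P.subtype) (Subgroup.map_subtype_le _) ?_ ?_
  · intro x hx
    constructor
    · rintro ⟨y, hy, rfl⟩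
      have := (hA0 y).1 hy
      simpa using congrArg Subtype.val this
    · intro h
      exact ⟨⟨x, hx⟩, (hA0 _).2 (Subtype.ext (by simpa using h)), rfl⟩
  · rw [← Nat.card_congr (Subgroup.equivMapOfInjective A0 P.subtype P.subtype_injective).toEquiv]
    exact hc

end fus

end Cfsg.Agent.H2
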