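import Mathlib
import Cfsg.Prelude.Def_Local
import Cfsg.Agent.L0.GenFit
import Cfsg.Agent.L0.Core
import Cfsg.Agent.L0.Coprime2
import Cfsg.Agent.H2.PComp2

set_option autoImplicit false
open Cfsg

namespace Cfsg.Agent.H2

open Cfsg.Agent.L0
open scoped commutatorElement

theorem nil_of_comm {G : Type*} [Group G] (h : ∀ a b : G, a * b = b * a) : Group.IsNilpotent G := by
  letI : CommGroup G := { (inferInstance : Group G) with mul_comm := h }
  exact CommGroup.isNilpotent

variable {X : Type*} [Group X] [Finite X]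

theorem comm_bot_iff {A B : Subgroup X} : ⁅A, B⁆ = ⊥ ↔ ∀ a ∈ A, ∀ b ∈ B, a * b = b * a := by
  rw [Subgroup.commutator_eq_bot_iff_le_centralizer]
  constructor
  · intro h a ha b hb
    exact (Subgroup.mem_centralizer_iff.1 (h ha) b hb).symm
  · intro h a ha
    rw [Subgroup.mem_centralizer_iff]
    intro b hb
    exact (h a ha b hb).symm

/-- splitting of the layer along a subnormal subgroup -/
theorem layer_split {S : Subgroup X} (hS : S.IsSubnormal) :
    layer X ≤ (layer ↥S).map S.subtype ⊔ (layer X ⊓ Subgroup.centralizer (S : Set X)) := by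
  rw [layer_le_iff]
  intro K hK
  rcases component_subnormal_cases hK hS with h | h
  · refine le_trans ?_ le_sup_left
    intro x hx
    refine ⟨⟨x, h hx⟩, ?_, rfl⟩
    exact le_layer (isComponent_subgroupOf hK h) (Subgroup.mem_subgroupOf.2 hx)
  · refine le_trans (le_inf (le_layer hK) ?_) le_sup_right
    exact Subgroup.commutator_eq_bot_iff_le_centralizer.1 h

theorem subnormal_fit_eq {S : Subgroup X} (hS : S.IsSubnormal) : (fittingSubgroup ↥S).map S.subtype = fittingSubgroup X ⊓ S := by
  apply le_antisymm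
  · refine le_inf ?_ (Subgroup.map_subtype_le _)
    have h1 : Group.IsNilpotent ↥(fittingSubgroup ↥S) := fittingSubgroup_isNilpotent ↥S
    have h2 : Group.IsNilpotent ↥((fittingSubgroup ↥S).map S.subtype) :=
      Group.nilpotent_of_mulEquiv ((fittingSubgroup ↥S).equivMapOfInjective _ S.subtype_injective)
    refine le_fittingSubgroup_of_isSubnormal ?_ h2
    refine subnormal_of_normal_in hS (Subgroup.map_subtype_le _) ?_
    refine (Subgroup.normal_subgroupOf_iff_le_normalizer (Subgroup.map_subtype_le _)).1 ?_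
    rw [Subgroup.subgroupOf, Subgroup.comap_map_eq_self_of_injective (Subgroup.subtype_injective _)]
    infer_instance
  · rintro x ⟨hx, hxS⟩
    refine ⟨⟨x, hxS⟩, ?_, rfl⟩
    have h1 : Group.IsNilpotent ↥(fittingSubgroup X) := fittingSubgroup_isNilpotent X
    have h3 : Function.Injective (((fittingSubgroup X).subgroupOf S).subtype) := Subgroup.subtype_injective _
    have h2 : Group.IsNilpotent ↥((fittingSubgroup X).subgroupOf S) := by
      have : Group.IsNilpotent ↥((fittingSubgroup X ⊓ S : Subgroup X).subgroupOf (fittingSubgroup X)) := inferInstance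
      have e1 := Subgroup.subgroupOfEquivOfLe (inf_le_left : fittingSubgroup X ⊓ S ≤ fittingSubgroup X)
      have h4 : Group.IsNilpotent ↥(fittingSubgroup X ⊓ S : Subgroup X) := Group.nilpotent_of_mulEquiv e1
      have e2 := Subgroup.subgroupOfEquivOfLe (inf_le_right : fittingSubgroup X ⊓ S ≤ S)
      have h5 : Group.IsNilpotent ↥((fittingSubgroup X ⊓ S : Subgroup X).subgroupOf S) := Group.nilpotent_of_mulEquiv e2.symm
      rwa [Subgroup.inf_subgroupOf_right] at h5
    exact le_fittingSubgroup h2 (Subgroup.mem_subgroupOf.2 hx)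

/-- a subnormal subgroup inside `F*(X)` is its own generalized Fitting subgroup -/
theorem genFit_of_le {S : Subgroup X} (hS : S.IsSubnormal) (hle : S ≤ generalizedFittingSubgroup X) :
    fittingSubgroup ↥S ⊔ layer ↥S = ⊤ := by
  -- the centralizer of the layer in S
  obtain ⟨E, hE⟩ : ∃ E, E = (layer ↥S).map S.subtype := ⟨_, rfl⟩
  have hES : E ≤ S := by rw [hE]; exact Subgroup.map_subtype_le _
  obtain ⟨C, hC⟩ : ∃ C, C = S ⊓ Subgroup.centralizer (E : Set X) := ⟨_, rfl⟩
  have hCS : C ≤ S := by rw [hC]; exact inf_le_left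
  have hCE : C ≤ Subgroup.centralizer (E : Set X) := by rw [hC]; exact inf_le_right
  have hFE : ∀ f ∈ fittingSubgroup X, ∀ e ∈ layer X, f * e = e * f := fun f hf e he =>
    (comm_bot_iff.1 (layer_commutator_fitting X) e he f hf).symm
  have hElay : E ≤ layer X := by rw [hE]; exact layer_map_subtype_le hS
  -- decomposition
  have hdec : ∀ s ∈ S, ∃ f ∈ fittingSubgroup X, ∃ e ∈ E, ∃ c ∈ Subgroup.centralizer (S : Set X), s = f * e * c := by
    intro s hs
    have h1 := hle hs
    unfold generalizedFittingSubgroup at h1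
    obtain ⟨e, he, f, hf, rfl⟩ := Subgroup.mem_sup_of_normal_right.1 h1
    have h2 := layer_split hS he
    rw [← hE] at h2
    -- E and the other factor commute
    have hcomm : (layer X ⊓ Subgroup.centralizer (S : Set X) : Subgroup X) ≤ Subgroup.normalizer (E : Set X) := by
      refine le_trans inf_le_right ?_
      exact (Subgroup.centralizer_le hES).trans (H6.centralizer_le_norm E)
    obtain ⟨e₁, he₁, e₂, he₂, rfl⟩ := (mem_sup_of_normalizes hcomm).1 h2
    refine ⟨f, hf, e₁, he₁, e₂, he₂.2, ?_⟩
    rw [mul_assoc f, ← hFE f hf (e₁ * e₂) he]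
  have hCnil : Group.IsNilpotent ↥C := by
    have hCN : C ≤ Subgroup.normalizer (S : Set X) := hCS.trans Subgroup.le_normalizer
    let φ : ↥C →* MulAut ↥S := S.normalizerMonoidHom.comp (Subgroup.inclusion hCN)
    have hφ : ∀ (c : ↥C) (s : ↥S), ((φ c s : ↥S) : X) = c * s * (c : X)⁻¹ := fun _ _ => rfl
    let F₀ : Subgroup ↥(Subgroup.normalizer (S : Set X)) := (fittingSubgroup X).subgroupOf (Subgroup.normalizer (S : Set X))
    have hF₀ : Group.IsNilpotent ↥F₀ := by
      have h1 : Group.IsNilpotent ↥(fittingSubgroup X) := fittingSubgroup_isNilpotent X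
      have : Group.IsNilpotent ↥((fittingSubgroup X ⊓ Subgroup.normalizer (S : Set X) : Subgroup X).subgroupOf (fittingSubgroup X)) := inferInstance
      have e1 := Subgroup.subgroupOfEquivOfLe (inf_le_left : fittingSubgroup X ⊓ Subgroup.normalizer (S : Set X) ≤ fittingSubgroup X)
      have h4 : Group.IsNilpotent ↥(fittingSubgroup X ⊓ Subgroup.normalizer (S : Set X) : Subgroup X) := Group.nilpotent_of_mulEquiv e1
      have e2 := Subgroup.subgroupOfEquivOfLe (inf_le_right : fittingSubgroup X ⊓ Subgroup.normalizer (S : Set X) ≤ Subgroup.normalizer (S : Set X))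
      have h5 := Group.nilpotent_of_mulEquiv e2.symm
      rwa [Subgroup.inf_subgroupOf_right] at h5
    have hR : Group.IsNilpotent ↥(F₀.map S.normalizerMonoidHom) :=
      Group.nilpotent_of_surjective _ (S.normalizerMonoidHom.subgroupMap_surjective F₀)
    have hrange : φ.range ≤ F₀.map S.normalizerMonoidHom := by
      rintro _ ⟨c, rfl⟩
      obtain ⟨f, hf, e, he, z, hz, hcz⟩ := hdec c (hCS c.2)
      -- c * e⁻¹ acts as c; c e⁻¹ z⁻¹ = f
      have hcE : (c : X) ∈ Subgroup.centralizer (E : Set X) := hCE c.2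
      have hzE : z ∈ Subgroup.centralizer (E : Set X) := Subgroup.centralizer_le hES hz
      have he' := Subgroup.mem_centralizer_iff.1 hzE e he
      -- e centralizes E? show e acts trivially : e ∈ Z(E)
      have hf' : f = c * z⁻¹ * e⁻¹ := by rw [hcz, mul_assoc (f * e)]; group
      -- use the decomposition with respect to f * e = c z⁻¹
      have hee : ∀ y ∈ E, e * y = y * e := by
        intro y hy
        have h1 := Subgroup.mem_centralizer_iff.1 hcE y hy
        have h2 := Subgroup.mem_centralizer_iff.1 hzE y hy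
        have h3 := hFE f hf y (hElay hy)
        have e0 : e = f⁻¹ * c * z⁻¹ := by rw [hcz]; group
        have hfi : f⁻¹ * y = y * f⁻¹ := by
          rw [inv_mul_eq_iff_eq_mul, ← mul_assoc, h3]; group
        have hzi : z⁻¹ * y = y * z⁻¹ := by
          rw [inv_mul_eq_iff_eq_mul, ← mul_assoc, ← h2]; group
        calc e * y = f⁻¹ * c * (z⁻¹ * y) := by rw [e0]; group
          _ = f⁻¹ * (c * y) * z⁻¹ := by rw [hzi]; group
          _ = f⁻¹ * y * c * z⁻¹ := by rw [← h1]; group
          _ = y * (f⁻¹ * c * z⁻¹) := by rw [hfi]; group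
          _ = y * e := by rw [← e0]
      -- e is central in E, so lies in the Fitting subgroup
      have heF : e ∈ fittingSubgroup X := by
        have h1 : Group.IsNilpotent ↥(E ⊓ Subgroup.centralizer (E : Set X) : Subgroup X) := by
          refine nil_of_comm ?_
          rintro ⟨a, ha⟩ ⟨b, hb⟩
          exact Subtype.ext (Subgroup.mem_centralizer_iff.1 hb.2 a ha.1)
        have hEsn : E.IsSubnormal := by
          rw [hE]
          refine subnormal_of_normal_in hS (Subgroup.map_subtype_le _) ?_
          refine (Subgroup.normal_subgroupOf_iff_le_normalizer (Subgroup.map_subtype_le _)).1 ?_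
          rw [Subgroup.subgroupOf, Subgroup.comap_map_eq_self_of_injective (Subgroup.subtype_injective _)]
          infer_instance
        have h2 : (E ⊓ Subgroup.centralizer (E : Set X) : Subgroup X).IsSubnormal := by
          refine subnormal_of_normal_in hEsn inf_le_left ?_
          exact H6.le_norm_inf Subgroup.le_normalizer (H6.le_norm_centralizer Subgroup.le_normalizer)
        refine le_fittingSubgroup_of_isSubnormal h2 h1 (Subgroup.mem_inf.2 ⟨he, ?_⟩)
        rw [Subgroup.mem_centralizer_iff]
        intro y hy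
        exact (hee y hy).symm
      have hfe : f * e ∈ fittingSubgroup X := Subgroup.mul_mem _ hf heF
      have hzN : z ∈ Subgroup.normalizer (S : Set X) := H6.centralizer_le_norm S hz
      have hfeN : f * e ∈ Subgroup.normalizer (S : Set X) := by
        have : f * e = c * z⁻¹ := by rw [hcz]; group
        rw [this]
        exact Subgroup.mul_mem _ (hCN c.2) (Subgroup.inv_mem _ hzN)
      refine ⟨⟨f * e, hfeN⟩, Subgroup.mem_subgroupOf.2 hfe, ?_⟩
      ext s
      show f * e * s * (f * e)⁻¹ = c * s * (c : X)⁻¹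
      have hzs := Subgroup.mem_centralizer_iff.1 hz s s.2
      rw [hcz]
      calc f * e * s * (f * e)⁻¹ = f * e * (s * z) * z⁻¹ * (f * e)⁻¹ := by group
        _ = f * e * (z * s) * z⁻¹ * (f * e)⁻¹ := by rw [hzs]
        _ = f * e * z * s * (f * e * z)⁻¹ := by group
    have hRn : Group.IsNilpotent ↥φ.range := by
      have h1 : Group.IsNilpotent ↥(φ.range.subgroupOf (F₀.map S.normalizerMonoidHom)) := inferInstance
      exact Group.nilpotent_of_mulEquiv (Subgroup.subgroupOfEquivOfLe hrange)
    haveI := hRn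
    refine Subgroup.isNilpotent_of_ker_le_center φ.rangeRestrict ?_
    intro c hc
    rw [MonoidHom.ker_rangeRestrict] at hc
    rw [Subgroup.mem_center_iff]
    intro d
    apply Subtype.ext
    have h1 : φ c = 1 := hc
    have h2 := hφ c ⟨d, hCS d.2⟩
    rw [h1] at h2
    have h3 : (d : X) = c * d * (c : X)⁻¹ := h2
    exact eq_mul_inv_iff_mul_eq.1 h3
  have hCn : (C.subgroupOf S).Normal := by
    refine (Subgroup.normal_subgroupOf_iff_le_normalizer hCS).2 ?_
    rw [hC]
    have hEn : S ≤ Subgroup.normalizer (E : Set X) := by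
      rw [hE]
      refine (Subgroup.normal_subgroupOf_iff_le_normalizer (Subgroup.map_subtype_le _)).1 ?_
      rw [Subgroup.subgroupOf, Subgroup.comap_map_eq_self_of_injective (Subgroup.subtype_injective _)]
      infer_instance
    exact H6.le_norm_inf Subgroup.le_normalizer (H6.le_norm_centralizer hEn)
  have hCF : C.subgroupOf S ≤ fittingSubgroup ↥S := by
    refine le_fittingSubgroup ?_
    exact Group.nilpotent_of_mulEquiv (Subgroup.subgroupOfEquivOfLe hCS).symm
  rw [eq_top_iff]
  intro s _
  obtain ⟨f, hf, e, he, z, hz, hs⟩ := hdec s s.2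
  have heS : e ∈ S := hES he
  have hz' := Subgroup.mem_centralizer_iff.1 hz e heS
  have hfe := hFE f hf e (hElay he)
  -- s * e⁻¹ = f z in C
  have h1 : (s : X) * e⁻¹ ∈ C := by
    rw [hC]
    refine Subgroup.mem_inf.2 ⟨S.mul_mem s.2 (S.inv_mem heS), ?_⟩
    rw [Subgroup.mem_centralizer_iff]
    intro y hy
    have h2 : (s : X) * e⁻¹ = f * z := by
      rw [hs]
      calc f * e * z * e⁻¹ = f * (e * z) * e⁻¹ := by group
        _ = f * (z * e) * e⁻¹ := by rw [hz']
        _ = f * z := by group
    rw [h2]
    have h3 := hFE f hf y (hElay hy)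
    have h4 := Subgroup.mem_centralizer_iff.1 hz y (hES hy)
    calc y * (f * z) = (y * f) * z := by group
      _ = f * (y * z) := by rw [← h3]; group
      _ = f * (z * y) := by rw [h4]
      _ = f * z * y := by group
  have h2 : s = (⟨(s : X) * e⁻¹, S.mul_mem s.2 (S.inv_mem heS)⟩ : ↥S) * ⟨e, heS⟩ := by
    apply Subtype.ext
    show (s : X) = s * e⁻¹ * e
    group
  rw [h2]
  refine Subgroup.mul_mem_sup (hCF (Subgroup.mem_subgroupOf.2 h1)) ?_
  rw [hE] at he
  obtain ⟨y, hy, hye⟩ := he
  have : (⟨e, heS⟩ : ↥S) = y := Subtype.ext hye.symm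
  rw [this]; exact hy

end Cfsg.Agent.H2
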