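import Cfsg.Agent.H2.SmallF
import Cfsg.Agent.H1.FrobPC
import Cfsg.Agent.H6.Misc1
import Mathlib

set_option autoImplicit false

/-! `p'`-automorphisms of metacyclic `p`-groups (helper2). -/

namespace Cfsg.Agent.H2

open Cfsg Cfsg.Agent.L0

theorem meta_sub {R : Type*} [Group R] (hR : IsMetacyclic R) {Q : Type*} [Group Q] (f : Q →* R) (hf : Function.Injective f) :
    IsMetacyclic Q := by
  obtain ⟨N, hN, hNc, hQc⟩ := hR
  haveI := hN
  haveI := hNc
  haveI := hQc
  refine ⟨N.comap f, inferInstance, ?_, ?_⟩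
  · have hm : ∀ x : ↥(N.comap f), (f.comp (N.comap f).subtype) x ∈ N := fun x => x.2
    refine isCyclic_of_injective ((f.comp (N.comap f).subtype).codRestrict N hm) ?_
    intro a b hab
    apply Subtype.ext
    exact hf (congrArg Subtype.val hab)
  · refine isCyclic_of_injective (QuotientGroup.map (N.comap f) N f le_rfl) ?_
    rw [injective_iff_map_eq_one]
    intro x hx
    obtain ⟨x, rfl⟩ := QuotientGroup.mk_surjective x
    rw [QuotientGroup.map_mk, QuotientGroup.eq_one_iff] at hx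
    exact (QuotientGroup.eq_one_iff x).2 hx

section
variable {P : Type*} [Group P] [Finite P] {p : ℕ} [hpf : Fact p.Prime]

theorem fix_mod {X : Type*} [Group X] [Finite X] {q : ℕ} [Fact q.Prime] (β : MulAut X) (hβ : β ^ q = 1) :
    ∃ C : Subgroup X, (∀ x, x ∈ C ↔ β x = x) ∧ Nat.card X ≡ Nat.card C [MOD q] := by
  classical
  let C : Subgroup X :=
    { carrier := {x | β x = x}
      one_mem' := map_one β
      mul_mem' := by intro a b ha hb; show β (a * b) = a * b; rw [map_mul, ha, hb]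
      inv_mem' := by intro a ha; show β a⁻¹ = a⁻¹; rw [map_inv, ha] }
  refine ⟨C, fun x => Iff.rfl, ?_⟩
  have hz : IsPGroup q ↥(Subgroup.zpowers β) := by
    rintro ⟨g, k, rfl⟩
    refine ⟨1, Subtype.ext ?_⟩
    show (β ^ k) ^ q ^ 1 = 1
    rw [pow_one, ← zpow_natCast, ← zpow_mul, mul_comm, zpow_mul, zpow_natCast, hβ, one_zpow]
  have h1 := hz.card_modEq_card_fixedPoints (α := X)
  have h2 : (MulAction.fixedPoints ↥(Subgroup.zpowers β) X) = (C : Set X) := by
    ext x
    constructor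
    · intro hx
      exact hx ⟨β, Subgroup.mem_zpowers β⟩
    · intro hx
      rintro ⟨g, k, rfl⟩
      show (β ^ k) x = x
      have h3 : x ∈ MulAction.fixedBy X β := hx
      exact MulAction.mem_fixedBy_zpow h3 k
  rw [h2] at h1
  exact h1

theorem aut_eq_one_of_frattini (hP : IsPGroup p P) {q : ℕ} (hq : q.Prime) (hqp : q ≠ p) (α : MulAut P) (hα : α ^ q = 1)
    (h : ∀ x : P, x⁻¹ * α x ∈ frattini P) : α = 1 := by
  classical
  haveI : Fact q.Prime := ⟨hq⟩
  let C : Subgroup P :=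
    { carrier := {x | α x = x}
      one_mem' := map_one α
      mul_mem' := by intro a b ha hb; show α (a * b) = a * b; rw [map_mul, ha, hb]
      inv_mem' := by intro a ha; show α a⁻¹ = a⁻¹; rw [map_inv, ha] }
  have hCt : C ⊔ frattini P = ⊤ := by
    rw [eq_top_iff]
    intro x _
    haveI : Fintype {y : P // x⁻¹ * y ∈ frattini P} := Fintype.ofFinite _
    let f : Function.End {y : P // x⁻¹ * y ∈ frattini P} := fun y => ⟨α y.1, by
      have := (frattini P).mul_mem y.2 (h y.1)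
      have e : x⁻¹ * y.1 * (y.1⁻¹ * α y.1) = x⁻¹ * α y.1 := by group
      rwa [e] at this⟩
    have hf : ∀ (n : ℕ) (y : {y : P // x⁻¹ * y ∈ frattini P}), ((f ^ n) y).1 = (α ^ n) y.1 := by
      intro n
      induction n with
      | zero => intro y; rfl
      | succ n ih =>
        intro y
        rw [pow_succ', pow_succ', MulAut.mul_apply, ← ih]; rfl
    have hf1 : f ^ q ^ 1 = 1 := by
      funext y
      apply Subtype.ext
      rw [hf, pow_one, hα]; rfl
    have h1 := Equiv.Perm.card_fixedPoints_modEq hf1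
    have hcard : Fintype.card {y : P // x⁻¹ * y ∈ frattini P} = Nat.card (frattini P) := by
      rw [← Nat.card_eq_fintype_card]
      exact Nat.card_congr
        { toFun := fun y => ⟨x⁻¹ * y.1, y.2⟩
          invFun := fun y => ⟨x * y.1, by rw [inv_mul_cancel_left]; exact y.2⟩
          left_inv := fun y => Subtype.ext (mul_inv_cancel_left _ _)
          right_inv := fun y => Subtype.ext (inv_mul_cancel_left _ _) }
    rw [hcard] at h1
    have h2 : Nonempty f.fixedPoints := by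
      by_contra hne
      rw [not_nonempty_iff] at hne
      rw [Fintype.card_eq_zero] at h1
      have h3 : q ∣ Nat.card (frattini P) := (Nat.modEq_zero_iff_dvd).1 h1
      obtain ⟨k, hk⟩ := IsPGroup.iff_card.1 (hP.to_subgroup (frattini P))
      rw [hk] at h3
      exact hqp ((Nat.prime_dvd_prime_iff_eq hq hpf.out).1 (hq.dvd_of_dvd_pow h3))
    obtain ⟨⟨y, hy⟩, hfy⟩ := h2
    have hyC : y ∈ C := congrArg Subtype.val hfy
    have e : x = y * (x⁻¹ * y)⁻¹ := by group
    rw [e]
    exact Subgroup.mul_mem_sup hyC ((frattini P).inv_mem hy)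
  have hC : C = ⊤ := frattini_nongenerating hCt
  apply MulEquiv.ext
  intro x
  have : x ∈ C := by rw [hC]; trivial
  exact this

theorem dvd_of_aut_frat (hP : IsPGroup p P) (hc : Nat.card (P ⧸ frattini P) ≤ p ^ 2) {q : ℕ} (hq : q.Prime) (hqp : q ≠ p)
    (α : MulAut P) (hα : orderOf α = q) : q ∣ p ^ 2 - 1 := by
  classical
  haveI : Fact q.Prime := ⟨hq⟩
  have hpp : p.Prime := hpf.out
  have hαq : α ^ q = 1 := by rw [← hα]; exact pow_orderOf_eq_one α
  have hmap : (frattini P).map (α : P ≃* P).toMonoidHom = frattini P := by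
    have := (inferInstance : (frattini P).Characteristic)
    exact (Subgroup.characteristic_iff_map_eq.1 this) α
  let β : MulAut (P ⧸ frattini P) := QuotientGroup.congr (frattini P) (frattini P) α hmap
  have hβ : ∀ x : P, β (QuotientGroup.mk x) = QuotientGroup.mk (α x) := fun x => rfl
  have hβn : ∀ (n : ℕ) (x : P), (β ^ n) (QuotientGroup.mk x) = QuotientGroup.mk ((α ^ n) x) := by
    intro n
    induction n with
    | zero => intro x; rfl
    | succ n ih => intro x; rw [pow_succ', pow_succ', MulAut.mul_apply, ih, hβ, MulAut.mul_apply]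
  have hβq : β ^ q = 1 := by
    apply MulEquiv.ext
    intro x
    obtain ⟨x, rfl⟩ := QuotientGroup.mk_surjective x
    rw [hβn, hαq]; rfl
  obtain ⟨C, hC, hmod⟩ := fix_mod β hβq
  have hQp : IsPGroup p (P ⧸ frattini P) := hP.to_quotient _
  obtain ⟨a, ha⟩ := IsPGroup.iff_card.1 hQp
  obtain ⟨b, hb⟩ := IsPGroup.iff_card.1 (hQp.to_subgroup C)
  have ha2 : a ≤ 2 := by rw [ha] at hc; exact (Nat.pow_le_pow_iff_right hpp.one_lt).1 hc
  have hlt : b < a := by
    have hle : Nat.card C ≤ Nat.card (P ⧸ frattini P) := Nat.card_le_card_of_injective _ Subtype.val_injective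
    rw [ha, hb] at hle
    have h1 : b ≤ a := (Nat.pow_le_pow_iff_right hpp.one_lt).1 hle
    rcases h1.lt_or_eq with h | h
    · exact h
    · exfalso
      have hCt : C = ⊤ := Subgroup.eq_top_of_card_eq C (by rw [hb, ha, h])
      have h2 := aut_eq_one_of_frattini hP hq hqp α hαq (by
        intro x
        have h3 : (QuotientGroup.mk x : P ⧸ frattini P) ∈ C := by rw [hCt]; trivial
        have h4 := (hC _).1 h3
        rw [hβ] at h4
        exact QuotientGroup.eq.1 h4.symm)
      rw [h2, orderOf_one] at hα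
      exact hq.one_lt.ne hα
  rw [ha, hb] at hmod
  have h1 : q ∣ p ^ a - p ^ b := (Nat.modEq_iff_dvd' (Nat.pow_le_pow_right hpp.pos hlt.le)).1 hmod.symm
  have h2 : p ^ a - p ^ b = p ^ b * (p ^ (a - b) - 1) := by
    rw [Nat.mul_sub, ← pow_add, mul_one]
    congr 2
    omega
  rw [h2] at h1
  have h3 : q ∣ p ^ (a - b) - 1 :=
    (Nat.Coprime.pow_right b ((Nat.coprime_primes hq hpp).2 hqp)).dvd_of_dvd_mul_left h1
  have h4 : a - b = 1 ∨ a - b = 2 := by omega
  rcases h4 with h4 | h4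
  · rw [h4] at h3
    refine h3.trans ?_
    have := Nat.sub_dvd_pow_sub_pow p 1 2
    simpa using this
  · rw [h4] at h3; exact h3

theorem card_frat_meta (hP : IsPGroup p P) (hm : IsMetacyclic P) : Nat.card (P ⧸ frattini P) ≤ p ^ 2 := by
  classical
  have hpp : p.Prime := hpf.out
  obtain ⟨N, hN, hNc, hQc⟩ := hm
  haveI := hN
  obtain ⟨⟨a, haN⟩, ha⟩ := hNc.exists_generator
  obtain ⟨b, hb⟩ := hQc.exists_generator
  obtain ⟨b, rfl⟩ := QuotientGroup.mk_surjective b
  have hexp : ∀ x : P ⧸ frattini P, x ^ p = 1 := by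
    intro x
    obtain ⟨x, rfl⟩ := QuotientGroup.mk_surjective x
    rw [← QuotientGroup.mk_pow, QuotientGroup.eq_one_iff]
    exact H6.pow_mem_frattini hP x
  have hsurj : Function.Surjective (fun t : Fin p × Fin p =>
      (QuotientGroup.mk b : P ⧸ frattini P) ^ (t.1 : ℕ) * (QuotientGroup.mk a : P ⧸ frattini P) ^ (t.2 : ℕ)) := by
    intro x
    obtain ⟨x, rfl⟩ := QuotientGroup.mk_surjective x
    obtain ⟨k, hk⟩ := Subgroup.mem_zpowers_iff.1 (hb (QuotientGroup.mk x))
    have h1 : (b ^ k)⁻¹ * x ∈ N := by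
      rw [← QuotientGroup.mk_zpow] at hk
      exact QuotientGroup.eq.1 hk
    obtain ⟨l, hl⟩ := Subgroup.mem_zpowers_iff.1 (ha ⟨_, h1⟩)
    have hl' : a ^ l = (b ^ k)⁻¹ * x := by simpa using congrArg Subtype.val hl
    have hx : x = b ^ k * a ^ l := by rw [hl']; group
    have hred : ∀ (y : P ⧸ frattini P) (m : ℤ), ∃ i : Fin p, y ^ (i : ℕ) = y ^ m := by
      intro y m
      have hp0 : (0 : ℤ) < p := by exact_mod_cast hpp.pos
      have h2 := Int.emod_nonneg m hp0.ne'
      have h3 := Int.emod_lt_of_pos m hp0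
      refine ⟨⟨(m % p).toNat, by omega⟩, ?_⟩
      have h4 : ((m % (p : ℤ)).toNat : ℤ) = m % p := Int.toNat_of_nonneg h2
      show y ^ (m % (p : ℤ)).toNat = y ^ m
      rw [← zpow_natCast, h4]
      have h5 : m = m % p + p * (m / p) := (Int.emod_add_mul_ediv m p).symm
      conv_rhs => rw [h5]
      rw [zpow_add, zpow_mul, zpow_natCast, hexp, one_zpow, mul_one]
    obtain ⟨i, hi⟩ := hred (QuotientGroup.mk b) k
    obtain ⟨j, hj⟩ := hred (QuotientGroup.mk a) l
    refine ⟨(i, j), ?_⟩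
    show (QuotientGroup.mk b : P ⧸ frattini P) ^ (i : ℕ) * (QuotientGroup.mk a : P ⧸ frattini P) ^ (j : ℕ) = _
    rw [hi, hj, hx, QuotientGroup.mk_mul, QuotientGroup.mk_zpow, QuotientGroup.mk_zpow]
  have := Nat.card_le_card_of_surjective _ hsurj
  rw [Nat.card_prod, Nat.card_fin] at this
  rw [pow_two]; exact this

end

/-- the order of a `p'`-element acting nontrivially -/
theorem exists_prime_aut {G : Type*} [Group G] [Finite G] {p : ℕ} [hpf : Fact p.Prime] {Q : Subgroup G}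
    {g : G} (hg : g ∈ Subgroup.normalizer (Q : Set G)) (ho : (orderOf g).Coprime p) (hgC : g ∉ Subgroup.centralizer (Q : Set G)) :
    ∃ (q : ℕ) (h : G) (_ : h ∈ Subgroup.normalizer (Q : Set G)) (α : MulAut Q) (k : ℕ), q.Prime ∧ q ≠ p ∧ orderOf α = q ∧
      h ^ q ^ k = 1 ∧ ∀ x : Q, ((α x : Q) : G) = h * x * h⁻¹ := by
  classical
  let N := Subgroup.normalizer (Q : Set G)
  let ρ : N →* MulAut Q := Q.normalizerMonoidHom
  have hρ : ∀ (n : N) (x : Q), ((ρ n x : Q) : G) = n * x * (n : G)⁻¹ := fun n x => rfl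
  have hne : ρ ⟨g, hg⟩ ≠ 1 := by
    intro h
    apply hgC
    rw [Subgroup.mem_centralizer_iff]
    intro x hx
    have h1 := hρ ⟨g, hg⟩ ⟨x, hx⟩
    rw [h] at h1
    have h2 : x = g * x * g⁻¹ := h1
    calc x * g = (g * x * g⁻¹) * g := by rw [← h2]
      _ = g * x := by group
  have hn1 : orderOf (ρ ⟨g, hg⟩) ≠ 1 := fun h => hne (orderOf_eq_one_iff.1 h)
  obtain ⟨q, hq, hqd⟩ := Nat.exists_prime_and_dvd hn1
  obtain ⟨m, hm⟩ := hqd
  have hdvd : orderOf (ρ ⟨g, hg⟩) ∣ orderOf g := by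
    have := orderOf_map_dvd ρ ⟨g, hg⟩
    rwa [Subgroup.orderOf_mk] at this
  have hqg : q ∣ orderOf g := (Dvd.intro m hm.symm).trans hdvd
  have hqp : q ≠ p := by
    rintro rfl
    exact hq.one_lt.ne' (Nat.eq_one_of_dvd_coprimes ho hqg dvd_rfl)
  have hm0 : m ≠ 0 := by
    rintro rfl
    have := orderOf_pos (ρ ⟨g, hg⟩)
    omega
  -- the power of order `q` on `Q`
  have hpow : orderOf (ρ ⟨g, hg⟩ ^ m) = q := by
    rw [orderOf_pow_of_dvd hm0 (Dvd.intro_left q hm.symm), hm]
    exact Nat.mul_div_cancel _ (Nat.pos_of_ne_zero hm0)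
  obtain ⟨k, r, hr, hkr⟩ := Nat.exists_eq_pow_mul_and_not_dvd (orderOf_pos (g ^ m)).ne' q hq.ne_one
  have hcop : (orderOf (ρ ⟨g, hg⟩ ^ m)).Coprime r := by
    rw [hpow]; exact (Nat.Prime.coprime_iff_not_dvd hq).2 hr
  refine ⟨q, (g ^ m) ^ r, Subgroup.pow_mem _ (Subgroup.pow_mem _ hg m) r, (ρ ⟨g, hg⟩ ^ m) ^ r, k, hq, hqp, ?_, ?_, ?_⟩
  · rw [Nat.Coprime.orderOf_pow hcop, hpow]
  · rw [← pow_mul, mul_comm r, ← hkr]; exact pow_orderOf_eq_one _
  · intro x
    rw [← map_pow, ← map_pow]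
    exact hρ _ x

end Cfsg.Agent.H2
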