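import Cfsg.Agent.H2.RealSys

set_option autoImplicit false
set_option linter.unusedSectionVars false
set_option linter.unusedSimpArgs false
set_option linter.unusedVariables false
set_option linter.style.haveILetI false
open Pointwise
open scoped commutatorElement

/-! Minimal non-inner fusion systems (helper2). -/

namespace Cfsg.Agent.H2
open Cfsg Cfsg.Agent.L0 Cfsg.Agent.L0.Fus Cfsg.FusionSystem Cfsg.Agent.H6

universe u v w

section
variable {p : ℕ} [hp : Fact p.Prime]

theorem pn_of_pgroup {G : Type*} [Group G] [Finite G] {H : Subgroup G} (h : IsPGroup p H) : PN p H := by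
  have : opR p H = ⊥ := by
    rw [eq_bot_iff]
    refine (Subgroup.closure_le _).2 ?_
    rintro x ⟨hx, hxp⟩
    obtain ⟨k, hk⟩ := h ⟨x, hx⟩
    have hk' : x ^ p ^ k = 1 := by simpa using congrArg Subtype.val hk
    have : x = 1 := orderOf_eq_one_iff.1 (Nat.eq_one_of_dvd_coprimes (Nat.Coprime.pow_right k hxp) dvd_rfl
      (orderOf_dvd_of_pow_eq_one hk'))
    simp [this]
  unfold PN
  rw [this, Subgroup.card_bot]
  exact Nat.coprime_one_left p

/-- a `p`-nilpotent overgroup of a self-centralizing `p`-subgroup is a `p`-group -/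
theorem pgroup_of_pn {G : Type*} [Group G] [Finite G] {M : Subgroup G} (hM : PN p M) (hc : Cons p G) (hO : pCore p G ≤ M) :
    IsPGroup p M := by
  have hTp : IsPGroup p ↥(pCore p G) := L0.pCore_isPGroup p G
  have h1 : opR p M ≤ Subgroup.centralizer (pCore p G : Set G) :=
    opR_le_centralizer hM hTp hO (norm_of_normal M)
  have h2 : opR p M = ⊥ := by
    have h3 := opR_inf_pgroup hM hTp
    rwa [inf_eq_left.2 (h1.trans hc)] at h3
  rintro ⟨x, hx⟩
  obtain ⟨k, hk⟩ := pow_mem_opR (p := p) hx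
  rw [h2, Subgroup.mem_bot] at hk
  exact ⟨k, Subtype.ext hk⟩

theorem npc_of_inner_real {Ω : Type u} [Group Ω] {S : Subgroup Ω} [Finite S] {F : FusionSystem S}
    {G : Type v} [Group G] [Finite G] {ι : S →* G} (hG : F.IsRealizedBy ι) (T : Sylow p G)
    (hT : (T : Subgroup G) = ι.range) (h : F ≤ innerFusionSystem S) : HasNormalPComplement p G := by
  have h1 := npc_of_locIn hG T hT (W := ⊥) bot_le (by
    have : Subgroup.normalizer ((⊥ : Subgroup Ω) : Set Ω) = ⊤ := by
      rw [Subgroup.normalizer_eq_top_iff]; infer_instance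
    rw [this]; exact le_top) (fun Y φ hφ => h Y hφ.1)
  rw [npc_iff'] at h1
  have h2 : ((⊥ : Subgroup Ω).subgroupOf S).map ι = ⊥ := by
    rw [Subgroup.bot_subgroupOf, Subgroup.map_bot]
  have h3 : Subgroup.normalizer ((((⊥ : Subgroup Ω).subgroupOf S).map ι : Subgroup G) : Set G) = ⊤ := by
    rw [h2, Subgroup.normalizer_eq_top_iff]; infer_instance
  rw [h3] at h1
  exact npc_iff.2 h1

/-- in a minimal situation the Sylow subgroup is maximal in the model -/
theorem coatom_of_min {Ω : Type u} [Group Ω] {S : Subgroup Ω} [Finite S] {F : FusionSystem S}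
    {G : Type v} [Group G] {ι : S →* G} (hG : F.IsModel p G ι) (hni : ¬ F ≤ innerFusionSystem S)
    (hmin : ∀ E : FusionSystem S, E.IsSaturated p → E.IsSubsystemOf F → ¬ F.IsSubsystemOf E → E ≤ innerFusionSystem S)
    (T : Sylow p G) (hT : (T : Subgroup G) = ι.range) : IsCoatom (T : Subgroup G) := by
  haveI : Finite G := hG.1
  constructor
  · intro htop
    apply hni
    refine inner_of_model hG.2.1 T hT (npc_iff.2 ?_)
    rw [← htop]
    exact pn_of_pgroup T.2
  · intro M hTM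
    by_contra hM
    have hιM : ι.range ≤ M := hT ▸ hTM.le
    have hE := realSys_realized ι hG.2.1.1 M hιM
    obtain ⟨T', hT'⟩ := realSys_sylow ι M hιM T hT
    have hEF : (realSys ι hG.2.1.1 M hιM).IsSubsystemOf F := realSys_le hG.2.1 M hιM
    have hnot : ¬ F.IsSubsystemOf (realSys ι hG.2.1.1 M hιM) := by
      intro hFE
      apply hM
      rw [eq_top_iff]
      intro g _
      obtain ⟨R, hR, hRp⟩ := model_core_pre hG
      have hmemR : ∀ x : R, ι ⟨x, hR.1 x.2⟩ ∈ pCore p G := fun x => by rw [← hRp]; exact ⟨⟨x, hR.1 x.2⟩, x.2, rfl⟩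
      obtain ⟨φ, hφ, hφS, h1⟩ := exists_hom_of_conj hG.2.1 g hR.1 (fun x => by
        have h2 : g * ι ⟨x, hR.1 x.2⟩ * g⁻¹ ∈ pCore p G := (inferInstance : (pCore p G).Normal).conj_mem _ (hmemR x) g
        rw [← hRp] at h2
        obtain ⟨y, hy, hyx⟩ := h2
        exact ⟨y, hyx⟩)
      have hφE := hFE R hφ
      obtain ⟨hP', hφ', m, hmM, hm⟩ := hφE
      have h3 : m⁻¹ * g ∈ pCore p G := by
        apply hG.2.2.2
        rw [Subgroup.mem_centralizer_iff]
        intro y hy
        have hy' : y ∈ (R.subgroupOf S).map ι := by rw [hRp]; exact hy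
        obtain ⟨x, hx, rfl⟩ := hy'
        have e1 := h1 ⟨x, hx⟩
        have e2 := hm ⟨x, hx⟩
        have e3 : (⟨(x : Ω), hR.1 hx⟩ : S) = x := rfl
        have e4 := e1.symm.trans e2
        change g * ι x * g⁻¹ = m * ι x * m⁻¹ at e4
        calc ι x * (m⁻¹ * g) = m⁻¹ * (m * ι x * m⁻¹) * g := by group
          _ = m⁻¹ * (g * ι x * g⁻¹) * g := by rw [e4]
          _ = m⁻¹ * g * ι x := by group
      have h4 : pCore p G ≤ M := (pCore_le_sylow T).trans hTM.le
      have h5 : g = m * (m⁻¹ * g) := by group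
      rw [h5]; exact M.mul_mem hmM (h4 h3)
    have hin := hmin _ (saturated_of_realized hE T' hT') hEF hnot
    have h1 := npc_of_inner_real hE T' hT' hin
    rw [npc_iff, pn_top_iff] at h1
    have h2 := pgroup_of_pn h1 hG.2.2.2 ((pCore_le_sylow T).trans hTM.le)
    exact hTM.ne (T.3 h2 hTM.le).symm

/-- the quotient by `O_p` is `p`-nilpotent if the Sylow subgroup is maximal, `p` odd -/
theorem quot_pn_of_coatom (hp2 : p ≠ 2) {G : Type u} [Group G] [Finite G] (T : Sylow p G)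
    (hco : IsCoatom (T : Subgroup G)) : PN p (⊤ : Subgroup (G ⧸ pCore p G)) := by
  set O := pCore p G with hO
  set f := QuotientGroup.mk' O with hf
  have hfs : Function.Surjective f := QuotientGroup.mk'_surjective O
  set Tb := T.mapSurjective hfs with hTb
  have hTbc : (Tb : Subgroup (G ⧸ O)) = (T : Subgroup G).map f := Sylow.coe_mapSurjective hfs T
  have hOT : O ≤ (T : Subgroup G) := pCore_le_sylow T
  have hcomap : (Tb : Subgroup (G ⧸ O)).comap f = T := by
    rw [hTbc, comap_map_mk', sup_eq_left.2 hOT]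
  rw [← npc_iff]
  refine npc_of_zz hp2 (m := 0) (Or.inl rfl) Tb (D := (Tb : Subgroup (G ⧸ O))) ⟨le_rfl, fun x _ g hg => hg⟩ ?_
  rw [npc_iff']
  by_cases hb : (Tb : Subgroup (G ⧸ O)) = ⊥
  · exact PN.of_sylow_bot Tb hb _
  set N := Subgroup.normalizer ((zz 0 (Tb : Subgroup (G ⧸ O)) : Subgroup (G ⧸ O)) : Set (G ⧸ O)) with hN
  have hTN : (Tb : Subgroup (G ⧸ O)) ≤ N := Subgroup.le_normalizer.trans norm_le_norm_zz
  have h1 : (T : Subgroup G) ≤ N.comap f := by
    rw [← hcomap]; exact Subgroup.comap_mono hTN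
  rcases hco.le_iff.1 h1 with h2 | h2
  · exfalso
    have h3 : N = ⊤ := by
      rw [← Subgroup.map_comap_eq_self_of_surjective hfs N, h2, Subgroup.map_top_of_surjective f hfs]
    haveI : (zz 0 (Tb : Subgroup (G ⧸ O))).Normal := Subgroup.normalizer_eq_top_iff.1 h3
    have h4 : zz 0 (Tb : Subgroup (G ⧸ O)) ≤ pCore p (G ⧸ O) := L0.le_pCore (Tb.2.to_le zz_le)
    have h5 : pCore p (G ⧸ O) = ⊥ := L0.pCore_quotient_pCore p G
    rw [h5, le_bot_iff] at h4
    exact zz_ne_bot (Or.inl rfl) Tb.2 hb h4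
  · have h3 : N = Tb := by
      rw [← Subgroup.map_comap_eq_self_of_surjective hfs N, h2, hTbc]
    rw [h3]
    exact pn_of_pgroup Tb.2

theorem exists_min {Ω : Type u} [Group Ω] {S : Subgroup Ω} [Finite S] : ∀ (n : ℕ) (F : FusionSystem S), fsize F = n →
    F.IsSaturated p → ¬ F ≤ innerFusionSystem S →
    ∃ E : FusionSystem S, E.IsSaturated p ∧ E.IsSubsystemOf F ∧ ¬ E ≤ innerFusionSystem S ∧
      ∀ E' : FusionSystem S, E'.IsSaturated p → E'.IsSubsystemOf E → ¬ E.IsSubsystemOf E' → E' ≤ innerFusionSystem S := by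
  intro n
  induction n using Nat.strong_induction_on with
  | _ n ih =>
  intro F hn hF hni
  by_cases h : ∀ E' : FusionSystem S, E'.IsSaturated p → E'.IsSubsystemOf F → ¬ F.IsSubsystemOf E' → E' ≤ innerFusionSystem S
  · exact ⟨F, hF, fun P φ hφ => hφ, hni, h⟩
  · push Not at h
    obtain ⟨E', h1, h2, h3, h4⟩ := h
    obtain ⟨E, g1, g2, g3, g4⟩ := ih (fsize E') (hn ▸ fsize_lt h2 h3) E' rfl h1 h4
    exact ⟨E, g1, fun P φ hφ => h2 P (g2 P hφ), g3, g4⟩

/-- minimal non-inner systems are constrained, `p` odd -/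
theorem model_of_min (hp2 : p ≠ 2) {Ω : Type u} [Group Ω] {S : Subgroup Ω} [Finite S] {F : FusionSystem S}
    (hS : IsPGroup p S) (hF : F.IsSaturated p) (hni : ¬ F ≤ innerFusionSystem S)
    (hmin : ∀ E : FusionSystem S, E.IsSaturated p → E.IsSubsystemOf F → ¬ F.IsSubsystemOf E → E ≤ innerFusionSystem S) :
    ∃ (G : Type u) (_ : Group G) (ι : S →* G), F.IsModel p G ι := by
  have hSsc : F.StronglyClosed S := ⟨le_rfl, fun R hR φ hφ x => hom_mem F hφ x⟩
  have hloc : ∀ R : Subgroup Ω, R ≤ S → S ≤ Subgroup.normalizer (R : Set Ω) → ¬ F.IsNormal R →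
      LocIn F (innerFusionSystem S) R := by
    intro R hR hn hRn
    obtain ⟨E, hE⟩ := exists_normalizerSystem F hR
    have hsub : E.IsSubsystemOf F := fun P φ hφ => by rw [hE P] at hφ; exact hφ.1
    have hnot : ¬ F.IsSubsystemOf E := fun h => hRn (normal_of_normalizerHom hR fun P φ hφ => by
      rw [← hE P]; exact h P hφ)
    have hsat := normalizerSystem_saturated hS hF (fullyNormalized_of_le_normalizer hR hn) hE
    have key : ∀ T : Subgroup Ω, T = S → ∀ E : FusionSystem T, E.IsSaturated p → E.IsSubsystemOf F → ¬ F.IsSubsystemOf E →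
        ∀ P, E.Hom P ⊆ (innerFusionSystem S).Hom P := by
      rintro T rfl E h1 h2 h3
      exact hmin E h1 h2 h3
    intro Y φ hφ
    rw [← hE Y] at hφ
    exact key _ (inf_eq_left.mpr hn) E hsat hsub hnot Y hφ
  have hinn : innerFusionSystem S ≤ F := inner_subsystem le_rfl
  have hzn : ∀ hz : F.IsNormal (zz 0 S), True := fun _ => trivial
  by_cases hcore : F.core = ⊥
  · exfalso
    apply hni
    have hS1 : S ≠ ⊥ := by
      intro h
      apply hni
      intro P φ hφ
      refine ⟨hom_le F hφ, 1, S.one_mem, fun x => ?_⟩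
      have h1 := hom_mem F hφ x
      have h2 := hom_le F hφ x.2
      rw [h, Subgroup.mem_bot] at h1 h2
      rw [h1, h2]; simp
    refine zjd_inner hp2 (Or.inl rfl) Ω S F hS hF S hSsc (hloc (zz 0 S) zz_fin_le ?_ ?_)
    · exact Subgroup.le_normalizer.trans norm_le_norm_zz
    · intro hz
      exact zz_fin_ne_bot (Or.inl rfl) hS hS1 (le_bot_iff.1 (hcore ▸ le_core hz))
  have hQ := core_normal F
  have hQsc := stronglyClosed_of_normal hQ
  have hQn := StronglyClosed.le_normalizer hQsc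
  by_cases hQc : centralizerIn S F.core ≤ F.core
  · have hQc' : F.IsCentric F.core := ⟨hQ.1, fun Q' h => by rw [isConj_of_normal hQ h]; exact hQc⟩
    obtain ⟨G, i, ι, hG, -, -⟩ := exists_model hS hF hQ hQc'
    exact ⟨G, i, ι, hG⟩
  exfalso
  apply hni
  obtain ⟨E₁, hE₁, hE₁s, hE₁F, -, hE₁aut⟩ := exists_centSystem.{u, u} hS hF hQ
  have hRsc := stronglyClosed_mul_centralizer hS hF hQsc
  have hRn := StronglyClosed.le_normalizer hRsc
  by_cases hE1 : F.IsSubsystemOf E₁
  · have hAp : IsPGroup p (F.autGroup F.core) := (isPGroup_autInducedBy hS hQ.1).to_le (hE₁aut hE1)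
    obtain ⟨Ω', _, _, θ, E, hE, hEs, hp', hlt, hne⟩ := exists_factor hS hF hQsc
    have hcS : F.core ≠ S := fun h => hQc (by rw [h]; exact inf_le_left)
    have htop : E.StronglyClosed ⊤ := ⟨le_rfl, fun R hR φ hφ x => Subgroup.mem_top _⟩
    have hsm := factor_surjectiveMorphism hS hF hQsc hE
    have hr : θ.range = ⊤ := hsm.2.1
    have hW'ne : zz 0 (⊤ : Subgroup Ω') ≠ ⊥ := zz_fin_ne_bot (Or.inl rfl) hp' (hne hcS)
    have hW'n : (⊤ : Subgroup Ω') ≤ Subgroup.normalizer ((zz 0 (⊤ : Subgroup Ω') : Subgroup Ω') : Set Ω') :=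
      Subgroup.le_normalizer.trans norm_le_norm_zz
    have h1 : E ≤ innerFusionSystem (⊤ : Subgroup Ω') := by
      refine zjd_inner hp2 (Or.inl rfl) Ω' ⊤ E hp' hEs ⊤ htop (locIn_factor hF hQsc hS hE le_top hW'n ?_)
      refine hloc _ preimageAlong_le ?_ ?_
      · intro s hs
        haveI : Finite ↥(preimageAlong θ (zz 0 (⊤ : Subgroup Ω'))) := finite_of_le preimageAlong_le
        apply mem_normalizer_of_finite
        intro x hx
        obtain ⟨a, b⟩ := mem_preimageAlong.1 hx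
        refine mem_preimageAlong.2 ⟨S.mul_mem (S.mul_mem hs a) (S.inv_mem hs), ?_⟩
        have e1 : (⟨s * x * s⁻¹, S.mul_mem (S.mul_mem hs a) (S.inv_mem hs)⟩ : S) = ⟨s, hs⟩ * ⟨x, a⟩ * ⟨s, hs⟩⁻¹ := rfl
        rw [e1, map_mul, map_mul, map_inv]
        exact (Subgroup.mem_normalizer_iff.1 (hW'n (Subgroup.mem_top _)) _).1 b
      · intro h
        apply hW'ne
        have h2 := le_core h
        rw [eq_bot_iff]
        intro y hy
        have hy' : y ∈ θ.range := by rw [hr]; exact Subgroup.mem_top _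
        obtain ⟨s, rfl⟩ := hy'
        rw [Subgroup.mem_bot, hE.2.1]
        exact h2 (mem_preimageAlong.mpr ⟨s.2, hy⟩)
    have h2 := inner_of_factor hS hF hQ hAp hp' hE h1
    exact fun P φ hφ => by rw [h2] at hφ; exact hφ
  · refine le_of_gen hS hF hQ _ ?_ ?_
    · intro Y φ hφ
      rw [← hE₁ Y] at hφ
      exact hmin E₁ hE₁s hE₁F hE1 Y hφ
    · refine hloc _ hRsc.1 hRn (fun h => hQc ?_)
      exact le_sup_right.trans (le_core h)

/-- **Minimal non-inner subsystems**, `p` odd. -/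
theorem exists_min_model (hp2 : p ≠ 2) {Ω : Type u} [Group Ω] {S : Subgroup Ω} [Finite S] {F : FusionSystem S}
    (hS : IsPGroup p S) (hF : F.IsSaturated p) (hni : ¬ F ≤ innerFusionSystem S) :
    ∃ E : FusionSystem S, E.IsSaturated p ∧ E.IsSubsystemOf F ∧ ¬ E ≤ innerFusionSystem S ∧
      ∃ (G : Type u) (_ : Group G) (ι : S →* G) (_ : Finite G) (T : Sylow p G), E.IsRealizedBy ι ∧
        (T : Subgroup G) = ι.range ∧ Cons p G ∧ IsCoatom (T : Subgroup G) ∧ PN p (⊤ : Subgroup (G ⧸ pCore p G)) := by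
  obtain ⟨E, h1, h2, h3, h4⟩ := exists_min _ F rfl hF hni
  obtain ⟨G, i, ι, hG⟩ := model_of_min hp2 hS h1 h3 h4
  haveI := hG.1
  obtain ⟨T, hT⟩ := hG.2.2.1
  have hco := coatom_of_min hG h3 h4 T hT
  exact ⟨E, h1, h2, h3, G, i, ι, hG.1, T, hG.2.1, hT, hG.2.2.2, hco, quot_pn_of_coatom hp2 T hco⟩

/-- stability in the reduced situation -/
theorem goodEl_of_coatom (hp2 : p ≠ 2) {H : Type u} [Group H] [Finite H] (S : Sylow p H)
    (h2 : PN p (⊤ : Subgroup (H ⧸ pCore p H))) (h3 : IsCoatom (S : Subgroup H)) (B : Subgroup H) [B.Normal]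
    (hB : IsPGroup p B) (g : H) (hq : ⁅⁅B, Subgroup.zpowers g⁆, Subgroup.zpowers g⁆ = ⊥) : GoodEl p B g := by
  refine goodEl_of_no_sl hp2 (fun hs => sl2_sylow_two_nonab hp2 (abelian_two_of_sec hs ?_)) B hB g hq
  intro X
  -- Sylow 2-subgroups are abelian
  set T := pCore p H with hT
  have hTp : IsPGroup p ↥T := L0.pCore_isPGroup p H
  have hTS : T ≤ (S : Subgroup H) := L0.pCore_le_sylow S
  set f := QuotientGroup.mk' T with hf
  have hfs : Function.Surjective f := QuotientGroup.mk'_surjective T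
  have hco : IsCoatom ((S.mapSurjective hfs : Sylow p (H ⧸ T)) : Subgroup (H ⧸ T)) := by
    rw [Sylow.coe_mapSurjective]
    have hcomap : ((S : Subgroup H).map f).comap f = S := by
      rw [comap_map_mk', sup_eq_left.2 hTS]
    constructor
    · intro h
      apply h3.1
      rw [← hcomap, h, Subgroup.comap_top]
    · intro K hK
      have h5 : (S : Subgroup H) < K.comap f := by
        rw [← hcomap]
        exact (Subgroup.comap_lt_comap_of_surjective hfs).2 hK
      have h6 := h3.2 _ h5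
      rw [← Subgroup.map_comap_eq_self_of_surjective hfs K, h6, Subgroup.map_top_of_surjective f hfs]
  have hab := (coatom_facts _ hco h2).2
  have h2p : Nat.Coprime 2 p := (Nat.coprime_primes Nat.prime_two hp.out).2 (Ne.symm hp2)
  have hX : ∀ x ∈ X, f x ∈ opR p (⊤ : Subgroup (H ⧸ T)) := by
    intro x hx
    obtain ⟨k, hk⟩ := X.2 ⟨x, hx⟩
    have hk' : x ^ 2 ^ k = 1 := congrArg Subtype.val hk
    refine mem_opR (Subgroup.mem_top _) ?_
    have h5 : orderOf (f x) ∣ 2 ^ k := orderOf_dvd_of_pow_eq_one (by rw [← map_pow, hk', map_one])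
    exact Nat.Coprime.coprime_dvd_left h5 (Nat.Coprime.pow_left k h2p)
  refine ⟨⟨?_⟩⟩
  rintro ⟨x, hx⟩ ⟨y, hy⟩
  apply Subtype.ext
  change x * y = y * x
  have h5 : ⁅x, y⁆ ∈ T := by
    have h6 : ⁅f x, f y⁆ ∈ ⁅opR p (⊤ : Subgroup (H ⧸ T)), opR p (⊤ : Subgroup (H ⧸ T))⁆ :=
      Subgroup.commutator_mem_commutator (hX x hx) (hX y hy)
    rw [hab, Subgroup.mem_bot, ← map_commutatorElement] at h6
    exact (QuotientGroup.eq_one_iff _).1 h6
  have h7 : ⁅x, y⁆ ∈ (X : Subgroup H) := by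
    rw [commutatorElement_def]
    exact mul_mem (mul_mem (mul_mem hx hy) (inv_mem hx)) (inv_mem hy)
  obtain ⟨k, hk⟩ := hTp ⟨_, h5⟩
  obtain ⟨j, hj⟩ := X.2 ⟨_, h7⟩
  have hk' : ⁅x, y⁆ ^ p ^ k = 1 := congrArg Subtype.val hk
  have hj' : ⁅x, y⁆ ^ 2 ^ j = 1 := congrArg Subtype.val hj
  have h8 : orderOf ⁅x, y⁆ = 1 := Nat.eq_one_of_dvd_coprimes (Nat.Coprime.pow k j h2p.symm)
    (orderOf_dvd_of_pow_eq_one hk') (orderOf_dvd_of_pow_eq_one hj')
  exact commutatorElement_eq_one_iff_mul_comm.1 (orderOf_eq_one_iff.1 h8)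

end
end Cfsg.Agent.H2
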