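import Cfsg.Agent.H6.S4Thom2
import Cfsg.Agent.H2.ZJ

set_option autoImplicit false
set_option linter.unusedSectionVars false
set_option linter.unusedSimpArgs false
set_option linter.unusedVariables false
set_option linter.style.haveILetI false
open Cfsg
open scoped commutatorElement

/-! Offenders and `S₄`-sections, in the form needed for Thompson's theorem (helper2), adapted from helper6. -/

namespace Cfsg.Agent.H2
open Cfsg.Agent.H6

theorem s4_hom2 {X : Type*} [Group X] [Finite X] (V H : Subgroup X) [V.Normal] (hsup : V ⊔ H = ⊤)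
    (h4 : (V ⊓ H).relIndex V = 4) {r t : X} (hr : r ∈ H) (ht : t ∈ H) (hr3 : r ^ 3 = 1) {k : ℕ} (ht2 : t ^ 2 ^ k = 1)
    (hrt : t * r * t⁻¹ = r⁻¹) (hv : ∃ v ∈ V, v⁻¹ * r * v ∉ H) :
    ∃ f : X →* Equiv.Perm (Fin 4), Function.Surjective f := by
  have hidx : H.index = 4 := by rw [H1.index_eq_relIndex_of_sup_eq_top hsup, h4]
  have hcard : Nat.card (X ⧸ H) = 4 := by rw [← Subgroup.index_eq_card, hidx]
  set ρ := MulAction.toPermHom X (X ⧸ H) with hρ
  have hKH : ρ.ker ≤ H := by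
    intro k hk
    rw [MonoidHom.mem_ker] at hk
    have h1 : k • ((1 : X) : X ⧸ H) = ((1 : X) : X ⧸ H) := by
      have := congrArg (fun σ : Equiv.Perm (X ⧸ H) => σ ((1 : X) : X ⧸ H)) hk
      exact this
    have h2 : ((k * 1 : X) : X ⧸ H) = ((1 : X) : X ⧸ H) := h1
    rw [QuotientGroup.eq] at h2
    have := H.inv_mem h2
    simpa using this
  have hrK : ρ r ≠ 1 := by
    intro h1
    obtain ⟨v, hv, hvH⟩ := hv
    apply hvH
    have h2 : r • ((v : X) : X ⧸ H) = ((v : X) : X ⧸ H) := congrArg (fun σ : Equiv.Perm (X ⧸ H) => σ (v : X ⧸ H)) h1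
    have h3 : ((r * v : X) : X ⧸ H) = (v : X ⧸ H) := h2
    have h5 := QuotientGroup.eq.1 h3.symm
    rwa [← mul_assoc] at h5
  have hr3' : ρ r ^ 3 = 1 := by rw [← map_pow, hr3, map_one]
  have htK : ρ t ≠ 1 := by
    intro h1
    have h2 := congrArg ρ hrt
    rw [map_mul, map_mul, map_inv, map_inv, h1, one_mul, inv_one, mul_one] at h2
    apply hrK
    have h3 : ρ r * ρ r = 1 := by nth_rewrite 1 [h2]; group
    rw [pow_succ, pow_two, h3, one_mul] at hr3'
    exact hr3'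
  have ht2' : ρ t ^ 2 ^ k = 1 := by rw [← map_pow, ht2, map_one]
  have o3 : orderOf (ρ r) = 3 := orderOf_eq_prime hr3' hrK
  have o2 : 2 ∣ orderOf (ρ t) := by
    have h1 : orderOf (ρ t) ∣ 2 ^ k := orderOf_dvd_of_pow_eq_one ht2'
    obtain ⟨j, -, hj⟩ := (Nat.dvd_prime_pow Nat.prime_two).1 h1
    rcases Nat.eq_zero_or_pos j with h0 | h0
    · rw [h0, pow_zero] at hj
      exact absurd (orderOf_eq_one_iff.1 hj) htK
    · rw [hj]; exact dvd_pow_self 2 h0.ne'
  have d3 : 3 ∣ Nat.card (H.map ρ) := by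
    rw [← o3]
    exact orderOf_dvd_card_of_mem ⟨r, hr, rfl⟩
  have d2 : 2 ∣ Nat.card (H.map ρ) := o2.trans (orderOf_dvd_card_of_mem ⟨t, ht, rfl⟩)
  have d6 : 6 ∣ Nat.card (H.map ρ) := Nat.Coprime.mul_dvd_of_dvd_of_dvd (by norm_num : Nat.Coprime 2 3) d2 d3
  have hΓ : Nat.card ρ.range = Nat.card (H.map ρ) * 4 := by
    rw [← Subgroup.index_ker, ← Subgroup.relIndex_mul_index hKH, hidx, Subgroup.relIndex_ker]
  have hP : Nat.card (Equiv.Perm (X ⧸ H)) = 24 := by
    rw [Nat.card_perm, hcard]; rfl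
  have h24 : 24 ∣ Nat.card ρ.range := by
    rw [hΓ]
    obtain ⟨k, hk⟩ := d6
    rw [hk]; exact ⟨k, by ring⟩
  have htop : ρ.range = ⊤ := by
    apply Subgroup.eq_top_of_card_eq
    rw [hP]
    apply le_antisymm
    · rw [← hP]; exact Subgroup.card_le_card_group _
    · exact Nat.le_of_dvd Nat.card_pos h24
  obtain ⟨e⟩ : Nonempty ((X ⧸ H) ≃ Fin 4) := by
    have := Finite.equivFin (X ⧸ H)
    rw [hcard] at this
    exact ⟨this⟩
  refine ⟨(Equiv.permCongrHom e).toMonoidHom.comp ρ, ?_⟩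
  exact (Equiv.permCongrHom e).surjective.comp (MonoidHom.range_eq_top.1 htop)

/-- an `S₄`-section from an `S₃`-action on a 2-group -/
theorem s4_sec2 {G : Type*} [Group G] [Finite G] (V : Subgroup G) [hVn : V.Normal] (hV : IsPGroup 2 ↥V) {r t : G}
    (hr3 : r ^ 3 = 1) {k : ℕ} (ht2 : t ^ 2 ^ k = 1) (hrt : t * r * t⁻¹ = r⁻¹)
    (h4 : (V ⊓ Subgroup.centralizer {r}).relIndex V = 4) : Sec (Equiv.Perm (Fin 4)) G := by
  have hodd : Odd (orderOf r) := by
    have h1 : orderOf r ∣ 3 := orderOf_dvd_of_pow_eq_one hr3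
    exact Odd.of_dvd_nat (by decide) h1
  have hVr := inf_zpowers_bot hV hodd
  set N := Subgroup.normalizer ((Subgroup.zpowers r : Subgroup G) : Set G) with hN
  have hrN : r ∈ N := Subgroup.le_normalizer (Subgroup.mem_zpowers r)
  have htN : t ∈ N := by
    apply H2.mem_norm_of_conj
    rintro _ ⟨k, rfl⟩
    have : t * r ^ k * t⁻¹ = (t * r * t⁻¹) ^ k := (conj_zpow).symm
    change t * r ^ k * t⁻¹ ∈ _
    rw [this, hrt]
    exact Subgroup.zpow_mem _ (Subgroup.inv_mem _ (Subgroup.mem_zpowers r)) k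
  have hVN : V ⊓ N = V ⊓ Subgroup.centralizer {r} := by
    apply le_antisymm
    · rintro v ⟨hv, hvN⟩
      refine ⟨hv, ?_⟩
      change v ∈ Subgroup.centralizer {r}
      rw [Subgroup.mem_centralizer_singleton_iff]
      have h1 : v * r * v⁻¹ ∈ Subgroup.zpowers r := (Subgroup.mem_normalizer_iff.1 hvN r).1 (Subgroup.mem_zpowers r)
      have h2 : v * r * v⁻¹ * r⁻¹ ∈ V ⊓ Subgroup.zpowers r := by
        refine ⟨?_, Subgroup.mul_mem _ h1 (Subgroup.inv_mem _ (Subgroup.mem_zpowers r))⟩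
        have e : v * r * v⁻¹ * r⁻¹ = v * (r * v⁻¹ * r⁻¹) := by group
        change v * r * v⁻¹ * r⁻¹ ∈ V
        rw [e]
        exact V.mul_mem hv (hVn.conj_mem _ (V.inv_mem hv) r)
      rw [hVr, Subgroup.mem_bot] at h2
      calc v * r = (v * r * v⁻¹ * r⁻¹) * (r * v) := by group
        _ = r * v := by rw [h2, one_mul]
    · refine inf_le_inf_left _ ?_
      intro c hc
      rw [Subgroup.mem_centralizer_singleton_iff] at hc
      rw [hN]
      apply centralizer_le_norm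
      rw [Subgroup.mem_centralizer_iff]
      rintro _ ⟨k, rfl⟩
      exact ((show Commute r c from hc.symm).zpow_left k).eq
  set X := V ⊔ N with hX
  have hVX : V ≤ X := le_sup_left
  have hNX : N ≤ X := le_sup_right
  obtain ⟨f, hf⟩ := s4_hom2 (X := ↥X) (V.subgroupOf X) (N.subgroupOf X) (by
    apply Subgroup.map_injective X.subtype_injective
    rw [Subgroup.map_sup, Subgroup.map_subgroupOf_eq_of_le hVX, Subgroup.map_subgroupOf_eq_of_le hNX,
      ← MonoidHom.range_eq_map, Subgroup.range_subtype]) (by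
    have h1 : ((V.subgroupOf X ⊓ N.subgroupOf X)).relIndex (V.subgroupOf X) = (V ⊓ N).relIndex V := by
      have := Subgroup.relIndex_map_map_of_injective (V.subgroupOf X ⊓ N.subgroupOf X) (V.subgroupOf X) X.subtype_injective
      rw [Subgroup.map_inf_eq _ _ _ X.subtype_injective, Subgroup.map_subgroupOf_eq_of_le hVX,
        Subgroup.map_subgroupOf_eq_of_le hNX] at this
      exact this.symm
    rw [h1, hVN, h4]) (r := ⟨r, hNX hrN⟩) (t := ⟨t, hNX htN⟩) hrN htN (Subtype.ext hr3) (k := k) (Subtype.ext ht2)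
    (Subtype.ext hrt) (by
    by_contra hcon
    push Not at hcon
    have h1 : V ≤ Subgroup.centralizer {r} := by
      intro v hv
      rw [Subgroup.mem_centralizer_singleton_iff]
      have h2 := hcon ⟨v, hVX hv⟩ hv
      have h3 : v⁻¹ * r * v ∈ N := h2
      have h4 : v⁻¹ * r * v * r⁻¹ ∈ V ⊓ Subgroup.centralizer {r} := by
        rw [← hVN]
        refine ⟨?_, N.mul_mem h3 (N.inv_mem hrN)⟩
        have e : v⁻¹ * r * v * r⁻¹ = v⁻¹ * (r * v * r⁻¹) := by group
        change v⁻¹ * r * v * r⁻¹ ∈ V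
        rw [e]
        exact V.mul_mem (V.inv_mem hv) (hVn.conj_mem _ hv r)
      set c := v⁻¹ * r * v * r⁻¹ with hc
      have h5 : c * r = r * c := Subgroup.mem_centralizer_singleton_iff.1 (Subgroup.mem_inf.1 h4).2
      have h6 : v⁻¹ * r * v⁻¹⁻¹ = c * r := by rw [hc]; group
      have h7 : (c * r) ^ 3 = 1 := by
        rw [← h6, conj_pow, hr3]; group
      rw [(show Commute c r from h5).mul_pow, hr3, mul_one] at h7
      obtain ⟨k, hk⟩ := hV ⟨c, (Subgroup.mem_inf.1 h4).1⟩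
      have h8 : c ^ (2 ^ k) = 1 := by simpa using congrArg Subtype.val hk
      have h9 : c = 1 := by
        rw [← orderOf_eq_one_iff]
        exact Nat.eq_one_of_dvd_coprimes (Nat.Coprime.pow_right k (by norm_num : Nat.Coprime 3 2))
          (orderOf_dvd_of_pow_eq_one h7) (orderOf_dvd_of_pow_eq_one h8)
      rw [h9, one_mul] at h6
      calc v * r = v * (v⁻¹ * r * v⁻¹⁻¹) := by rw [h6]
        _ = r * v := by group
    rw [inf_eq_left.2 h1, Subgroup.relIndex_self] at h4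
    norm_num at h4)
  exact ⟨X, f, hf⟩


section
variable {G : Type*} [Group G] [Finite G]

/-- the setup: a normal 2-subgroup `Q`, and `V ≤ Ω₁(Z(Q))` normal with `C_G(V) = Q` -/
structure QW (Q V : Subgroup G) : Prop where
  qn : Q.Normal
  vn : V.Normal
  q2 : IsPGroup 2 ↥Q
  le : V ≤ Q
  cent : ∀ v ∈ V, ∀ q ∈ Q, v * q = q * v
  v2 : ∀ v ∈ V, v ^ 2 = 1
  self : Subgroup.centralizer (V : Set G) ≤ Q

variable {Q V : Subgroup G}

theorem QW.odd_stab (h : QW Q V) {z : G} (hz : Odd (orderOf z)) (h2 : ∀ v ∈ V, z * v = v * z) : z = 1 := by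
  have h1 : z ∈ Q := h.self (Subgroup.mem_centralizer_iff.2 (fun v hv => (h2 v hv).symm))
  obtain ⟨k, hk⟩ := h.q2 ⟨z, h1⟩
  have hk' : z ^ 2 ^ k = 1 := congrArg Subtype.val hk
  rw [← orderOf_eq_one_iff]
  exact Nat.eq_one_of_dvd_coprimes (Nat.Coprime.pow_right k (Nat.coprime_two_right.2 hz)) dvd_rfl
    (orderOf_dvd_of_pow_eq_one hk')

theorem QW.act_eq (h : QW Q V) {g k v : G} (hgk : g⁻¹ * k ∈ Q) (hv : v ∈ V) : g * v * g⁻¹ = k * v * k⁻¹ := by
  have h1 := h.cent v hv _ hgk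
  have h2 : k = g * (g⁻¹ * k) := by group
  have h3 : (g⁻¹ * k) * v * (g⁻¹ * k)⁻¹ = v := by rw [← h1]; group
  calc g * v * g⁻¹ = g * ((g⁻¹ * k) * v * (g⁻¹ * k)⁻¹) * g⁻¹ := by rw [h3]
    _ = k * v * k⁻¹ := by group

theorem QW.strict (h : QW Q V) {B S : Subgroup G} (hS : IsPGroup 2 ↥S) (hVS : V ≤ S) (hBS : B ≤ S) {a x : G}
    (hab : ∀ b ∈ B, a * b = b * a) (hxB : ∀ b ∈ B, (b * x)⁻¹ * (x * b) ∈ Q)
    {m : ℕ} (hm : Odd m)
    (hy : (x * a * x⁻¹ * a⁻¹) ^ m ∈ Q) (hyQ : x * a * x⁻¹ * a⁻¹ ∉ Q)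
    (hC : V ⊓ Subgroup.centralizer (B : Set G) ≤ Subgroup.centralizer {a}) : False := by
  haveI := h.qn
  haveI := h.vn
  obtain ⟨k, hk, hkQ⟩ := exists_odd_part Q hm hy hyQ
  set y := x * a * x⁻¹ * a⁻¹ with hydef
  set z := y ^ 2 ^ k with hz
  -- `y` centralizes `C_V(B)`
  have hyV : ∀ v ∈ V ⊓ Subgroup.centralizer (B : Set G), y * v * y⁻¹ = v := by
    intro v hv
    have hv' := hv
    obtain ⟨hvV, hvB⟩ := Subgroup.mem_inf.1 hv'
    have hav : a * v = v * a := (Subgroup.mem_centralizer_singleton_iff.1 (hC hv)).symm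
    have h1 : x⁻¹ * v * x ∈ V ⊓ Subgroup.centralizer (B : Set G) := by
      refine ⟨by
        have := h.vn.conj_mem v hvV x⁻¹
        rwa [inv_inv] at this, ?_⟩
      change _ ∈ Subgroup.centralizer _
      rw [Subgroup.mem_centralizer_iff]
      intro b hb
      have h2 := h.act_eq (hxB b hb) (v := x⁻¹ * v * x) (by
        have := h.vn.conj_mem v hvV x⁻¹
        rwa [inv_inv] at this)
      -- `b x (x⁻¹ v x) x⁻¹ b⁻¹ = x b (x⁻¹ v x) b⁻¹ x⁻¹`
      have h3 : b * v = v * b := Subgroup.mem_centralizer_iff.1 hvB b hb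
      have h4 : (b * x) * (x⁻¹ * v * x) * (b * x)⁻¹ = v := by
        calc (b * x) * (x⁻¹ * v * x) * (b * x)⁻¹ = (b * v) * b⁻¹ := by group
          _ = v * b * b⁻¹ := by rw [h3]
          _ = v := by group
      rw [h4] at h2
      calc b * (x⁻¹ * v * x) = x⁻¹ * ((x * b) * (x⁻¹ * v * x) * (x * b)⁻¹) * x * b := by group
        _ = x⁻¹ * v * x * b := by rw [← h2]
    have hax : a * (x⁻¹ * v * x) = (x⁻¹ * v * x) * a := (Subgroup.mem_centralizer_singleton_iff.1 (hC h1)).symm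
    calc y * v * y⁻¹ = x * a * x⁻¹ * (a⁻¹ * (v * a)) * x * a⁻¹ * x⁻¹ := by rw [hydef]; group
      _ = x * a * x⁻¹ * (a⁻¹ * (a * v)) * x * a⁻¹ * x⁻¹ := by rw [hav]
      _ = x * (a * (x⁻¹ * v * x)) * a⁻¹ * x⁻¹ := by group
      _ = x * ((x⁻¹ * v * x) * a) * a⁻¹ * x⁻¹ := by rw [hax]
      _ = v := by group
  have hpowV : ∀ (g v : G), g * v * g⁻¹ = v → ∀ n : ℕ, g ^ n * v * (g ^ n)⁻¹ = v := by
    intro g v hg n
    have : Commute g v := by
      change g * v = v * g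
      calc g * v = (g * v * g⁻¹) * g := by group
        _ = v * g := by rw [hg]
    rw [(this.pow_left n).eq]; group
  have hzV : ∀ v ∈ V ⊓ Subgroup.centralizer (B : Set G), z * v * z⁻¹ = v := fun v hv => hpowV y v (hyV v hv) _
  -- `z` does not centralize `V`
  have hz1 : z ≠ 1 := fun h1 => hkQ (by rw [h1]; exact Q.one_mem)
  have hznot : ¬ ∀ v ∈ V, z * v = v * z := fun h2 => hz1 (h.odd_stab hk h2)
  push Not at hznot
  obtain ⟨v₀, hv₀, hv₀z⟩ := hznot
  have hVc : ∀ v ∈ V, ∀ w ∈ V, v * w = w * v := fun v hv w hw => h.cent v hv w (h.le hw)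
  set M : Subgroup G :=
    { carrier := {w | ∃ v ∈ V, w = z * v * z⁻¹ * v⁻¹}
      one_mem' := ⟨1, V.one_mem, by group⟩
      mul_mem' := by
        rintro _ _ ⟨v, hv, rfl⟩ ⟨w, hw, rfl⟩
        refine ⟨v * w, V.mul_mem hv hw, ?_⟩
        have h1 : z * w * z⁻¹ ∈ V := h.vn.conj_mem w hw z
        have h2 : Commute v⁻¹ (z * w * z⁻¹) := hVc _ (V.inv_mem hv) _ h1
        have h3 : Commute v⁻¹ w⁻¹ := hVc _ (V.inv_mem hv) _ (V.inv_mem hw)
        calc z * v * z⁻¹ * v⁻¹ * (z * w * z⁻¹ * w⁻¹) = z * v * z⁻¹ * (v⁻¹ * (z * w * z⁻¹)) * w⁻¹ := by group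
          _ = z * v * z⁻¹ * ((z * w * z⁻¹) * v⁻¹) * w⁻¹ := by rw [h2.eq]
          _ = z * (v * w) * z⁻¹ * (v⁻¹ * w⁻¹) := by group
          _ = z * (v * w) * z⁻¹ * (w⁻¹ * v⁻¹) := by rw [h3.eq]
          _ = _ := by group
      inv_mem' := by
        rintro _ ⟨v, hv, rfl⟩
        refine ⟨v⁻¹, V.inv_mem hv, ?_⟩
        have h1 : z * v⁻¹ * z⁻¹ ∈ V := h.vn.conj_mem _ (V.inv_mem hv) z
        calc (z * v * z⁻¹ * v⁻¹)⁻¹ = v * (z * v⁻¹ * z⁻¹) := by group
          _ = (z * v⁻¹ * z⁻¹) * v := hVc v hv _ h1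
          _ = _ := by group } with hM
  have hMV : M ≤ V := by
    rintro _ ⟨v, hv, rfl⟩
    exact V.mul_mem (h.vn.conj_mem v hv z) (V.inv_mem hv)
  have hM1 : ¬ M ≤ ⊥ := by
    intro h1
    have h2 : z * v₀ * z⁻¹ * v₀⁻¹ ∈ (⊥ : Subgroup G) := h1 ⟨v₀, hv₀, rfl⟩
    rw [Subgroup.mem_bot] at h2
    apply hv₀z
    calc z * v₀ = (z * v₀ * z⁻¹ * v₀⁻¹) * (v₀ * z) := by group
      _ = v₀ * z := by rw [h2, one_mul]
  -- `B` normalizes `M`
  have hzB : ∀ b ∈ B, (b * z)⁻¹ * (z * b) ∈ Q := by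
    intro b hb
    have e1 : QuotientGroup.mk' Q b * QuotientGroup.mk' Q x = QuotientGroup.mk' Q x * QuotientGroup.mk' Q b := by
      rw [← map_mul, ← map_mul]
      exact QuotientGroup.eq.2 (hxB b hb)
    have e2 : Commute (QuotientGroup.mk' Q b) (QuotientGroup.mk' Q a) := by
      change _ * _ = _ * _
      rw [← map_mul, ← map_mul, hab b hb]
    have e3 : Commute (QuotientGroup.mk' Q b) (QuotientGroup.mk' Q x) := e1
    have e4 : Commute (QuotientGroup.mk' Q b) (QuotientGroup.mk' Q z) := by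
      rw [hz, hydef, map_pow, map_mul, map_mul, map_mul, map_inv, map_inv]
      exact (((e3.mul_right e2).mul_right e3.inv_right).mul_right e2.inv_right).pow_right _
    rw [← QuotientGroup.eq]
    change QuotientGroup.mk' Q (b * z) = QuotientGroup.mk' Q (z * b)
    rw [map_mul, map_mul]
    exact e4.eq
  have hBM : B ≤ Subgroup.normalizer (M : Set G) := by
    rw [le_norm_iff]
    rintro b hb _ ⟨v, hv, rfl⟩
    have hbv : b * v * b⁻¹ ∈ V := h.vn.conj_mem v hv b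
    refine ⟨b * v * b⁻¹, hbv, ?_⟩
    have h1 := h.act_eq (hzB b hb) hv
    calc b * (z * v * z⁻¹ * v⁻¹) * b⁻¹ = ((b * z) * v * (b * z)⁻¹) * (b * v⁻¹ * b⁻¹) := by group
      _ = ((z * b) * v * (z * b)⁻¹) * (b * v⁻¹ * b⁻¹) := by rw [h1]
      _ = _ := by group
  -- a fixed point
  obtain ⟨w, hwM, hw1, hwB⟩ := exists_fixed_mod (G := ↥S) hS.isNilpotent (A := ⊥) (B := M.subgroupOf S)
    (Q := B.subgroupOf S) (by
      rw [le_norm_iff]
      intro b hb w hw
      exact le_norm_iff.1 hBM b hb w hw) (by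
      intro h3
      apply hM1
      have h4 := Subgroup.map_mono (f := S.subtype) h3
      rwa [Subgroup.map_subgroupOf_eq_of_le (hMV.trans hVS), Subgroup.map_bot] at h4)
  have hwM' : (w : G) ∈ M := hwM
  have hwV := hMV hwM'
  have hwC : (w : G) ∈ V ⊓ Subgroup.centralizer (B : Set G) := by
    refine ⟨hwV, ?_⟩
    change (w : G) ∈ Subgroup.centralizer _
    rw [Subgroup.mem_centralizer_iff]
    intro b hb
    have h5 := hwB ⟨b, hBS hb⟩ hb
    rw [Subgroup.mem_bot, commutatorElement_eq_one_iff_mul_comm] at h5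
    exact (congrArg Subtype.val h5).symm
  have hzw := hzV _ hwC
  obtain ⟨v, hv, hwv⟩ := hwM'
  have hcom : Commute z (w : G) := by
    change z * (w : G) = w * z
    calc z * (w : G) = (z * w * z⁻¹) * z := by group
      _ = w * z := by rw [hzw]
  have key : ∀ n : ℕ, z ^ n * v * (z ^ n)⁻¹ = (w : G) ^ n * v := by
    intro n
    induction n with
    | zero => simp
    | succ n ih =>
      have e1 : z ^ (n + 1) * v * (z ^ (n + 1))⁻¹ = z * (z ^ n * v * (z ^ n)⁻¹) * z⁻¹ := by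
        rw [pow_succ']; group
      rw [e1, ih]
      have e2 : z * ((w : G) ^ n * v) * z⁻¹ = (z * (w : G) ^ n * z⁻¹) * (z * v * z⁻¹) := by group
      have e3 : z * (w : G) ^ n * z⁻¹ = (w : G) ^ n := by rw [(hcom.pow_right n).eq]; group
      have e4 : z * v * z⁻¹ = w * v := by rw [hwv]; group
      rw [e2, e3, e4, ← mul_assoc, ← pow_succ]
  have h3 := key (orderOf z)
  rw [pow_orderOf_eq_one] at h3
  have h4 : (w : G) ^ orderOf z = 1 := by
    have : 1 * v = (w : G) ^ orderOf z * v := by rw [← h3]; simp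
    exact (mul_right_cancel this).symm
  have h5 := eq_one_of_sq_odd hk h4 (h.v2 _ hwV)
  apply hw1
  rw [Subgroup.mem_bot]
  exact Subtype.ext h5

/-- the dual chain inequality -/
theorem QW.chain (h : QW Q V) {S : Subgroup G} (hS : IsPGroup 2 ↥S) (hVS : V ≤ S) [hQn : Q.Normal] {R : Subgroup (G ⧸ Q)} [hRn : R.Normal]
    (hR : Odd (Nat.card R)) (hself : Subgroup.centralizer (R : Set (G ⧸ Q)) ≤ R) {A : Subgroup G} (hAS : A ≤ S)
    (hAc : ∀ a ∈ A, ∀ b ∈ A, a * b = b * a) (hA2 : ∀ a ∈ A, a ^ 2 ∈ Q) :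
    ∀ (n : ℕ) (B : Subgroup G), B ≤ A → Nat.card B = n →
      ((B ⊓ Q).relIndex B ≤ (V ⊓ Subgroup.centralizer (B : Set G)).relIndex V ∧
      (¬ B ≤ Q → (V ⊓ Subgroup.centralizer (B : Set G)).relIndex V ≤ (B ⊓ Q).relIndex B →
        ∃ a ∈ B, a ∉ Q ∧ (V ⊓ Subgroup.centralizer {a}).relIndex V ≤ 2)) := by
  intro n
  induction n using Nat.strong_induction_on with
  | _ n ih =>
  intro B hBA hn
  by_cases hBQ : B ≤ Q
  · refine ⟨?_, fun h1 => absurd hBQ h1⟩
    rw [inf_eq_left.2 hBQ, Subgroup.relIndex_self]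
    exact Nat.pos_of_ne_zero (relIndex_ne _ _)
  set f := QuotientGroup.mk' Q with hf
  have hB2' : IsPGroup 2 ↥B := hS.to_le (hBA.trans hAS)
  have hfm : ∀ g : G, f g = 1 ↔ g ∈ Q := fun g => QuotientGroup.eq_one_iff g
  have hnot : ¬ R ≤ Subgroup.centralizer ((B.map f : Subgroup (G ⧸ Q)) : Set (G ⧸ Q)) := by
    intro h1
    have h2 : B.map f ≤ R := (Subgroup.le_centralizer_iff.1 h1).trans hself
    have h3 : B.map f = ⊥ := by
      have h4 : B.map f ⊓ R = ⊥ := by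
        apply Subgroup.inf_eq_bot_of_coprime
        obtain ⟨k, hk⟩ := IsPGroup.iff_card.1 (hB2'.map f)
        rw [hk]
        exact Nat.Coprime.pow_left k (Nat.coprime_two_left.2 hR)
      rwa [inf_eq_left.2 h2] at h4
    apply hBQ
    rw [Subgroup.map_eq_bot_iff, QuotientGroup.ker_mk'] at h3
    exact h3
  obtain ⟨D', hD'B, hD'i, hD'c⟩ := exists_hyperplane (R := R) (B := B.map f) (by
    rintro _ ⟨a, ha, rfl⟩ _ ⟨b, hb, rfl⟩
    rw [← map_mul, ← map_mul, hAc a (hBA ha) b (hBA hb)]) (by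
    rintro _ ⟨a, ha, rfl⟩
    rw [← map_pow]; exact (hfm _).2 (hA2 a (hBA ha))) (norm_of_normal _) hR hnot
  set D := B ⊓ D'.comap f with hD
  have hDB : D ≤ B := inf_le_left
  have hDi : D.relIndex B = 2 := by
    rw [hD, inf_comm, Subgroup.inf_relIndex_right, Subgroup.relIndex_comap, hD'i]
  have hDQ : D ⊓ Q = B ⊓ Q := by
    apply le_antisymm (inf_le_inf_right _ hDB)
    rintro x ⟨hx, hxQ⟩
    refine ⟨⟨hx, ?_⟩, hxQ⟩
    change f x ∈ D'
    rw [(hfm x).2 hxQ]; exact D'.one_mem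
  obtain ⟨x', hx', hx'B⟩ := SetLike.not_le_iff_exists.1 hD'c
  obtain ⟨hx'R, hx'D⟩ := Subgroup.mem_inf.1 hx'
  obtain ⟨x, rfl⟩ := QuotientGroup.mk'_surjective Q x'
  change f x ∈ _ at hx' hx'R hx'D
  have hex : ∃ a ∈ B, f x * f a ≠ f a * f x := by
    by_contra hcon
    push Not at hcon
    apply hx'B
    rw [Subgroup.mem_centralizer_iff]
    rintro _ ⟨a, ha, rfl⟩
    exact (hcon a ha).symm
  obtain ⟨a, haB, hxa⟩ := hex
  have haD : a ∉ D := by
    intro h1
    apply hxa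
    exact (Subgroup.mem_centralizer_iff.1 hx'D (f a) (Subgroup.mem_inf.1 h1).2).symm
  have hstrict : ¬ V ⊓ Subgroup.centralizer (D : Set G) ≤ Subgroup.centralizer {a} := by
    intro hC
    have hyR : f (x * a * x⁻¹ * a⁻¹) ∈ R := by
      have e : f (x * a * x⁻¹ * a⁻¹) = f x * (f a * (f x)⁻¹ * (f a)⁻¹) := by
        simp only [map_mul, map_inv]; group
      rw [e]
      exact R.mul_mem hx'R (hRn.conj_mem _ (R.inv_mem hx'R) (f a))
    refine h.strict hS hVS (hDB.trans (hBA.trans hAS)) (a := a) (x := x) (fun b hb => hAc a (hBA haB) b (hBA (hDB hb))) ?_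
      (m := Nat.card R) hR ?_ ?_ hC
    · intro b hb
      rw [← QuotientGroup.eq]
      change f (b * x) = f (x * b)
      rw [map_mul, map_mul]
      exact Subgroup.mem_centralizer_iff.1 hx'D (f b) (Subgroup.mem_inf.1 hb).2
    · rw [← hfm, map_pow]
      have := pow_card_eq_one' (x := (⟨_, hyR⟩ : ↥R))
      exact congrArg Subtype.val this
    · intro h1
      rw [← hfm] at h1
      apply hxa
      have e : f (x * a * x⁻¹ * a⁻¹) = (f x * f a) * (f a * f x)⁻¹ := by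
        simp only [map_mul, map_inv]; group
      rw [e] at h1
      exact mul_inv_eq_one.1 h1
  have hBD : V ⊓ Subgroup.centralizer (B : Set G) ≤ V ⊓ Subgroup.centralizer (D : Set G) :=
    inf_le_inf_left _ (Subgroup.centralizer_le (SetLike.coe_subset_coe.2 hDB))
  have hBa : V ⊓ Subgroup.centralizer (B : Set G) ≤ V ⊓ Subgroup.centralizer {a} :=
    inf_le_inf_left _ (Subgroup.centralizer_le (Set.singleton_subset_iff.2 haB))
  have ht : 2 ≤ (V ⊓ Subgroup.centralizer (B : Set G)).relIndex (V ⊓ Subgroup.centralizer (D : Set G)) := by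
    have h1 : (V ⊓ Subgroup.centralizer (B : Set G)).relIndex (V ⊓ Subgroup.centralizer (D : Set G)) ≠ 1 := by
      intro h1
      rw [Subgroup.relIndex_eq_one] at h1
      exact hstrict ((h1.trans hBa).trans inf_le_right)
    have h2 := relIndex_ne (V ⊓ Subgroup.centralizer (B : Set G)) (V ⊓ Subgroup.centralizer (D : Set G))
    omega
  have hV1 := Subgroup.relIndex_mul_relIndex _ _ V hBD inf_le_left
  have hQ1 : (D ⊓ Q).relIndex D * 2 = (B ⊓ Q).relIndex B := by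
    have := Subgroup.relIndex_mul_relIndex (D ⊓ Q) D B inf_le_left hDB
    rw [hDi] at this
    rw [this, hDQ]
  have hDn : Nat.card D < n := by
    rw [← hn]
    apply card_lt_of_lt
    refine lt_of_le_of_ne hDB ?_
    intro h1
    rw [h1, Subgroup.relIndex_self] at hDi
    norm_num at hDi
  obtain ⟨ih1, ih2⟩ := ih _ hDn D (hDB.trans hBA) rfl
  refine ⟨?_, ?_⟩
  · rw [← hV1, ← hQ1]
    nlinarith
  · intro _ hle
    rw [← hV1, ← hQ1] at hle
    have h3 : (V ⊓ Subgroup.centralizer (D : Set G)).relIndex V ≤ (D ⊓ Q).relIndex D := by nlinarith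
    by_cases hDQ' : D ≤ Q
    · refine ⟨a, haB, ?_, ?_⟩
      · intro haQ
        apply haD
        refine ⟨haB, ?_⟩
        change f a ∈ D'
        rw [(hfm a).2 haQ]; exact D'.one_mem
      · have h4 : (D ⊓ Q).relIndex D = 1 := by rw [inf_eq_left.2 hDQ', Subgroup.relIndex_self]
        rw [h4, hV1] at hle
        refine le_trans (Subgroup.relIndex_le_of_le_left hBa (relIndex_ne _ _)) ?_
        simpa using hle
    · obtain ⟨b, hb, hbQ, hb2⟩ := ih2 hDQ' h3
      exact ⟨b, hDB hb, hbQ, hb2⟩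

/-- the final contradiction: an element of `A` acting as a transvection -/
theorem QW.sec (h : QW Q V) {S : Subgroup G} (hS : IsPGroup 2 ↥S) (hQS : Q ≤ S) {a x : G} (haS : a ∈ S) (ha2 : a ^ 2 ∈ Q)
    {m : ℕ} (hm : Odd m)
    (hy : (x * a * x⁻¹ * a⁻¹) ^ m ∈ Q) (hyQ : x * a * x⁻¹ * a⁻¹ ∉ Q)
    (hC : (V ⊓ Subgroup.centralizer {a}).relIndex V ≤ 2) : Sec (Equiv.Perm (Fin 4)) G := by
  haveI := h.qn
  haveI hVn := h.vn
  obtain ⟨k, hk, hkQ⟩ := exists_odd_part Q hm hy hyQ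
  set y := x * a * x⁻¹ * a⁻¹ with hydef
  set z := y ^ 2 ^ k with hz
  have hz1 : z ≠ 1 := fun h1 => hkQ (by rw [h1]; exact Q.one_mem)
  have hVc : ∀ v ∈ V, ∀ w ∈ V, v * w = w * v := fun v hv w hw => h.cent v hv w (h.le hw)
  -- the hom `v ↦ [z, v]`
  have hmem : ∀ v ∈ V, z * v * z⁻¹ * v⁻¹ ∈ V := fun v hv => V.mul_mem (h.vn.conj_mem v hv z) (V.inv_mem hv)
  set ψ : ↥V →* ↥V :=
    { toFun := fun v => ⟨z * v * z⁻¹ * (v : G)⁻¹, hmem v v.2⟩
      map_one' := Subtype.ext (by simp)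
      map_mul' := by
        rintro ⟨v, hv⟩ ⟨w, hw⟩
        apply Subtype.ext
        change z * (v * w) * z⁻¹ * (v * w)⁻¹ = (z * v * z⁻¹ * v⁻¹) * (z * w * z⁻¹ * w⁻¹)
        have h1 : z * w * z⁻¹ ∈ V := h.vn.conj_mem w hw z
        have h2 : Commute v⁻¹ (z * w * z⁻¹) := hVc _ (V.inv_mem hv) _ h1
        have h3 : Commute v⁻¹ w⁻¹ := hVc _ (V.inv_mem hv) _ (V.inv_mem hw)
        symm
        calc z * v * z⁻¹ * v⁻¹ * (z * w * z⁻¹ * w⁻¹) = z * v * z⁻¹ * (v⁻¹ * (z * w * z⁻¹)) * w⁻¹ := by group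
          _ = z * v * z⁻¹ * ((z * w * z⁻¹) * v⁻¹) * w⁻¹ := by rw [h2.eq]
          _ = z * (v * w) * z⁻¹ * (v⁻¹ * w⁻¹) := by group
          _ = z * (v * w) * z⁻¹ * (w⁻¹ * v⁻¹) := by rw [h3.eq]
          _ = _ := by group } with hψ
  set M : Subgroup G := ψ.range.map V.subtype with hM
  have hMm : ∀ v ∈ V, z * v * z⁻¹ * v⁻¹ ∈ M := fun v hv => ⟨ψ ⟨v, hv⟩, ⟨_, rfl⟩, rfl⟩
  have hMV : M ≤ V := Subgroup.map_subtype_le _
  have hker : ψ.ker = (V ⊓ Subgroup.centralizer {z}).subgroupOf V := by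
    ext ⟨v, hv⟩
    rw [MonoidHom.mem_ker, Subgroup.mem_subgroupOf, Subgroup.mem_inf, Subgroup.mem_centralizer_singleton_iff]
    constructor
    · intro h1
      have h2 : z * v * z⁻¹ * v⁻¹ = 1 := congrArg Subtype.val h1
      refine ⟨hv, ?_⟩
      calc v * z = (z * v * z⁻¹ * v⁻¹)⁻¹ * (z * v) := by group
        _ = z * v := by rw [h2]; group
    · rintro ⟨_, h2⟩
      apply Subtype.ext
      change z * v * z⁻¹ * v⁻¹ = 1
      change v * z = z * v at h2
      rw [← h2]; group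
  have hMcard : Nat.card M = (V ⊓ Subgroup.centralizer {z}).relIndex V := by
    rw [hM, L0.card_map_subtype, ← Subgroup.index_ker, hker]; rfl
  -- the index is at most four
  have h4 : (V ⊓ Subgroup.centralizer {z}).relIndex V ≤ 4 := by
    have e1 : (V ⊓ Subgroup.centralizer {x * a * x⁻¹}).relIndex V = (V ⊓ Subgroup.centralizer {a}).relIndex V := by
      have h1 : cj x (V ⊓ Subgroup.centralizer {a}) = V ⊓ Subgroup.centralizer {x * a * x⁻¹} := by
        rw [cj_inf, cj_of_mem_norm (norm_of_normal (⊤ : Subgroup G) (Subgroup.mem_top x))]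
        congr 1
        ext g
        rw [mem_cj, Subgroup.mem_centralizer_singleton_iff, Subgroup.mem_centralizer_singleton_iff]
        constructor
        · intro h2
          calc g * (x * a * x⁻¹) = x * (x⁻¹ * g * x * a) * x⁻¹ := by group
            _ = x * (a * (x⁻¹ * g * x)) * x⁻¹ := by rw [h2]
            _ = _ := by group
        · intro h2
          calc x⁻¹ * g * x * a = x⁻¹ * (g * (x * a * x⁻¹)) * x := by group
            _ = x⁻¹ * ((x * a * x⁻¹) * g) * x := by rw [h2]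
            _ = _ := by group
      have h2 : cj x V = V := cj_of_mem_norm (norm_of_normal (⊤ : Subgroup G) (Subgroup.mem_top x))
      rw [← h1]
      nth_rewrite 2 [← h2]
      exact relIndex_cj _ _ _
    have e2 : (V ⊓ Subgroup.centralizer {x * a * x⁻¹}) ⊓ (V ⊓ Subgroup.centralizer {a}) ≤ V ⊓ Subgroup.centralizer {z} := by
      rintro v ⟨⟨hv, hv1⟩, ⟨_, hv2⟩⟩
      refine ⟨hv, ?_⟩
      have c1 : Commute v (x * a * x⁻¹) := Subgroup.mem_centralizer_singleton_iff.1 hv1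
      have c2 : Commute v a := Subgroup.mem_centralizer_singleton_iff.1 hv2
      change v ∈ Subgroup.centralizer {z}
      rw [Subgroup.mem_centralizer_singleton_iff, hz, hydef]
      exact ((c1.mul_right c2.inv_right).pow_right _).eq
    refine le_trans (Subgroup.relIndex_le_of_le_left e2 (relIndex_ne _ _)) ?_
    refine le_trans Subgroup.relIndex_inf_le ?_
    rw [e1]
    nlinarith
  -- `z` normalizes `M`
  have hzM : z ∈ Subgroup.normalizer (M : Set G) := by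
    apply mem_norm_of_conj_le
    rintro _ ⟨_, ⟨⟨v, hv⟩, rfl⟩, rfl⟩
    change z * (z * v * z⁻¹ * v⁻¹) * z⁻¹ ∈ M
    have h1 : z * v * z⁻¹ ∈ V := h.vn.conj_mem v hv z
    have h2 := hMm _ h1
    have e : z * (z * v * z⁻¹) * z⁻¹ * (z * v * z⁻¹)⁻¹ = z * (z * v * z⁻¹ * v⁻¹) * z⁻¹ := by group
    rwa [e] at h2
  set σ := M.normalizerMonoidHom ⟨z, hzM⟩ with hσ
  have hσa : ∀ m : ↥M, ((σ m : ↥M) : G) = z * m * z⁻¹ := fun m => rfl
  have hσo : Odd (orderOf σ) := by
    have h1 : orderOf σ ∣ orderOf z := by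
      have h2 := orderOf_map_dvd M.normalizerMonoidHom ⟨z, hzM⟩
      rwa [Subgroup.orderOf_mk] at h2
    exact Odd.of_dvd_nat hk h1
  obtain ⟨h3, h2'⟩ := aut_small (M := ↥M) (by rw [hMcard]; exact h4) σ hσo
  -- an element centralizing `M`, acting through `M`
  have hcen : ∀ g : G, Odd (orderOf g) → (∀ v ∈ V, g * v * g⁻¹ * v⁻¹ ∈ M) → (∀ w ∈ M, g * w = w * g) → ∀ v ∈ V, g * v = v * g := by
    intro g hg hgV hgM v hv
    set w := g * v * g⁻¹ * v⁻¹ with hw
    have hwM := hgV v hv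
    have hgw : Commute g w := hgM w hwM
    have key : ∀ n : ℕ, g ^ n * v * (g ^ n)⁻¹ = w ^ n * v := by
      intro n
      induction n with
      | zero => simp
      | succ n ih =>
        have e1 : g ^ (n + 1) * v * (g ^ (n + 1))⁻¹ = g * (g ^ n * v * (g ^ n)⁻¹) * g⁻¹ := by
          rw [pow_succ']; group
        rw [e1, ih]
        have e2 : g * (w ^ n * v) * g⁻¹ = (g * w ^ n * g⁻¹) * (g * v * g⁻¹) := by group
        have e3 : g * w ^ n * g⁻¹ = w ^ n := by rw [(hgw.pow_right n).eq]; group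
        have e4 : g * v * g⁻¹ = w * v := by rw [hw]; group
        rw [e2, e3, e4, ← mul_assoc, ← pow_succ]
    have h5 := key (orderOf g)
    rw [pow_orderOf_eq_one] at h5
    have h6 : w ^ orderOf g = 1 := by
      have : 1 * v = w ^ orderOf g * v := by rw [← h5]; simp
      exact (mul_right_cancel this).symm
    have h7 : g * v * g⁻¹ * v⁻¹ = 1 := by rw [← hw]; exact eq_one_of_sq_odd hg h6 (h.v2 w (hMV hwM))
    calc g * v = (g * v * g⁻¹ * v⁻¹) * (v * g) := by group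
      _ = v * g := by rw [h7, one_mul]
  -- `z ^ 3 = 1`
  have hz3M : ∀ w ∈ M, z ^ 3 * w = w * z ^ 3 := by
    intro w hw
    have h5 := congrArg (fun τ : MulAut ↥M => ((τ ⟨w, hw⟩ : ↥M) : G)) h3
    have h6 : z * (z * (z * w * z⁻¹) * z⁻¹) * z⁻¹ = w := h5
    calc z ^ 3 * w = (z * (z * (z * w * z⁻¹) * z⁻¹) * z⁻¹) * z ^ 3 := by simp only [pow_succ, pow_zero]; group
      _ = w * z ^ 3 := by rw [h6]
  have hz3V : ∀ n : ℕ, ∀ v ∈ V, z ^ n * v * (z ^ n)⁻¹ * v⁻¹ ∈ M := by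
    intro n
    induction n with
    | zero => intro v hv; simp
    | succ n ih =>
      intro v hv
      have h5 := ih v hv
      have h6 := hMm v hv
      have h7 : z * (z ^ n * v * (z ^ n)⁻¹ * v⁻¹) * z⁻¹ ∈ M := (Subgroup.mem_normalizer_iff.1 hzM _).1 h5
      have e : z ^ (n + 1) * v * (z ^ (n + 1))⁻¹ * v⁻¹ = (z * (z ^ n * v * (z ^ n)⁻¹ * v⁻¹) * z⁻¹) * (z * v * z⁻¹ * v⁻¹) := by
        rw [pow_succ']; group
      rw [e]; exact M.mul_mem h7 h6
  have hz3o : Odd (orderOf (z ^ 3)) := Odd.of_dvd_nat hk (orderOf_pow_dvd 3)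
  have hz3 : z ^ 3 = 1 := h.odd_stab hz3o (hcen _ hz3o (hz3V 3) hz3M)
  -- the index is exactly four
  have h5 : (V ⊓ Subgroup.centralizer {z}).relIndex V = 4 := by
    rw [← hMcard] at h4 ⊢
    have h6 : ¬ Nat.card M ≤ 2 := by
      intro h7
      have h8 := h2' h7
      apply hz1
      apply h.odd_stab hk
      apply hcen z hk (by
        intro v hv
        exact hMm v hv)
      intro w hw
      have h9 := congrArg (fun τ : MulAut ↥M => ((τ ⟨w, hw⟩ : ↥M) : G)) h8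
      have h10 : z * w * z⁻¹ = w := h9
      calc z * w = (z * w * z⁻¹) * z := by group
        _ = w * z := by rw [h10]
    have h7 : IsPGroup 2 ↥M := h.q2.to_le (hMV.trans h.le)
    obtain ⟨j, hj⟩ := IsPGroup.iff_card.1 h7
    rw [hj] at h4 h6 ⊢
    have h8 : j ≤ 2 := (Nat.pow_le_pow_iff_right (by norm_num : 1 < 2)).1 (by simpa using h4)
    interval_cases j
    · norm_num at h6
    · norm_num at h6
    · norm_num
  -- an element inverting `z`
  set f := QuotientGroup.mk' Q with hf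
  have hfm : ∀ g : G, f g = 1 ↔ g ∈ Q := fun g => QuotientGroup.eq_one_iff g
  have hfa : f a * f a = 1 := by rw [← map_mul, ← pow_two]; exact (hfm _).2 ha2
  have hfa' : (f a)⁻¹ = f a := inv_eq_iff_mul_eq_one.2 hfa
  have hay : f a * f y * (f a)⁻¹ = (f y)⁻¹ := by
    rw [hydef]
    simp only [map_mul, map_inv]
    calc f a * (f x * f a * (f x)⁻¹ * (f a)⁻¹) * (f a)⁻¹ = f a * f x * f a * (f x)⁻¹ * ((f a)⁻¹ * (f a)⁻¹) := by group
      _ = f a * f x * (f a)⁻¹ * (f x)⁻¹ * (f a * f a) := by rw [hfa']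
      _ = f a * f x * (f a)⁻¹ * (f x)⁻¹ := by rw [hfa, mul_one]
      _ = _ := by group
  have haz : f a * f z * (f a)⁻¹ = (f z)⁻¹ := by rw [hz, map_pow, ← conj_pow, hay, inv_pow]
  set w := a * z⁻¹ * a⁻¹ with hw
  have hfw : f w = f z := by
    rw [hw]
    simp only [map_mul, map_inv]
    rw [← haz]
    calc f a * (f a * f z * (f a)⁻¹) * (f a)⁻¹ = (f a * f a) * f z * ((f a)⁻¹ * (f a)⁻¹) := by group
      _ = f z := by rw [hfa, hfa', hfa]; group
  have hz3' : orderOf z = 3 := orderOf_eq_prime hz3 hz1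
  have hw3 : orderOf w = 3 := by
    have e : w = MulAut.conj a z⁻¹ := by rw [hw, MulAut.conj_apply]
    rw [e]
    exact (orderOf_injective (MulAut.conj a).toMonoidHom (MulAut.conj a).injective z⁻¹).trans (by rw [orderOf_inv, hz3'])
  have hcop : (Nat.card ↥(Subgroup.zpowers z)).Coprime (Nat.card Q) := by
    rw [Nat.card_zpowers, hz3']
    obtain ⟨j, hj⟩ := IsPGroup.iff_card.1 h.q2
    rw [hj]
    exact Nat.Coprime.pow_right j (by norm_num)
  obtain ⟨q, hq, hqz⟩ := L0.exists_conj_eq_of_le_sup (M := Q) (A := Subgroup.zpowers z) (B := Subgroup.zpowers w)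
    (norm_of_normal _) hcop (Or.inl inferInstance) (by
      rw [Subgroup.zpowers_le]
      have h6 : w * z⁻¹ ∈ Q := by rw [← hfm, map_mul, hfw, map_inv, mul_inv_cancel]
      have e : w = (w * z⁻¹) * z := by group
      rw [e]
      exact Subgroup.mul_mem _ (Subgroup.mem_sup_left h6) (Subgroup.mem_sup_right (Subgroup.mem_zpowers z))) (by
      rw [Nat.card_zpowers, Nat.card_zpowers, hz3', hw3])
  have hqzw : q * z * q⁻¹ = w := by
    have h6 : q * z * q⁻¹ ∈ Subgroup.zpowers w := by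
      rw [← hqz]
      exact ⟨z, Subgroup.mem_zpowers z, rfl⟩
    have h7 : f (q * z * q⁻¹) = f w := by
      rw [map_mul, map_mul, map_inv, (hfm q).2 hq, hfw]; simp
    have h8 : q * z * q⁻¹ * w⁻¹ ∈ Q ⊓ Subgroup.zpowers w := by
      refine ⟨?_, Subgroup.mul_mem _ h6 (Subgroup.inv_mem _ (Subgroup.mem_zpowers w))⟩
      show q * z * q⁻¹ * w⁻¹ ∈ Q
      rw [← hfm, map_mul, h7, map_inv, mul_inv_cancel]
    rw [inf_zpowers_bot h.q2 (by rw [hw3]; decide), Subgroup.mem_bot] at h8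
    exact mul_inv_eq_one.1 h8
  set t := q⁻¹ * a with ht
  have htS : t ∈ S := S.mul_mem (S.inv_mem (hQS hq)) haS
  obtain ⟨j, hj⟩ := hS ⟨t, htS⟩
  have hj' : t ^ 2 ^ j = 1 := congrArg Subtype.val hj
  have htz : t * z * t⁻¹ = z⁻¹ := by
    have h6 : t * z⁻¹ * t⁻¹ = z := by
      calc t * z⁻¹ * t⁻¹ = q⁻¹ * (a * z⁻¹ * a⁻¹) * q := by rw [ht]; group
        _ = q⁻¹ * (q * z * q⁻¹) * q := by rw [← hw, hqzw]
        _ = z := by group
    have h7 : (t * z⁻¹ * t⁻¹)⁻¹ = z⁻¹ := by rw [h6]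
    rw [← h7]; group
  exact s4_sec2 V (h.q2.to_le h.le) hz3 hj' htz h5


end
end Cfsg.Agent.H2
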