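import Cfsg.Agent.H2.GrpFree
import Cfsg.Agent.H2.QdFacts

set_option autoImplicit false
set_option linter.unusedSectionVars false
set_option linter.unusedSimpArgs false
set_option linter.unusedVariables false
set_option linter.style.haveILetI false
open Pointwise
open scoped commutatorElement

/-! Involvement of `Qd(p)`-like groups is `p`-local at centric subgroups (helper2). -/

namespace Cfsg.Agent.H2
open Cfsg Cfsg.Agent.L0 Cfsg.Agent.L0.Fus Cfsg.FusionSystem Cfsg.Agent.H6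

universe u v w

theorem cov_lift {K H : Type*} [Group K] [Finite K] [Group H] {r : ℕ} [hr : Fact r.Prime] (f : K →* H)
    (hf : Function.Surjective f) {Q : Subgroup H} (hQ : IsPGroup r ↥Q) :
    ∃ Q₁ : Subgroup K, IsPGroup r ↥Q₁ ∧ Q₁.map f = Q ∧
      ∀ x, f x ∈ Subgroup.normalizer (Q : Set H) → ∃ y ∈ Subgroup.normalizer (Q₁ : Set K), f y = f x := by
  haveI : Finite H := Finite.of_surjective f hf
  obtain ⟨Q₁, hQ₁⟩ := exists_sylIn (p := r) (Q.comap f)
  have hle : Q₁.map f ≤ Q := Subgroup.map_le_iff_le_comap.2 hQ₁.1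
  have hQe : Q₁.map f = Q := by
    apply le_antisymm hle
    rw [← Subgroup.relIndex_eq_one]
    have h1 : (Q₁.map f).relIndex Q ∣ Q₁.relIndex (Q.comap f) := by
      have h2 := Subgroup.relIndex_comap (Q₁.map f) f (Q.comap f)
      rw [Subgroup.map_comap_eq_self_of_surjective hf] at h2
      rw [← h2]
      exact Subgroup.relIndex_dvd_of_le_left _ (Subgroup.le_comap_map f Q₁)
    obtain ⟨k, hk⟩ := hQ.index ((Q₁.map f).subgroupOf Q)
    have h3 : (Q₁.map f).relIndex Q = r ^ k := hk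
    rcases Nat.eq_zero_or_pos k with h0 | h0
    · rw [h3, h0, pow_zero]
    · exfalso
      apply hQ₁.2.2
      refine dvd_trans ?_ h1
      rw [h3]
      exact dvd_pow_self r h0.ne'
  refine ⟨Q₁, hQ₁.2.1, hQe, fun x hx => ?_⟩
  have hxn : cj x (Q.comap f) = Q.comap f := by
    rw [← mem_norm]
    rw [Subgroup.mem_normalizer_iff]
    intro q
    have h1 := Subgroup.mem_normalizer_iff.1 hx (f q)
    change f q ∈ Q ↔ f (x * q * x⁻¹) ∈ Q
    rw [map_mul, map_mul, map_inv]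
    exact h1
  have h2 := hQ₁.cj x
  rw [hxn] at h2
  obtain ⟨m, hm, hmQ⟩ := hQ₁.conj h2
  obtain ⟨q, hq, hqm⟩ : f m ∈ Q₁.map f := by rw [hQe]; exact hm
  refine ⟨(m * q⁻¹)⁻¹ * x, ?_, ?_⟩
  · change _ ∈ Subgroup.normalizer (Q₁ : Set K)
    rw [mem_norm, cj_mul, ← hmQ, ← cj_mul]
    have : (m * q⁻¹)⁻¹ * m = q := by group
    rw [this, cj_of_mem hq]
  · rw [map_mul, map_inv, map_mul, map_inv, hqm, mul_inv_cancel, inv_one, one_mul]

structure SplitDat (p : ℕ) (Q : Type*) [Group Q] (V Z0 : Subgroup Q) : Prop where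
  vn : V.Normal
  vp : IsPGroup p ↥V
  vc : Subgroup.centralizer (V : Set Q) ≤ V
  zq : ∃ r : ℕ, r.Prime ∧ r ≠ p ∧ IsPGroup r ↥Z0
  cz : ∀ v ∈ V, (∀ ζ ∈ Z0, ζ * v = v * ζ) → v = 1
  cov : ∀ x, ∃ v ∈ V, ∃ h ∈ Subgroup.normalizer (Z0 : Set Q), x = v * h

theorem eq_one_of_pq {G : Type*} [Group G] {p r : ℕ} (hp : p.Prime) (hr : r.Prime) (hne : r ≠ p) {x : G} {a b : ℕ}
    (h1 : x ^ p ^ a = 1) (h2 : x ^ r ^ b = 1) : x = 1 :=
  orderOf_eq_one_iff.1 (Nat.eq_one_of_dvd_coprimes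
    (Nat.Coprime.pow a b ((Nat.coprime_primes hp hr).2 hne.symm)) (orderOf_dvd_of_pow_eq_one h1) (orderOf_dvd_of_pow_eq_one h2))

theorem SplitDat.transfer {p : ℕ} [hp : Fact p.Prime] {Q : Type*} [Group Q] [Finite Q] {V Z0 : Subgroup Q} (hd : SplitDat p Q V Z0)
    {G : Type*} [Group G] [Finite G] {A C Y P0 : Subgroup G} (f : ↥A →* Q) (hf : Function.Surjective f)
    (hP0 : IsPGroup p ↥P0) (hP0A : P0 ≤ A) (hAP : ∀ a ∈ A, ∀ x ∈ P0, a * x * a⁻¹ ∈ P0)
    (hV : ∀ x (hx : x ∈ P0), f ⟨x, hP0A hx⟩ ∈ V) (hV' : ∀ v ∈ V, ∃ x, ∃ hx : x ∈ P0, f ⟨x, hP0A hx⟩ = v)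
    (hC : ∀ c ∈ C, ∀ x ∈ P0, c * x = x * c) (hAC : ∀ a ∈ A, ∀ c ∈ C, a * c * a⁻¹ ∈ C) (hPY : P0 ≤ Y)
    (hAY : ∀ a ∈ A, ∃ c ∈ C, c * a ∈ Y) : ∃ A1 : Subgroup G, A1 ≤ Y ∧ ∃ f1 : ↥A1 →* Q, Function.Surjective f1 := by
  classical
  obtain ⟨r, hr, hrp, hZ0⟩ := hd.zq
  haveI : Fact r.Prime := ⟨hr⟩
  let Γ : Subgroup (G × Q) :=
    { carrier := {g | g.1 ∈ Y ∧ ∃ a : ↥A, f a = g.2 ∧ g.1 * (a : G)⁻¹ ∈ C}
      one_mem' := ⟨Y.one_mem, 1, by simp, by simpa using C.one_mem⟩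
      mul_mem' := by
        rintro ⟨y, q⟩ ⟨y', q'⟩ ⟨h1, a, h2, h3⟩ ⟨h1', a', h2', h3'⟩
        refine ⟨Y.mul_mem h1 h1', a * a', by rw [map_mul, h2, h2']; rfl, ?_⟩
        have h4 := C.mul_mem h3 (hAC a a.2 _ h3')
        have e : y * (a : G)⁻¹ * ((a : G) * (y' * (a' : G)⁻¹) * (a : G)⁻¹) = y * y' * ((a : G) * a')⁻¹ := by group
        rw [e] at h4
        exact h4
      inv_mem' := by
        rintro ⟨y, q⟩ ⟨h1, a, h2, h3⟩
        refine ⟨Y.inv_mem h1, a⁻¹, by rw [map_inv, h2]; rfl, ?_⟩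
        have h4 := hAC _ (A.inv_mem a.2) _ (C.inv_mem h3)
        have e : (a : G)⁻¹ * (y * (a : G)⁻¹)⁻¹ * ((a : G)⁻¹)⁻¹ = y⁻¹ * ((a : G)⁻¹)⁻¹ := by group
        rw [e] at h4
        exact h4 }
  have hΓ : ∀ g : G × Q, g ∈ Γ ↔ g.1 ∈ Y ∧ ∃ a : ↥A, f a = g.2 ∧ g.1 * (a : G)⁻¹ ∈ C := fun _ => Iff.rfl
  let π2 : ↥Γ →* Q := (MonoidHom.snd G Q).comp Γ.subtype
  have hπ2 : ∀ γ : ↥Γ, π2 γ = (γ : G × Q).2 := fun _ => rfl
  have hsurj : Function.Surjective π2 := by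
    intro q
    obtain ⟨a, rfl⟩ := hf q
    obtain ⟨c, hc, hca⟩ := hAY a a.2
    exact ⟨⟨(c * a, f a), hca, a, rfl, by rw [mul_inv_cancel_right]; exact hc⟩, rfl⟩
  have hact : ∀ γ ∈ Γ, ∀ x (hx : x ∈ P0), γ.1 * x * (γ.1)⁻¹ ∈ P0 := by
    rintro ⟨y, q⟩ ⟨h1, a, h2, h3⟩ x hx
    have h4 := hAP a a.2 x hx
    have h5 := hC _ h3 _ h4
    have e : y * x * y⁻¹ = (y * (a : G)⁻¹) * ((a : G) * x * (a : G)⁻¹) * (y * (a : G)⁻¹)⁻¹ := by group
    show y * x * y⁻¹ ∈ P0
    rw [e, h5, mul_inv_cancel_right]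
    exact h4
  have hactf : ∀ γ (hγ : γ ∈ Γ) x (hx : x ∈ P0), f ⟨γ.1 * x * (γ.1)⁻¹, hP0A (hact γ hγ x hx)⟩ = γ.2 * f ⟨x, hP0A hx⟩ * (γ.2)⁻¹ := by
    rintro ⟨y, q⟩ hγ x hx
    obtain ⟨h1, a, h2, h3⟩ := (hΓ _).1 hγ
    have h4 := hAP a a.2 x hx
    have h5 := hC _ h3 _ h4
    have e : y * x * y⁻¹ = (a : G) * x * (a : G)⁻¹ := by
      have e' : y * x * y⁻¹ = (y * (a : G)⁻¹) * ((a : G) * x * (a : G)⁻¹) * (y * (a : G)⁻¹)⁻¹ := by group
      rw [e', h5, mul_inv_cancel_right]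
    have e2 : (⟨y * x * y⁻¹, hP0A (hact (y, q) hγ x hx)⟩ : ↥A) = a * ⟨x, hP0A hx⟩ * a⁻¹ := Subtype.ext e
    show f ⟨y * x * y⁻¹, _⟩ = _
    rw [e2, map_mul, map_mul, map_inv, h2]
  have hD : ∀ x (hx : x ∈ P0), ((x, f ⟨x, hP0A hx⟩) : G × Q) ∈ Γ := by
    intro x hx
    exact ⟨hPY hx, ⟨x, hP0A hx⟩, rfl, by simpa using C.one_mem⟩
  obtain ⟨Z2, hZ2r, hZ2m, hZ2c⟩ := cov_lift π2 hsurj hZ0
  let D : Subgroup ↥Γ :=
    { carrier := {γ | ∃ h : (γ : G × Q).1 ∈ P0, f ⟨(γ : G × Q).1, hP0A h⟩ = (γ : G × Q).2}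
      one_mem' := ⟨P0.one_mem, map_one f⟩
      mul_mem' := by
        rintro a b ⟨h1, h2⟩ ⟨h3, h4⟩
        refine ⟨P0.mul_mem h1 h3, ?_⟩
        have e : (⟨((a * b : ↥Γ) : G × Q).1, hP0A (P0.mul_mem h1 h3)⟩ : ↥A) = ⟨(a : G × Q).1, hP0A h1⟩ * ⟨(b : G × Q).1, hP0A h3⟩ := rfl
        rw [e, map_mul, h2, h4]; rfl
      inv_mem' := by
        rintro a ⟨h1, h2⟩
        refine ⟨P0.inv_mem h1, ?_⟩
        have e : (⟨((a⁻¹ : ↥Γ) : G × Q).1, hP0A (P0.inv_mem h1)⟩ : ↥A) = (⟨(a : G × Q).1, hP0A h1⟩)⁻¹ := rfl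
        rw [e, map_inv, h2]; rfl }
  have hDn : D.Normal := by
    refine ⟨?_⟩
    rintro d ⟨h1, h2⟩ γ
    refine ⟨hact γ γ.2 _ h1, ?_⟩
    have := hactf γ γ.2 _ h1
    rw [h2] at this
    exact this
  let M : Subgroup ↥Γ := Subgroup.normalizer (Z2 : Set ↥Γ)
  have hMH : ∀ m ∈ M, π2 m ∈ Subgroup.normalizer (Z0 : Set Q) := by
    intro m hm
    apply H2.mem_norm_of_conj
    intro ζ hζ
    rw [← hZ2m] at hζ
    obtain ⟨ζ', hζ', rfl⟩ := hζ
    have h1 := (Subgroup.mem_normalizer_iff.1 hm ζ').1 hζ'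
    rw [← hZ2m]
    exact ⟨_, h1, by rw [map_mul, map_mul, map_inv]⟩
  have hVZ : ∀ v ∈ V, v ∈ Subgroup.normalizer (Z0 : Set Q) → v = 1 := by
    intro v hv hvn
    apply hd.cz v hv
    intro ζ hζ
    have h1 : v * ζ * v⁻¹ * ζ⁻¹ ∈ Z0 := Z0.mul_mem ((Subgroup.mem_normalizer_iff.1 hvn ζ).1 hζ) (Z0.inv_mem hζ)
    have h2 : v * ζ * v⁻¹ * ζ⁻¹ ∈ V := by
      have := V.mul_mem hv (hd.vn.conj_mem _ (V.inv_mem hv) ζ)
      have e : v * (ζ * v⁻¹ * ζ⁻¹) = v * ζ * v⁻¹ * ζ⁻¹ := by group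
      rwa [e] at this
    obtain ⟨a, ha⟩ := hd.vp ⟨_, h2⟩
    obtain ⟨b, hb⟩ := hZ0 ⟨_, h1⟩
    have h3 := eq_one_of_pq hp.out hr hrp (x := v * ζ * v⁻¹ * ζ⁻¹) (a := a) (b := b)
      (by simpa using congrArg Subtype.val ha) (by simpa using congrArg Subtype.val hb)
    calc ζ * v = (v * ζ * v⁻¹ * ζ⁻¹)⁻¹ * (v * ζ) := by group
      _ = v * ζ := by rw [h3]; simp
  -- injectivity
  have hinj : Function.Injective ((MonoidHom.fst G Q).comp (Γ.subtype.comp (D ⊔ M).subtype)) := by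
    rw [injective_iff_map_eq_one]
    rintro ⟨γ, hγ⟩ h1
    have h1' : (γ : G × Q).1 = 1 := h1
    obtain ⟨d, hd', m, hm, rfl⟩ := Subgroup.mem_sup_of_normal_left.1 hγ
    obtain ⟨hx, hfx⟩ := hd'
    have h2 : (d : G × Q).1 * (m : G × Q).1 = 1 := h1'
    have hm1 : (m : G × Q).1 = ((d : G × Q).1)⁻¹ := by rw [eq_inv_iff_mul_eq_one]; exact (mul_eq_one_iff_inv_eq.1 h2 ▸ by simp)
    -- second component
    have hmV : (m : G × Q).2 ∈ V := by
      obtain ⟨-, a, h3, h4⟩ := (hΓ _).1 (d * m).2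
      rw [h1', one_mul] at h4
      have h5 : (a : G) ∈ C := by simpa using C.inv_mem h4
      have h6 : f a ∈ V := by
        apply hd.vc
        rw [Subgroup.mem_centralizer_iff]
        intro v hv
        obtain ⟨x, hx', rfl⟩ := hV' v hv
        rw [← map_mul, ← map_mul]
        congr 1
        exact Subtype.ext (hC _ h5 x hx').symm
      rw [h3] at h6
      have h7 : ((d * m : ↥Γ) : G × Q).2 = (d : G × Q).2 * (m : G × Q).2 := rfl
      rw [h7] at h6
      have h8 : (d : G × Q).2 ∈ V := by rw [← hfx]; exact hV _ hx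
      have := V.mul_mem (V.inv_mem h8) h6
      rwa [inv_mul_cancel_left] at this
    have hm2 : (m : G × Q).2 = 1 := hVZ _ hmV (hMH m hm)
    -- first component
    have hfx1 : (d : G × Q).2 = 1 := by
      apply hd.cz
      · rw [← hfx]; exact hV _ hx
      · intro ζ hζ
        rw [← hZ2m] at hζ
        obtain ⟨ζ, hζ, rfl⟩ := hζ
        have h3 : m * ζ * m⁻¹ * ζ⁻¹ ∈ Z2 := Z2.mul_mem ((Subgroup.mem_normalizer_iff.1 hm ζ).1 hζ) (Z2.inv_mem hζ)
        have h4 : ((m * ζ * m⁻¹ * ζ⁻¹ : ↥Γ) : G × Q).1 ∈ P0 := by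
          have e : ((m * ζ * m⁻¹ * ζ⁻¹ : ↥Γ) : G × Q).1 = (m : G × Q).1 * ((ζ : G × Q).1 * ((m : G × Q).1)⁻¹ * ((ζ : G × Q).1)⁻¹) := by
            show (m : G × Q).1 * (ζ : G × Q).1 * ((m : G × Q).1)⁻¹ * ((ζ : G × Q).1)⁻¹ = _
            group
          rw [e]
          have hmP : (m : G × Q).1 ∈ P0 := by rw [hm1]; exact P0.inv_mem hx
          exact P0.mul_mem hmP (hact ζ ζ.2 _ (P0.inv_mem hmP))
        obtain ⟨a, ha⟩ := hP0 ⟨_, h4⟩
        obtain ⟨b, hb⟩ := hZ2r ⟨_, h3⟩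
        have h5 := eq_one_of_pq hp.out hr hrp (x := ((m * ζ * m⁻¹ * ζ⁻¹ : ↥Γ) : G × Q).1) (a := a) (b := b)
          (by simpa using congrArg Subtype.val ha) (by
            have := congrArg (fun z : ↥Z2 => ((z : ↥Γ) : G × Q).1) hb
            simpa using this)
        have h6 : (m : G × Q).1 * (ζ : G × Q).1 * ((m : G × Q).1)⁻¹ * ((ζ : G × Q).1)⁻¹ = 1 := h5
        have h7 : (ζ : G × Q).1 * (d : G × Q).1 * ((ζ : G × Q).1)⁻¹ = (d : G × Q).1 := by
          have h8 : (d : G × Q).1 = ((m : G × Q).1)⁻¹ := by rw [hm1, inv_inv]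
          rw [h8]
          calc (ζ : G × Q).1 * ((m : G × Q).1)⁻¹ * ((ζ : G × Q).1)⁻¹ =
                ((m : G × Q).1)⁻¹ * ((m : G × Q).1 * (ζ : G × Q).1 * ((m : G × Q).1)⁻¹ * ((ζ : G × Q).1)⁻¹) := by group
            _ = _ := by rw [h6, mul_one]
        have h8 := hactf ζ ζ.2 _ hx
        have h9 : (⟨(ζ : G × Q).1 * (d : G × Q).1 * ((ζ : G × Q).1)⁻¹, hP0A (hact ζ ζ.2 _ hx)⟩ : ↥A) = ⟨(d : G × Q).1, hP0A hx⟩ :=
          Subtype.ext h7
        rw [h9, hfx] at h8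
        show (ζ : G × Q).2 * (d : G × Q).2 = (d : G × Q).2 * (ζ : G × Q).2
        calc (ζ : G × Q).2 * (d : G × Q).2 = ((ζ : G × Q).2 * (d : G × Q).2 * ((ζ : G × Q).2)⁻¹) * (ζ : G × Q).2 := by group
          _ = (d : G × Q).2 * (ζ : G × Q).2 := by rw [← h8]
    apply Subtype.ext
    apply Subtype.ext
    apply Prod.ext
    · exact h1'
    · show (d : G × Q).2 * (m : G × Q).2 = 1
      rw [hfx1, hm2, one_mul]
  have hsur : Function.Surjective (π2.comp (D ⊔ M).subtype) := by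
    intro q
    obtain ⟨v, hv, h, hh, rfl⟩ := hd.cov q
    obtain ⟨x, hx, hxv⟩ := hV' v hv
    obtain ⟨γ, hγ⟩ := hsurj h
    obtain ⟨m, hm, hmγ⟩ := hZ2c γ (by rw [hγ]; exact hh)
    refine ⟨⟨⟨_, hD x hx⟩ * m, Subgroup.mul_mem_sup ⟨hx, rfl⟩ hm⟩, ?_⟩
    show π2 (_ * m) = _
    rw [map_mul, hmγ, hγ, ← hxv]
    rfl
  obtain ⟨e⟩ : Nonempty (↥(D ⊔ M) ≃* ↥((MonoidHom.fst G Q).comp (Γ.subtype.comp (D ⊔ M).subtype)).range) :=
    ⟨MonoidHom.ofInjective hinj⟩
  refine ⟨((MonoidHom.fst G Q).comp (Γ.subtype.comp (D ⊔ M).subtype)).range, ?_,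
    (π2.comp (D ⊔ M).subtype).comp e.symm.toMonoidHom, hsur.comp e.symm.surjective⟩
  rintro _ ⟨γ, rfl⟩
  exact (γ : ↥Γ).2.1

/-- `Q` is a section of the subgroup `Y` -/
def SecIn (Q : Type*) [Group Q] {G : Type*} [Group G] (Y : Subgroup G) : Prop :=
  ∃ A : Subgroup G, A ≤ Y ∧ ∃ f : ↥A →* Q, Function.Surjective f

theorem SecIn.mono {Q : Type*} [Group Q] {G : Type*} [Group G] {Y Y' : Subgroup G} (h : SecIn Q Y) (hle : Y ≤ Y') : SecIn Q Y' := by
  obtain ⟨A, hA, f, hf⟩ := h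
  exact ⟨A, hA.trans hle, f, hf⟩

theorem SecIn.cj {Q : Type*} [Group Q] {G : Type*} [Group G] {Y : Subgroup G} (h : SecIn Q Y) (g : G) : SecIn Q (H6.cj g Y) := by
  obtain ⟨A, hA, f, hf⟩ := h
  obtain ⟨e⟩ : Nonempty (↥A ≃* ↥(H6.cj g A)) := ⟨A.equivMapOfInjective _ (MulAut.conj g).injective⟩
  exact ⟨H6.cj g A, cj_mono hA, f.comp e.symm.toMonoidHom, hf.comp e.symm.surjective⟩

theorem secIn_local {p : ℕ} [hp : Fact p.Prime] {Q : Type*} [Group Q] [Finite Q] {V Z0 : Subgroup Q} (hd : SplitDat p Q V Z0)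
    {G : Type*} [Group G] [Finite G] (S : Sylow p G) (hsec : Sec Q G) :
    ∃ T : Subgroup G, (groupFusionSystem (S : Subgroup G)).IsFullyNormalized T ∧
      (groupFusionSystem (S : Subgroup G)).IsCentric T ∧ SecIn Q (Subgroup.normalizer (T : Set G)) := by
  classical
  set P := (S : Subgroup G) with hPdef
  set F := groupFusionSystem P with hF
  let W : {T : Subgroup G // T ≤ P ∧ SecIn Q (Subgroup.normalizer (T : Set G))} → ℕ :=
    fun T => Nat.card T.1 * (Nat.card G + 1) + Nat.card (normalizerIn P T.1)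
  haveI : Nonempty {T : Subgroup G // T ≤ P ∧ SecIn Q (Subgroup.normalizer (T : Set G))} := by
    obtain ⟨A, f, hf⟩ := hsec
    refine ⟨⟨⊥, bot_le, A, ?_, f, hf⟩⟩
    intro x _
    rw [Subgroup.mem_normalizer_iff]
    intro h
    simp [Subgroup.mem_bot]
  obtain ⟨⟨T, hTP, hTs⟩, hmax⟩ := Finite.exists_max W
  have hNG : ∀ T' : Subgroup G, Nat.card (normalizerIn P T') ≤ Nat.card G := fun T' => Subgroup.card_le_card_group _
  have hle : ∀ T' : Subgroup G, T' ≤ P → SecIn Q (Subgroup.normalizer (T' : Set G)) → Nat.card T' ≤ Nat.card T := by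
    intro T' h1 h2
    have h3 := hmax ⟨T', h1, h2⟩
    change Nat.card T' * (Nat.card G + 1) + _ ≤ Nat.card T * (Nat.card G + 1) + Nat.card (normalizerIn P T) at h3
    by_contra hcon
    push Not at hcon
    have h4 : (Nat.card T + 1) * (Nat.card G + 1) ≤ Nat.card T' * (Nat.card G + 1) := Nat.mul_le_mul_right _ hcon
    have h5 := hNG T
    nlinarith
  have hle2 : ∀ T' : Subgroup G, T' ≤ P → SecIn Q (Subgroup.normalizer (T' : Set G)) → Nat.card T' = Nat.card T →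
      Nat.card (normalizerIn P T') ≤ Nat.card (normalizerIn P T) := by
    intro T' h1 h2 h4
    have h3 := hmax ⟨T', h1, h2⟩
    change Nat.card T' * (Nat.card G + 1) + Nat.card (normalizerIn P T') ≤
      Nat.card T * (Nat.card G + 1) + Nat.card (normalizerIn P T) at h3
    rw [h4] at h3
    omega
  have hcardcj : ∀ (g : G) (T' : Subgroup G), Nat.card (H6.cj g T') = Nat.card T' := fun g T' =>
    Nat.card_congr (T'.equivMapOfInjective _ (MulAut.conj g).injective).symm.toEquiv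
  have hge : ∀ T' : Subgroup G, IsPGroup p ↥T' → SecIn Q (Subgroup.normalizer (T' : Set G)) → Nat.card T' ≤ Nat.card T := by
    intro T' h1 h2
    obtain ⟨g, -, hg⟩ := (sylow_sylIn_top S).exists_conj_le h1 le_top
    have := hle (H6.cj g T') hg (by rw [← cj_normalizer]; exact h2.cj g)
    rwa [hcardcj] at this
  have hTfn : F.IsFullyNormalized T := by
    refine ⟨hTP, ?_⟩
    rintro Q' ⟨φ, ⟨-, hφ2, g, hg⟩, rfl⟩
    have hr : φ.range = H6.cj g T := by
      ext x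
      rw [mem_cj]
      constructor
      · rintro ⟨y, rfl⟩
        rw [hg]
        have e : g⁻¹ * (g * (y : G) * g⁻¹) * g = y := by group
        rw [e]; exact y.2
      · intro hx
        refine ⟨⟨g⁻¹ * x * g, hx⟩, ?_⟩
        rw [hg]; group
    refine hle2 _ ?_ ?_ ?_
    · rintro _ ⟨y, rfl⟩; exact hφ2 y
    · rw [hr, ← cj_normalizer]; exact hTs.cj g
    · rw [hr, hcardcj]
  have hTp : IsPGroup p ↥T := S.2.to_le hTP
  -- step 1
  obtain ⟨A₀, hA₀, f₀, hf₀⟩ := hTs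
  obtain ⟨Q₁, hQ₁p, hQ₁m, hQ₁c⟩ := cov_lift f₀ hf₀ hd.vp
  haveI := hd.vn
  set P0 : Subgroup G := Q₁.map A₀.subtype with hP0
  set A : Subgroup G := (Subgroup.normalizer (Q₁ : Set ↥A₀)).map A₀.subtype with hA
  have hAA₀ : A ≤ A₀ := Subgroup.map_subtype_le _
  have hP0p : IsPGroup p ↥P0 := hQ₁p.map _
  have hP0A : P0 ≤ A := Subgroup.map_mono Subgroup.le_normalizer
  let f : ↥A →* Q := f₀.comp (Subgroup.inclusion hAA₀)
  have hf : Function.Surjective f := by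
    intro q
    obtain ⟨a, rfl⟩ := hf₀ q
    obtain ⟨y, hy, hya⟩ := hQ₁c a (by rw [Subgroup.normalizer_eq_top (H := V)]; trivial)
    exact ⟨⟨y, ⟨y, hy, rfl⟩⟩, hya⟩
  have hAP : ∀ a ∈ A, ∀ x ∈ P0, a * x * a⁻¹ ∈ P0 := by
    rintro _ ⟨a, ha, rfl⟩ _ ⟨x, hx, rfl⟩
    exact ⟨a * x * a⁻¹, (Subgroup.mem_normalizer_iff.1 ha x).1 hx, rfl⟩
  have hV : ∀ x (hx : x ∈ P0), f ⟨x, hP0A hx⟩ ∈ V := by
    rintro _ ⟨x, hx, rfl⟩
    rw [← hQ₁m]
    exact ⟨x, hx, rfl⟩
  have hV' : ∀ v ∈ V, ∃ x, ∃ hx : x ∈ P0, f ⟨x, hP0A hx⟩ = v := by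
    intro v hv
    rw [← hQ₁m] at hv
    obtain ⟨x, hx, rfl⟩ := hv
    exact ⟨x, ⟨x, hx, rfl⟩, rfl⟩
  have hAT : A ≤ Subgroup.normalizer (T : Set G) := hAA₀.trans hA₀
  have hsupn : ∀ (Y B : Subgroup G), Y ≤ Subgroup.normalizer (T : Set G) → (∀ y ∈ Y, ∀ b ∈ B, y * b * y⁻¹ ∈ B) →
      Y ≤ Subgroup.normalizer ((T ⊔ B : Subgroup G) : Set G) := by
    intro Y B h1 h2 y hy
    apply H2.mem_norm_of_conj
    have h3 : T ⊔ B ≤ (T ⊔ B).comap (MulAut.conj y).toMonoidHom := by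
      refine sup_le ?_ ?_
      · intro t ht
        show y * t * y⁻¹ ∈ T ⊔ B
        exact Subgroup.mem_sup_left ((Subgroup.mem_normalizer_iff.1 (h1 hy) t).1 ht)
      · intro b hb
        show y * b * y⁻¹ ∈ T ⊔ B
        exact Subgroup.mem_sup_right (h2 y hy b hb)
    exact fun x hx => h3 hx
  have hgrow : ∀ (Y B : Subgroup G), SecIn Q Y → Y ≤ Subgroup.normalizer (T : Set G) → (∀ y ∈ Y, ∀ b ∈ B, y * b * y⁻¹ ∈ B) →
      IsPGroup p ↥B → B ≤ Subgroup.normalizer (T : Set G) → B ≤ T := by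
    intro Y B h1 h2 h3 h4 h5
    have h6 : IsPGroup p ↥(T ⊔ B) := hTp.to_sup_of_normal_left' h4 h5
    have h7 := hge _ h6 (h1.mono (hsupn Y B h2 h3))
    have h8 : T = T ⊔ B := Subgroup.eq_of_le_of_card_ge le_sup_left h7
    rw [h8]; exact le_sup_right
  have hP0T : P0 ≤ T := hgrow A P0 ⟨A, le_rfl, f, hf⟩ hAT hAP hP0p (hP0A.trans hAT)
  -- step 2
  set N := Subgroup.normalizer (T : Set G) with hN
  obtain ⟨R, hR⟩ : ∃ R : Sylow p N, (R : Subgroup N) = (normalizerIn P T).subgroupOf N := (group_fullyNormalized_iff S T hTP).1 hTfn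
  set C := Subgroup.centralizer (T : Set G) with hC
  have hCN : C ≤ N := H6.centralizer_le_norm T
  have hNC : N ≤ Subgroup.normalizer (C : Set G) := le_norm_centralizer le_rfl
  have hsylN : SylIn p (normalizerIn P T) N := by
    refine ⟨inf_le_right, S.2.to_le inf_le_left, ?_⟩
    have h1 : (normalizerIn P T).relIndex N = (R : Subgroup N).index := by rw [hR]; rfl
    rw [h1]; exact R.not_dvd_index
  have hsylC : SylIn p (P ⊓ C) C := by
    have h1 := sylIn_inf_normal hsylN hCN hNC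
    have h2 : normalizerIn P T ⊓ C = P ⊓ C := by
      apply le_antisymm (inf_le_inf_right _ inf_le_left)
      rintro x ⟨h1, h2⟩
      exact ⟨⟨h1, hCN h2⟩, h2⟩
    rwa [h2] at h1
  set D := P ⊓ C with hD
  have hDT : D ≤ T := by
    obtain ⟨A1, hA1, f1, hf1⟩ := hd.transfer (C := C) (Y := N ⊓ Subgroup.normalizer (D : Set G)) f hf hP0p hP0A hAP hV hV' (by
      intro c hc x hx
      exact (Subgroup.mem_centralizer_iff.1 hc x (hP0T hx)).symm) (by
      intro a ha c hc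
      exact (Subgroup.mem_normalizer_iff.1 (hNC (hAT ha)) c).1 hc) (by
      intro x hx
      refine ⟨hAT (hP0A hx), ?_⟩
      apply H2.mem_norm_of_conj
      intro d hd'
      rw [Subgroup.mem_centralizer_iff.1 hd'.2 x (hP0T hx), mul_inv_cancel_right]
      exact hd') (by
      intro a ha
      have h1 := hsylC.cj a
      rw [cj_of_mem_norm (hNC (hAT ha))] at h1
      obtain ⟨c, hc, hcD⟩ := h1.conj hsylC
      refine ⟨c, hc, N.mul_mem (hCN hc) (hAT ha), ?_⟩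
      change c * a ∈ Subgroup.normalizer (D : Set G)
      rw [mem_norm, cj_mul]
      exact hcD)
    refine hgrow (N ⊓ Subgroup.normalizer (D : Set G)) D ⟨A1, hA1, f1, hf1⟩ inf_le_left ?_ (S.2.to_le inf_le_left) (inf_le_right.trans hCN)
    intro y hy d hd'
    exact (Subgroup.mem_normalizer_iff.1 hy.2 d).1 hd'
  have hsat := group_saturated S
  refine ⟨T, hTfn, centric_of_fullyCentralized (fullyCentralized_of_fullyNormalized_sat S.2 hsat hTfn) hDT, A, hAT, f, hf⟩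

section model
variable {G : Type u} [Group G] [Finite G] {p : ℕ} [hp : Fact p.Prime]

set_option maxHeartbeats 1000000 in
theorem exists_local_model (S : Sylow p G) {Q : Subgroup G}
    (hQfn : (groupFusionSystem (S : Subgroup G)).IsFullyNormalized Q)
    (hQc : (groupFusionSystem (S : Subgroup G)).IsCentric Q)
    (N : FusionSystem (normalizerIn (S : Subgroup G) Q))
    (hN : (groupFusionSystem (S : Subgroup G)).IsNormalizerSystem Q N) :
    ∃ (K' : Subgroup ↥(Subgroup.normalizer (Q : Set G))) (_ : K'.Normal), ¬ p ∣ Nat.card K' ∧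
      ∃ ι : ↥(normalizerIn (S : Subgroup G) Q) →* (↥(Subgroup.normalizer (Q : Set G)) ⧸ K'), N.IsModel p _ ι := by
  classical
  have hQS : Q ≤ (S : Subgroup G) := hQfn.1
  suffices key : ∀ T : Subgroup G, T = normalizerIn (S : Subgroup G) Q → ∀ N : FusionSystem T,
      (∀ P, N.Hom P = (groupFusionSystem (S : Subgroup G)).normalizerHom Q P) →
      ∃ (K' : Subgroup ↥(Subgroup.normalizer (Q : Set G))) (_ : K'.Normal), ¬ p ∣ Nat.card K' ∧
      ∃ ι : T →* (↥(Subgroup.normalizer (Q : Set G)) ⧸ K'), N.IsModel p _ ι from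
    key _ rfl N hN
  clear hN N
  intro T hT N hN
  set M := Subgroup.normalizer (Q : Set G) with hM
  obtain ⟨TM, hTMc⟩ : ∃ R : Sylow p M, (R : Subgroup M) = T.subgroupOf M := by
    rw [hT]; exact (group_fullyNormalized_iff S Q hQS).1 hQfn
  have hTM : T ≤ M := hT ▸ inf_le_right
  have hTS : T ≤ (S : Subgroup G) := hT ▸ inf_le_left
  have hQT : Q ≤ T := hT ▸ le_inf hQS Subgroup.le_normalizer
  have hTp : IsPGroup p T := S.2.to_le hTS
  set C := Subgroup.centralizer (Q : Set G) with hC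
  have hCM : C ≤ M := H6.centralizer_le_norm Q
  have hMC : M ≤ Subgroup.normalizer (C : Set G) := le_norm_centralizer le_rfl
  have hcen : (S : Subgroup G) ⊓ C ≤ Q := hQc.2 Q ⟨Q.subtype, subtype_mem _ hQS, Subgroup.range_subtype Q⟩
  -- `C` is `p`-nilpotent
  have hTC : T ⊓ C = (S : Subgroup G) ⊓ C := by
    apply le_antisymm (inf_le_inf_right _ hTS)
    rintro x ⟨h1, h2⟩
    exact ⟨hT ▸ ⟨h1, hCM h2⟩, h2⟩
  have hsylM : SylIn p T M := by
    refine ⟨hTM, hTp, ?_⟩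
    have h1 : T.relIndex M = (TM : Subgroup M).index := by rw [hTMc]; rfl
    rw [h1]; exact TM.not_dvd_index
  have hsylC : SylIn p (T ⊓ C) C := sylIn_inf_normal hsylM hCM hMC
  obtain ⟨P, hP⟩ := hsylC.exists_sylow
  have hPN : PN p C := by
    rw [← npc_iff']
    refine npc_of_inner P ?_
    intro R g hR _
    refine ⟨1, one_mem _, ?_⟩
    intro x hx
    have h1 : (x : G) ∈ Q := by
      have := hR hx
      rw [hP] at this
      have h2 : (x : G) ∈ T ⊓ C := this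
      rw [hTC] at h2
      exact hcen h2
    have h2 := Subgroup.mem_centralizer_iff.1 g.2 (x : G) h1
    apply Subtype.ext
    show (1 : G) * x * 1⁻¹ = g * x * (g : G)⁻¹
    rw [← h2]; simp
  set K := opR p C with hK
  have hKC : K ≤ C := by
    refine (Subgroup.closure_le _).2 ?_
    rintro x ⟨hx, -⟩
    exact hx
  have hKM : K ≤ M := hKC.trans hCM
  have hMK : M ≤ Subgroup.normalizer (K : Set G) := by
    intro m hm
    rw [H6.mem_norm]
    have h1 : H6.cj m C = C := H6.mem_norm.1 (hMC hm)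
    have h2 : H6.cj m K = opR p (H6.cj m C) := (opR_map _ _).symm
    rw [h1] at h2
    exact h2
  have hKT : T ⊓ K = ⊥ := by rw [inf_comm]; exact opR_inf_pgroup hPN hTp
  have hCle : C ≤ K ⊔ (C ⊓ T) := by
    have h1 := top_le_opR_sup P
    have h2 := Subgroup.map_mono (f := C.subtype) h1
    rw [← MonoidHom.range_eq_map, Subgroup.range_subtype, Subgroup.map_sup, ← opR_map, ← MonoidHom.range_eq_map,
      Subgroup.range_subtype, hP, Subgroup.subgroupOf_map_subtype] at h2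
    refine h2.trans (sup_le_sup_left ?_ _)
    rintro x ⟨⟨h3, h4⟩, -⟩
    exact ⟨h4, h3⟩
  set K' := K.subgroupOf M with hK'
  haveI hK'n : K'.Normal := Subgroup.normal_subgroupOf_of_le_normalizer hMK
  set π := QuotientGroup.mk' K' with hπ
  have hπs : Function.Surjective π := QuotientGroup.mk'_surjective K'
  have hπ1 : ∀ m : M, π m = 1 ↔ (m : G) ∈ K := fun m => (QuotientGroup.eq_one_iff m).trans Subgroup.mem_subgroupOf
  set ι' : T →* M ⧸ K' := π.comp (Subgroup.inclusion hTM) with hι'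
  have hι'v : ∀ t : T, ι' t = π ⟨t, hTM t.2⟩ := fun t => rfl
  have hinj : Function.Injective ι' := by
    rw [injective_iff_map_eq_one]
    intro t ht
    rw [hι'v, hπ1] at ht
    have h1 : (t : G) ∈ T ⊓ K := ⟨t.2, ht⟩
    rw [hKT, Subgroup.mem_bot] at h1
    exact Subtype.ext h1
  have hKp : ¬ p ∣ Nat.card K' := by
    have h1 : Nat.card K' = Nat.card K := Nat.card_congr (Subgroup.subgroupOfEquivOfLe hKM).toEquiv
    rw [h1]
    exact (Nat.Prime.coprime_iff_not_dvd hp.out).1 (Nat.Coprime.symm hPN)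
  have hmodel : N.IsModel p (M ⧸ K') ι' := by
    refine ⟨inferInstance, ⟨hinj, ?_⟩, ?_, ?_⟩
    · intro P₁ hP₁ φ hφ
      constructor
      · intro h
        rw [hN P₁] at h
        obtain ⟨h1, h2, h3, ψ, ⟨hψ1, hψ2, g, hg⟩, h4, h5⟩ := h
        have hgM : g ∈ M := by
          apply H2.mem_norm_of_conj
          intro x hx
          have := hg ⟨x, (le_sup_right : Q ≤ P₁ ⊔ Q) hx⟩
          rw [← this]
          exact h5.le ⟨⟨x, (le_sup_right : Q ≤ P₁ ⊔ Q) hx⟩, hx, rfl⟩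
        refine ⟨π ⟨g, hgM⟩, fun x => ?_⟩
        rw [hι'v, hι'v, ← map_inv, ← map_mul, ← map_mul]
        congr 1
        apply Subtype.ext
        show φ x = g * x * g⁻¹
        rw [← h4 x, hg]; rfl
      · rintro ⟨γ, hγ⟩
        obtain ⟨m, hm⟩ := fusion_lifts K' hKp TM (P₁.subgroupOf M) (by
          rw [hTMc]; exact Subgroup.comap_mono hP₁) γ (by
          intro x hx
          have h1 := hγ ⟨x, hx⟩
          rw [hι'v, hι'v] at h1
          have h2 : (QuotientGroup.mk x : M ⧸ K') = π ⟨(x : G), hTM (hP₁ hx)⟩ := rfl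
          rw [h2, ← h1]
          refine ⟨⟨φ ⟨x, hx⟩, hTM (hφ _)⟩, ?_, rfl⟩
          show _ ∈ (TM : Subgroup M)
          rw [hTMc]; exact hφ _)
        have hconj : ∀ x : P₁, (m : G) * x * (m : G)⁻¹ = φ x := by
          intro x
          have hxM : (x : G) ∈ M := hTM (hP₁ x.2)
          obtain ⟨h1, h2⟩ := hm ⟨x, hxM⟩ x.2
          have h3 : (m : G) * x * (m : G)⁻¹ ∈ T := by
            have h5 : m * ⟨x, hxM⟩ * m⁻¹ ∈ (TM : Subgroup M) := h1
            rw [hTMc] at h5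
            exact h5
          have h4 : ι' ⟨(m : G) * x * (m : G)⁻¹, h3⟩ = ι' ⟨φ x, hφ x⟩ := by
            rw [hγ x]
            exact h2
          exact congrArg (fun z : T => (z : G)) (hinj h4)
        have hP1 : P₁ ⊔ Q ≤ T := sup_le hP₁ hQT
        have hmT : ∀ x ∈ P₁ ⊔ Q, (m : G) * x * (m : G)⁻¹ ∈ (S : Subgroup G) := by
          have : P₁ ⊔ Q ≤ (S : Subgroup G).comap (MulAut.conj (m : G)).toMonoidHom := by
            refine sup_le ?_ ?_
            · intro x hx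
              show (m : G) * x * (m : G)⁻¹ ∈ (S : Subgroup G)
              have := hconj ⟨x, hx⟩
              change (m : G) * x * (m : G)⁻¹ = _ at this
              rw [this]; exact hTS (hφ _)
            · intro x hx
              exact hQS ((Subgroup.mem_normalizer_iff.1 m.2 x).1 hx)
          exact fun x hx => this hx
        rw [hN P₁]
        refine ⟨⟨hP₁.trans hTS, fun x => hTS (hφ x), m, fun x => (hconj x).symm⟩, hT ▸ hP₁, fun x => hT ▸ hφ x, conjHom (P₁ ⊔ Q) (m : G),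
          ⟨hP1.trans hTS, fun x => hmT x x.2, m, fun x => rfl⟩, fun x => hconj x, ?_⟩
        ext y
        constructor
        · rintro ⟨x, hx, rfl⟩
          exact (Subgroup.mem_normalizer_iff.1 m.2 x).1 hx
        · intro hy
          have h1 : (m : G)⁻¹ * y * m ∈ Q := by
            have := (Subgroup.mem_normalizer_iff.1 (Subgroup.inv_mem _ m.2) y).1 hy
            rwa [inv_inv] at this
          refine ⟨⟨(m : G)⁻¹ * y * m, (le_sup_right : Q ≤ P₁ ⊔ Q) h1⟩, h1, ?_⟩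
          show (m : G) * ((m : G)⁻¹ * y * m) * (m : G)⁻¹ = y
          group
    · refine ⟨TM.mapSurjective hπs, ?_⟩
      rw [Sylow.coe_mapSurjective, hTMc]
      ext y
      constructor
      · rintro ⟨x, hx, rfl⟩
        exact ⟨⟨x, hx⟩, rfl⟩
      · rintro ⟨x, rfl⟩
        exact ⟨⟨x, hTM x.2⟩, x.2, rfl⟩
    · -- self-centralizing
      intro c hc
      obtain ⟨m, rfl⟩ := hπs c
      have hQn : ((Q.subgroupOf M).map π).Normal := by
        haveI : (Q.subgroupOf M).Normal := Subgroup.normal_in_normalizer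
        exact Subgroup.Normal.map inferInstance π hπs
      have hQp : IsPGroup p ↥((Q.subgroupOf M).map π) := by
        have : IsPGroup p ↥(Q.subgroupOf M) := (S.2.to_le hQS).comap_subtype
        exact this.map π
      have hQO : (Q.subgroupOf M).map π ≤ pCore p (M ⧸ K') := L0.le_pCore hQp
      have hmC : (m : G) ∈ C := by
        rw [Subgroup.mem_centralizer_iff]
        intro q hq
        have hqM : q ∈ M := Subgroup.le_normalizer hq
        have h1 : π ⟨q, hqM⟩ ∈ pCore p (M ⧸ K') := hQO ⟨⟨q, hqM⟩, hq, rfl⟩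
        have h2 := Subgroup.mem_centralizer_iff.1 hc _ h1
        have h3 : (m : G) * q * (m : G)⁻¹ * q⁻¹ ∈ T ⊓ K := by
          refine ⟨hQT (Q.mul_mem ((Subgroup.mem_normalizer_iff.1 m.2 q).1 hq) (Q.inv_mem hq)), ?_⟩
          have h4 : π (m * ⟨q, hqM⟩ * m⁻¹ * ⟨q, hqM⟩⁻¹) = 1 := by
            simp only [map_mul, map_inv]
            rw [← h2]; group
          exact (hπ1 _).1 h4
        rw [hKT, Subgroup.mem_bot] at h3
        calc q * (m : G) = ((m : G) * q * (m : G)⁻¹ * q⁻¹)⁻¹ * ((m : G) * q) := by group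
          _ = (m : G) * q := by rw [h3]; simp
      obtain ⟨k, hk, t, ht, hkt⟩ := (L0.mem_sup_of_normalizes (M := K) (A := C ⊓ T)
        ((inf_le_left.trans hCM).trans hMK)).1 (hCle hmC)
      have htQ : t ∈ Q := hcen ⟨hTS ht.2, ht.1⟩
      apply hQO
      refine ⟨⟨t, hCM ht.1⟩, htQ, ?_⟩
      have e : m = ⟨k, hKM hk⟩ * ⟨t, hCM ht.1⟩ := Subtype.ext hkt.symm
      rw [e, map_mul, (hπ1 ⟨k, hKM hk⟩).2 hk, one_mul]
  exact ⟨K', hK'n, hKp, ι', hmodel⟩

end model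

theorem SplitDat.normal_pprime {p : ℕ} [hp : Fact p.Prime] {Q : Type*} [Group Q] [Finite Q] {V Z0 : Subgroup Q}
    (hd : SplitDat p Q V Z0) (N1 : Subgroup Q) [hN : N1.Normal] (h : ¬ p ∣ Nat.card N1) : N1 = ⊥ := by
  have hint : ∀ x ∈ N1, x ∈ V → x = 1 := by
    intro x hx hxV
    obtain ⟨k, hk⟩ := hd.vp ⟨x, hxV⟩
    have hk' : x ^ p ^ k = 1 := by simpa using congrArg Subtype.val hk
    have h1 : orderOf x ∣ Nat.card N1 := Subgroup.orderOf_dvd_natCard N1 hx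
    exact orderOf_eq_one_iff.1 (Nat.eq_one_of_dvd_coprimes
      (Nat.Coprime.pow_right k ((Nat.Prime.coprime_iff_not_dvd hp.out).2 h).symm) h1 (orderOf_dvd_of_pow_eq_one hk'))
  rw [eq_bot_iff]
  intro x hx
  refine Subgroup.mem_bot.2 (hint x hx (hd.vc ?_))
  rw [Subgroup.mem_centralizer_iff]
  intro v hv
  have h1 : v * x * v⁻¹ * x⁻¹ = 1 := by
    apply hint
    · exact N1.mul_mem (hN.conj_mem x hx v) (N1.inv_mem hx)
    · have := V.mul_mem hv (hd.vn.conj_mem _ (V.inv_mem hv) x)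
      have e : v * (x * v⁻¹ * x⁻¹) = v * x * v⁻¹ * x⁻¹ := by group
      rwa [e] at this
  calc v * x = (v * x * v⁻¹ * x⁻¹) * (x * v) := by group
    _ = x * v := by rw [h1, one_mul]

theorem SplitDat.sec_quot {p : ℕ} [hp : Fact p.Prime] {Q : Type*} [Group Q] [Finite Q] {V Z0 : Subgroup Q}
    (hd : SplitDat p Q V Z0) {M : Type*} [Group M] [Finite M] (K' : Subgroup M) [hK'n : K'.Normal] (hK'p : ¬ p ∣ Nat.card K')
    (A : Subgroup M) (f' : ↥A →* Q) (hf' : Function.Surjective f') : Sec Q (M ⧸ K') := by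
  classical
  let g : ↥A →* ↥(A.map (QuotientGroup.mk' K')) := (QuotientGroup.mk' K').subgroupMap _
  have hg : Function.Surjective g := (QuotientGroup.mk' K').subgroupMap_surjective _
  have hker : g.ker ≤ f'.ker := by
    have h1 : (g.ker.map f').Normal := Subgroup.Normal.map inferInstance f' hf'
    have h2 : ¬ p ∣ Nat.card ↥(g.ker.map f') := by
      intro hdv
      apply hK'p
      have h3 : Nat.card ↥(g.ker.map f') ∣ Nat.card g.ker := Subgroup.card_map_dvd g.ker f'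
      refine hdv.trans (h3.trans ?_)
      have h4 : Nat.card ↥(g.ker.map A.subtype) = Nat.card g.ker :=
        Nat.card_congr (g.ker.equivMapOfInjective _ (Subgroup.subtype_injective _)).symm.toEquiv
      rw [← h4]
      apply Subgroup.card_dvd_of_le
      rintro _ ⟨x, hx, rfl⟩
      have h5 : g x = 1 := hx
      have h6 := congrArg Subtype.val h5
      exact (QuotientGroup.eq_one_iff _).1 h6
    have h3 := hd.normal_pprime (g.ker.map f') h2
    intro x hx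
    have h4 : f' x ∈ g.ker.map f' := ⟨x, hx, rfl⟩
    rw [h3] at h4
    exact Subgroup.mem_bot.1 h4
  refine ⟨A.map (QuotientGroup.mk' K'), MonoidHom.liftOfSurjective g hg ⟨f', hker⟩, ?_⟩
  intro q
  obtain ⟨a, rfl⟩ := hf' q
  exact ⟨g a, MonoidHom.liftOfRightInverse_comp_apply g _ (Function.rightInverse_surjInv hg) ⟨f', hker⟩ a⟩

/-- **A group whose fusion system is `Q`-free is `Q`-free**, for `Qd(p)`-like `Q`. -/
theorem free_of_group_free {p : ℕ} [hp : Fact p.Prime] {Q : Type*} [Group Q] [Finite Q] {V Z0 : Subgroup Q}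
    (hd : SplitDat p Q V Z0) {G : Type u} [Group G] [Finite G] (S : Sylow p G)
    (hfree : (groupFusionSystem (S : Subgroup G)).IsSectionFree p Q) : ¬ Involves Q G := by
  classical
  intro hinv
  obtain ⟨T, hTfn, hTc, A, hAT, f, hf⟩ := secIn_local hd S (Sec.of_involves hinv)
  obtain ⟨N, hN⟩ := exists_normalizerSystem (groupFusionSystem (S : Subgroup G)) hTfn.1
  obtain ⟨K', hK'n, hK'p, ι, hι⟩ := exists_local_model S hTfn hTc N hN
  apply hfree T hTfn hTc N hN _ ι hι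
  apply Sec.involves
  exact hd.sec_quot K' hK'p (A.subgroupOf _) (f.comp (Subgroup.subgroupOfEquivOfLe hAT).toMonoidHom)
    (hf.comp (Subgroup.subgroupOfEquivOfLe hAT).surjective)

/-- `Qd(p)` is a split datum, `p` odd -/
theorem qd_splitDat {p : ℕ} [hp : Fact p.Prime] (hp2 : p ≠ 2) :
    SplitDat p ↥(qd p) (qV p) (Subgroup.zpowers (qm (-1) 0)) := by
  have h2 : (2 : ZMod p) ≠ 0 := by
    intro h
    have h1 : ((2 : ℕ) : ZMod p) = 0 := by exact_mod_cast h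
    rw [ZMod.natCast_eq_zero_iff] at h1
    exact hp2 ((Nat.prime_dvd_prime_iff_eq hp.out Nat.prime_two).1 h1)
  have hsq : (qm (-1 : Matrix.SpecialLinearGroup (Fin 2) (ZMod p)) 0) ^ 2 = 1 := by
    rw [pow_two, qm_mul, ← qm_one]
    congr 1
    · simp
    · simp
  refine ⟨inferInstance, qV_isPGroup, ?_, ⟨2, Nat.prime_two, hp2.symm, ?_⟩, ?_, ?_⟩
  · intro x hx
    obtain ⟨A, v, rfl⟩ := exists_qm x
    rw [mem_qV]
    rw [Subgroup.mem_centralizer_iff] at hx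
    have hA : ∀ w : Fin 2 → ZMod p, A.1.mulVec w = w := by
      intro w
      have h3 := hx (qm 1 w) ⟨w, rfl⟩
      have h4 := qm_conj A v w
      rw [← h3, mul_inv_cancel_right] at h4
      exact (qm_inj h4).2.symm
    apply Subtype.ext
    show A.1 = 1
    apply Matrix.ext_of_mulVec_single
    intro i
    rw [hA, Matrix.one_mulVec]
  · rintro ⟨x, k, rfl⟩
    refine ⟨1, Subtype.ext ?_⟩
    show (qm (-1 : Matrix.SpecialLinearGroup (Fin 2) (ZMod p)) 0 ^ k) ^ 2 ^ 1 = 1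
    rw [pow_one, ← zpow_natCast, ← zpow_mul, mul_comm, zpow_mul, zpow_natCast, hsq, one_zpow]
  · rintro _ ⟨w, rfl⟩ h
    have h1 := h _ (Subgroup.mem_zpowers _)
    rw [qm_mul, qm_mul] at h1
    have h3 := (qm_inj h1).2
    have h4 : ![-w 0, -w 1] = w := by simpa using h3
    have h5 : w = 0 := by
      have h6 : -w 0 = w 0 := congrFun h4 0
      have h7 : -w 1 = w 1 := congrFun h4 1
      have h8 : ∀ c : ZMod p, -c = c → c = 0 := by
        intro c hc
        have : (2 : ZMod p) * c = 0 := by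
          have : c + c = 0 := by nth_rewrite 1 [← hc]; ring
          rw [two_mul]; exact this
        exact (mul_eq_zero.1 this).resolve_left h2
      funext i
      fin_cases i
      · exact h8 _ h6
      · exact h8 _ h7
    rw [h5, qm_one]
  · intro x
    obtain ⟨A, v, rfl⟩ := exists_qm x
    refine ⟨qm 1 v, ⟨v, rfl⟩, qm A 0, ?_, qm_eq A v⟩
    have hc : ∀ ζ ∈ Subgroup.zpowers (qm (-1 : Matrix.SpecialLinearGroup (Fin 2) (ZMod p)) 0), qm A 0 * ζ * (qm A 0)⁻¹ = ζ := by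
      rintro _ ⟨k, rfl⟩
      have h3 : Commute (qm A 0) (qm (-1 : Matrix.SpecialLinearGroup (Fin 2) (ZMod p)) 0) := by
        show qm A 0 * qm (-1) 0 = qm (-1) 0 * qm A 0
        rw [qm_mul, qm_mul]
        congr 1
        · simp
        · simp
      have h4 := h3.zpow_right k
      rw [h4.eq, mul_inv_cancel_right]
    apply H2.mem_norm_of_conj
    intro ζ hζ
    rw [hc ζ hζ]; exact hζ

end Cfsg.Agent.H2
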