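import Mathlib
import Cfsg.Agent.L0.Core
import Cfsg.Agent.L0.Coprime
import Cfsg.Agent.H2.BaerSuzuki
import Cfsg.Agent.H2.Basic2

/-! Real elements of odd order and normal Sylow 2-subgroups, helper2. -/

set_option autoImplicit false

namespace Cfsg.Agent.H2

open Subgroup
open scoped Pointwise

variable {G : Type*} [Group G]

/-- the group generated by two involutions with product of 2-power order is a 2-group -/
theorem isPGroup_closure_pair [Finite G] {t u : G} (ht : t * t = 1) (hu : u * u = 1) {k : ℕ} (h : (t * u) ^ 2 ^ k = 1) :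
    IsPGroup 2 (closure ({t, u} : Set G)) := by
  have hn : zpowers t ≤ normalizer (zpowers (t * u) : Set G) := by
    rw [zpowers_le]
    have hinv : t⁻¹ = t := inv_eq_of_mul_eq_one_left ht
    have huinv : u⁻¹ = u := inv_eq_of_mul_eq_one_left hu
    have h1 : ∀ y ∈ zpowers (t * u), t * y * t⁻¹ ∈ zpowers (t * u) := by
      intro y hy
      obtain ⟨j, rfl⟩ := mem_zpowers_iff.1 hy
      rw [← conj_zpow]
      have e : t * (t * u) * t⁻¹ = (t * u)⁻¹ := by
        rw [mul_inv_rev, huinv, hinv, ← mul_assoc, ht, one_mul]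
      rw [e]
      exact zpow_mem (inv_mem (mem_zpowers _)) j
    rw [mem_normalizer_iff]
    intro y
    refine ⟨h1 y, fun hy => ?_⟩
    have h2 := h1 _ hy
    have e : t * (t * y * t⁻¹) * t⁻¹ = y := by
      calc t * (t * y * t⁻¹) * t⁻¹ = (t * t) * y * (t * t)⁻¹ := by group
        _ = y := by rw [ht]; group
    rwa [e] at h2
  have hp1 : IsPGroup 2 (zpowers (t * u)) := by
    intro y
    obtain ⟨j, hj⟩ := mem_zpowers_iff.1 y.2
    refine ⟨k, Subtype.ext ?_⟩
    show (y : G) ^ 2 ^ k = 1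
    rw [← hj, ← zpow_natCast, ← zpow_mul, mul_comm, zpow_mul, zpow_natCast, h, one_zpow]
  have hp2 : IsPGroup 2 (zpowers t) := by
    intro y
    obtain ⟨j, hj⟩ := mem_zpowers_iff.1 y.2
    refine ⟨1, Subtype.ext ?_⟩
    show (y : G) ^ 2 ^ 1 = 1
    rw [← hj, ← zpow_natCast, ← zpow_mul, mul_comm, zpow_mul, zpow_natCast, pow_one, pow_two, ht, one_zpow]
  have hp3 := IsPGroup.to_sup_of_normal_right' hp2 hp1 hn
  refine hp3.to_le ?_
  rw [closure_le]
  rintro z (rfl | hz)
  · exact mem_sup_left (mem_zpowers _)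
  · rw [Set.mem_singleton_iff] at hz
    rw [hz]
    have e : u = t * (t * u) := by rw [← mul_assoc, ht, one_mul]
    rw [e]
    exact Subgroup.mul_mem _ (mem_sup_left (mem_zpowers _)) (mem_sup_right (by rw [← mul_assoc, ht, one_mul]; exact mem_zpowers _))

/-- an involution outside `O_2(G)` inverts a nontrivial element of odd order -/
theorem exists_odd_inverted [Finite G] {t : G} (ht : t * t = 1) (hO : t ∉ pCore 2 G) :
    ∃ h : G, h ≠ 1 ∧ Odd (orderOf h) ∧ t * h * t⁻¹ = h⁻¹ := by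
  by_contra hcon
  push Not at hcon
  apply hO
  apply baer_suzuki
  intro g
  set u := g * t * g⁻¹ with hu
  have huu : u * u = 1 := by
    calc u * u = g * (t * t) * g⁻¹ := by rw [hu]; group
      _ = 1 := by rw [ht]; group
  have hpos : 0 < orderOf (t * u) := orderOf_pos _
  obtain ⟨a, m, hm, ham⟩ := Nat.exists_eq_pow_mul_and_not_dvd hpos.ne' 2 (by norm_num)
  have hinv : t * (t * u) * t⁻¹ = (t * u)⁻¹ := by
    have hinv : t⁻¹ = t := inv_eq_of_mul_eq_one_left ht
    have huinv : u⁻¹ = u := inv_eq_of_mul_eq_one_left huu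
    rw [mul_inv_rev, huinv, hinv, ← mul_assoc, ht, one_mul]
  have hmo : Odd m := Nat.not_even_iff_odd.1 (fun h => hm h.two_dvd)
  have hord : orderOf ((t * u) ^ 2 ^ a) = m := by
    rw [orderOf_pow_of_dvd (by positivity) (by rw [ham]; exact dvd_mul_right _ _), ham,
      Nat.mul_div_cancel_left _ (by positivity)]
  by_cases h1 : (t * u) ^ 2 ^ a = 1
  · exact isPGroup_closure_pair ht huu h1
  · exfalso
    refine hcon _ h1 (by rw [hord]; exact hmo) ?_
    rw [← conj_pow, hinv, inv_pow]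

/-- A real element of odd order modulo a normal `2`-subgroup lifts. -/
theorem exists_real_lift [Finite G] {N : Subgroup G} [N.Normal] (hN : IsPGroup 2 N) (y : G ⧸ N) (hy1 : y ≠ 1)
    (hy : Odd (orderOf y)) (hr : IsConj y y⁻¹) : ∃ x : G, x ≠ 1 ∧ Odd (orderOf x) ∧ IsConj x x⁻¹ := by
  obtain ⟨g, rfl⟩ := QuotientGroup.mk'_surjective N y
  obtain ⟨u, v, hg, huv, ⟨k, hk⟩, hv, hu, hvz⟩ := exists_p_decomp Nat.prime_two g
  -- mk g = mk v up to: mk u has 2-power order and odd order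
  have hodd : Odd (orderOf v) := Nat.coprime_two_right.1 hv
  have hu1 : QuotientGroup.mk' N u = 1 := by
    have h1 : (QuotientGroup.mk' N u) ^ 2 ^ k = 1 := by rw [← map_pow, hk, map_one]
    have h2 : (QuotientGroup.mk' N u) ^ orderOf (QuotientGroup.mk' N g) = 1 := by
      obtain ⟨j, hj⟩ := mem_zpowers_iff.1 hu
      rw [← hj, map_zpow, ← zpow_natCast, ← zpow_mul, mul_comm, zpow_mul, zpow_natCast, pow_orderOf_eq_one, one_zpow]
    have h3 := Nat.dvd_gcd (orderOf_dvd_of_pow_eq_one h1) (orderOf_dvd_of_pow_eq_one h2)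
    have h4 : Nat.gcd (2 ^ k) (orderOf (QuotientGroup.mk' N g)) = 1 := by
      apply Nat.Coprime.pow_left
      exact Nat.coprime_two_left.2 hy
    rw [h4] at h3
    exact orderOf_eq_one_iff.1 (Nat.dvd_one.1 h3)
  have hgv : QuotientGroup.mk' N g = QuotientGroup.mk' N v := by rw [hg, map_mul, hu1, one_mul]
  rw [hgv] at hy1 hr
  have hv1 : v ≠ 1 := by rintro rfl; exact hy1 (map_one _)
  obtain ⟨c, hc⟩ := isConj_iff.1 hr
  obtain ⟨c, rfl⟩ := QuotientGroup.mk'_surjective N c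
  -- conj
  have hcN : c * v * c⁻¹ * v ∈ N := by
    rw [← QuotientGroup.eq_one_iff]
    have : QuotientGroup.mk' N (c * v * c⁻¹ * v) = 1 := by
      rw [map_mul, map_mul, map_mul, map_inv, hc]; simp
    exact this
  have hcop : (Nat.card (zpowers v)).Coprime (Nat.card N) := by
    rw [Nat.card_zpowers]
    obtain ⟨j, hj⟩ := IsPGroup.iff_card.1 hN
    rw [hj]
    exact Nat.Coprime.pow_right _ hv
  have hle : MulAut.conj c • zpowers v ≤ N ⊔ zpowers v := by
    intro z hz
    rw [mem_pointwise_smul_iff_inv_smul_mem, ← map_inv, MulAut.smul_def, MulAut.conj_apply, inv_inv] at hz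
    obtain ⟨j, hj⟩ := mem_zpowers_iff.1 hz
    have : z = (c * v * c⁻¹) ^ j := by
      rw [conj_zpow, hj]; group
    rw [this]
    apply zpow_mem
    have e : c * v * c⁻¹ = (c * v * c⁻¹ * v) * v⁻¹ := by group
    rw [e]
    exact Subgroup.mul_mem _ (mem_sup_left hcN) (mem_sup_right (inv_mem (mem_zpowers _)))
  have hcardeq : Nat.card (MulAut.conj c • zpowers v : Subgroup G) = Nat.card (zpowers v) := L0.card_conj_smul _ _
  obtain ⟨n, hn, hnn⟩ := L0.exists_conj_eq_of_le_sup (M := N) (A := zpowers v) (B := MulAut.conj c • zpowers v)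
    (by rw [normalizer_eq_top]; exact le_top) hcop
    (Or.inl (by infer_instance)) hle hcardeq
  -- n⁻¹ c normalizes <v>
  refine ⟨v, hv1, hodd, isConj_iff.2 ⟨n⁻¹ * c, ?_⟩⟩
  have h1 : c * v * c⁻¹ ∈ MulAut.conj n • zpowers v := by
    rw [hnn, mem_pointwise_smul_iff_inv_smul_mem, ← map_inv, MulAut.smul_def, MulAut.conj_apply, inv_inv]
    have : c⁻¹ * (c * v * c⁻¹) * c = v := by group
    rw [this]; exact mem_zpowers _
  rw [mem_pointwise_smul_iff_inv_smul_mem, ← map_inv, MulAut.smul_def, MulAut.conj_apply, inv_inv] at h1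
  have h2 : n⁻¹ * (c * v * c⁻¹) * n * v ∈ N ⊓ zpowers v := by
    refine ⟨?_, (zpowers v).mul_mem h1 (mem_zpowers _)⟩
    have hn1 : QuotientGroup.mk' N n = 1 := (QuotientGroup.eq_one_iff n).2 hn
    have : QuotientGroup.mk' N (n⁻¹ * (c * v * c⁻¹) * n * v) = 1 := by
      simp only [map_mul, map_inv, hn1]
      rw [inv_one, one_mul, mul_one, hc]; simp
    exact (QuotientGroup.eq_one_iff _).1 this
  rw [L0.inf_eq_bot_of_coprime' hcop.symm, mem_bot] at h2
  have h3 : n⁻¹ * (c * v * c⁻¹) * n = v⁻¹ := eq_inv_of_mul_eq_one_left h2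
  rw [← h3]; group

theorem normal_sylow_two_of_no_real_odd [Finite G] (h : ∀ x : G, x ≠ 1 → Odd (orderOf x) → ¬ IsConj x x⁻¹) (P : Sylow 2 G) :
    (P : Subgroup G).Normal := by
  set N := pCore 2 G with hN
  have hNp : IsPGroup 2 N := L0.pCore_isPGroup 2 G
  have hQ : pCore 2 (G ⧸ N) = ⊥ := L0.pCore_quotient_pCore 2 G
  have hodd : Odd (Nat.card (G ⧸ N)) := by
    by_contra hne
    rw [Nat.not_odd_iff_even] at hne
    obtain ⟨t, ht⟩ := exists_prime_orderOf_dvd_card' 2 hne.two_dvd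
    have htt : t * t = 1 := by
      have := pow_orderOf_eq_one t
      rw [ht, pow_two] at this
      exact this
    have ht1 : t ∉ pCore 2 (G ⧸ N) := by
      rw [hQ, mem_bot]
      rintro rfl
      simp at ht
    obtain ⟨y, hy1, hy2, hy3⟩ := exists_odd_inverted htt ht1
    obtain ⟨x, hx1, hx2, hx3⟩ := exists_real_lift hNp y hy1 hy2 (isConj_iff.2 ⟨t, hy3⟩)
    exact h x hx1 hx2 hx3
  have hNP : N ≤ P := L0.pCore_le_sylow P
  have hPN : (P : Subgroup G) = N := by
    refine le_antisymm ?_ hNP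
    intro x hx
    rw [← QuotientGroup.eq_one_iff]
    obtain ⟨k, hk⟩ := P.2 ⟨x, hx⟩
    have hk' : x ^ 2 ^ k = 1 := congrArg Subtype.val hk
    have h1 : (QuotientGroup.mk x : G ⧸ N) ^ 2 ^ k = 1 := by rw [← QuotientGroup.mk_pow, hk']; rfl
    have h2 : (QuotientGroup.mk x : G ⧸ N) ^ Nat.card (G ⧸ N) = 1 := pow_card_eq_one'
    have h3 := Nat.dvd_gcd (orderOf_dvd_of_pow_eq_one h1) (orderOf_dvd_of_pow_eq_one h2)
    have h4 : Nat.gcd (2 ^ k) (Nat.card (G ⧸ N)) = 1 := Nat.Coprime.pow_left _ (Nat.coprime_two_left.2 hodd)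
    rw [h4] at h3
    exact orderOf_eq_one_iff.1 (Nat.dvd_one.1 h3)
  rw [hPN]; infer_instance

end Cfsg.Agent.H2
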