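import Cfsg.Agent.H2.FusZJ

set_option autoImplicit false
set_option linter.unusedSectionVars false
set_option linter.unusedSimpArgs false
set_option linter.unusedVariables false
set_option linter.style.haveILetI false
open Pointwise

/-! Subsystems of a realized system given by subgroups of the realizing group (helper2). -/

namespace Cfsg.Agent.H2
open Cfsg Cfsg.Agent.L0 Cfsg.Agent.L0.Fus Cfsg.FusionSystem

universe u v w

section
variable {Ω : Type u} [Group Ω] {S : Subgroup Ω}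

/-- the system over `S` given by conjugation with the elements of `K` -/
noncomputable def realSys {G : Type v} [Group G] (ι : S →* G) (hι : Function.Injective ι) (K : Subgroup G)
    (hK : ι.range ≤ K) : FusionSystem S where
  Hom P := {φ | ∃ (hP : P ≤ S) (hφ : ∀ x, φ x ∈ S), ∃ g ∈ K, ∀ x : P, ι ⟨φ x, hφ x⟩ = g * ι ⟨x, hP x.2⟩ * g⁻¹}
  le_of_mem := by
    rintro P φ ⟨hP, hφ, -⟩
    exact ⟨hP, hφ⟩
  injective_of_mem := by
    rintro P φ ⟨hP, hφ, g, -, hg⟩ a b hab
    have h1 : (⟨φ a, hφ a⟩ : S) = ⟨φ b, hφ b⟩ := Subtype.ext hab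
    have h2 := (hg a).symm.trans ((congrArg ι h1).trans (hg b))
    have h3 := hι (mul_left_cancel (mul_right_cancel h2))
    exact Subtype.ext (congrArg (fun z : S => (z : Ω)) h3)
  conj_mem := by
    intro P g hP hg
    refine ⟨hP, fun x => S.mul_mem (S.mul_mem hg (hP x.2)) (S.inv_mem hg), ι ⟨g, hg⟩, hK ⟨_, rfl⟩, fun x => ?_⟩
    rw [← map_inv, ← map_mul, ← map_mul]; rfl
  comp_mem := by
    rintro P Q φ ψ ⟨hP, hφ, g, hgK, hg⟩ ⟨hQ, hψ, k, hkK, hk⟩ h
    refine ⟨hP, fun x => hψ _, k * g, K.mul_mem hkK hgK, fun x => ?_⟩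
    have h1 := hk (φ.codRestrict Q h x)
    have h2 : (⟨((φ.codRestrict Q h x : Q) : Ω), hQ (φ.codRestrict Q h x).2⟩ : S) = ⟨φ x, hφ x⟩ := rfl
    rw [h2, hg] at h1
    have h3 : (⟨(ψ.comp (φ.codRestrict Q h)) x, hψ _⟩ : S) = ⟨ψ (φ.codRestrict Q h x), hψ _⟩ := rfl
    rw [h3, h1]; group
  inv_mem := by
    rintro P φ ⟨hP, hφ, g, hgK, hg⟩
    have hinj : Function.Injective φ := by
      intro a b hab
      have h1 : (⟨φ a, hφ a⟩ : S) = ⟨φ b, hφ b⟩ := Subtype.ext hab
      have h2 := (hg a).symm.trans ((congrArg ι h1).trans (hg b))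
      have h3 := hι (mul_left_cancel (mul_right_cancel h2))
      exact Subtype.ext (congrArg (fun z : S => (z : Ω)) h3)
    set e := MonoidHom.ofInjective hinj with he
    have hr : φ.range ≤ S := by rintro _ ⟨x, rfl⟩; exact hφ x
    refine ⟨P.subtype.comp e.symm.toMonoidHom, ⟨hr, fun x => hP (e.symm x).2, g⁻¹, K.inv_mem hgK, ?_⟩, ?_⟩
    · intro y
      obtain ⟨x, rfl⟩ := e.surjective y
      have h1 : (⟨(P.subtype.comp e.symm.toMonoidHom) (e x), hP (e.symm (e x)).2⟩ : S) = ⟨x, hP x.2⟩ := by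
        apply Subtype.ext
        show ((e.symm (e x) : P) : Ω) = x
        rw [MulEquiv.symm_apply_apply]
      have h2 : (⟨((e x : φ.range) : Ω), hr (e x).2⟩ : S) = ⟨φ x, hφ x⟩ := rfl
      rw [h1, h2, hg]; group
    · intro x
      show ((e.symm (e x) : P) : Ω) = x
      rw [MulEquiv.symm_apply_apply]

theorem realSys_realized {G : Type v} [Group G] (ι : S →* G) (hι : Function.Injective ι) (K : Subgroup G)
    (hK : ι.range ≤ K) : (realSys ι hι K hK).IsRealizedBy (ι.codRestrict K (fun x => hK ⟨x, rfl⟩)) := by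
  refine ⟨?_, ?_⟩
  · intro a b hab
    exact hι (congrArg (fun z : K => (z : G)) hab)
  · intro P hP φ hφ
    constructor
    · rintro ⟨_, _, g, hgK, hg⟩
      exact ⟨⟨g, hgK⟩, fun x => Subtype.ext (hg x)⟩
    · rintro ⟨g, hg⟩
      exact ⟨hP, hφ, g, g.2, fun x => congrArg (fun z : K => (z : G)) (hg x)⟩

theorem realSys_le {G : Type v} [Group G] {F : FusionSystem S} {ι : S →* G} (hF : F.IsRealizedBy ι) (K : Subgroup G)
    (hK : ι.range ≤ K) : realSys ι hF.1 K hK ≤ F := by
  intro P φ h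
  obtain ⟨hP, hφ, g, hgK, hg⟩ := h
  refine (hF.2 P hP φ hφ).2 ?_
  exact ⟨g, hg⟩

variable [Finite S] {p : ℕ} [hp : Fact p.Prime]

theorem saturated_of_realized {G : Type v} [Group G] [Finite G] {F : FusionSystem S} {ι : S →* G} (hF : F.IsRealizedBy ι)
    (T : Sylow p G) (hT : (T : Subgroup G) = ι.range) : F.IsSaturated p := by
  have h1 := (fIso_of_realized hF).symm
  haveI : Finite ι.range := Finite.of_surjective ι.rangeRestrict ι.rangeRestrict_surjective
  refine h1.saturated ?_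
  rw [← hT]
  exact group_saturated T

theorem realSys_sylow {G : Type v} [Group G] [Finite G] (ι : S →* G) (K : Subgroup G)
    (hK : ι.range ≤ K) (T : Sylow p G) (hT : (T : Subgroup G) = ι.range) :
    ∃ T' : Sylow p K, (T' : Subgroup K) = (ι.codRestrict K (fun x => hK ⟨x, rfl⟩)).range := by
  refine ⟨T.subtype (hT ▸ hK), ?_⟩
  rw [Sylow.coe_subtype, hT]
  ext x
  constructor
  · rintro ⟨y, hy⟩
    exact ⟨y, Subtype.ext hy⟩
  · rintro ⟨y, rfl⟩
    exact ⟨y, rfl⟩

end
end Cfsg.Agent.H2
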