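import Cfsg.Agent.H2.FusOm
import Cfsg.Agent.H2.InvTwo
import Cfsg.Agent.H1.Class2
import Cfsg.Agent.H6.Critical4
import Mathlib

set_option autoImplicit false

/-! Small elements (order `p` or `4`), restriction of automorphisms, critical subgroups of small exponent (helper2). -/

namespace Cfsg.Agent.H2

open Cfsg Cfsg.FusionSystem Cfsg.Agent.L0 Cfsg.Agent.L0.Fus
open scoped commutatorElement

section grp
variable {P : Type*} [Group P] [Finite P] {p : ℕ} [Fact p.Prime]

theorem fix_of_pt (hP : IsPGroup p P) {α : MulAut P} (ho : (orderOf α).Coprime p) (x : P)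
    (h : α (x⁻¹ * α x) = x⁻¹ * α x) : α x = x := by
  have hit : ∀ k : ℕ, (α ^ k) x = x * (x⁻¹ * α x) ^ k := by
    intro k
    induction k with
    | zero => simp
    | succ k ih =>
      rw [pow_succ', MulAut.mul_apply, ih, map_mul, map_pow, h, pow_succ' (x⁻¹ * α x) k, ← mul_assoc x,
        mul_inv_cancel_left]
  have h2 := hit (orderOf α)
  rw [pow_orderOf_eq_one, MulAut.one_apply] at h2
  have h3 : (x⁻¹ * α x) ^ orderOf α = 1 := mul_left_cancel (a := x) (by rw [mul_one]; exact h2.symm)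
  obtain ⟨k, hk⟩ := hP (x⁻¹ * α x)
  have h4 : x⁻¹ * α x = 1 := orderOf_eq_one_iff.1 (Nat.eq_one_of_dvd_coprimes (Nat.Coprime.pow_right k ho)
    (orderOf_dvd_of_pow_eq_one h3) (orderOf_dvd_of_pow_eq_one hk))
  exact (inv_mul_eq_one.1 h4).symm

omit [Fact p.Prime] in
/-- restriction of an automorphism to an invariant subgroup -/
theorem exists_restrict (α : MulAut P) (D : Subgroup P) (hD : ∀ x ∈ D, α x ∈ D) :
    ∃ β : MulAut D, (∀ x : D, ((β x : D) : P) = α x) ∧ orderOf β ∣ orderOf α := by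
  have hinj : Function.Injective ((α.toMonoidHom.comp D.subtype).codRestrict D (fun x => hD x x.2)) := by
    intro a b hab
    have := congrArg Subtype.val hab
    exact Subtype.ext (α.injective this)
  let β : MulAut D := MulEquiv.ofBijective _ ⟨hinj, Finite.surjective_of_injective hinj⟩
  have hβ : ∀ x : D, ((β x : D) : P) = α x := fun x => rfl
  refine ⟨β, hβ, ?_⟩
  apply orderOf_dvd_of_pow_eq_one
  have hpow : ∀ (n : ℕ) (x : D), (((β ^ n) x : D) : P) = (α ^ n) x := by
    intro n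
    induction n with
    | zero => intro x; rfl
    | succ n ih => intro x; rw [pow_succ', pow_succ', MulAut.mul_apply, MulAut.mul_apply, hβ, ih]
  apply MulEquiv.ext
  intro x
  apply Subtype.ext
  rw [hpow, pow_orderOf_eq_one]; rfl

/-- a characteristic subgroup of exponent `p` (or `4`) on which the `p'`-automorphisms act faithfully -/
theorem exists_small_crit (hP : IsPGroup p P) : ∃ D : Subgroup P, D.Characteristic ∧
    (∀ x ∈ D, x ^ p = 1 ∨ (p = 2 ∧ x ^ 4 = 1)) ∧
    (∀ α : MulAut P, (orderOf α).Coprime p → (∀ x ∈ D, α x = x) → α = 1) := by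
  have hpp : p.Prime := Fact.out
  obtain ⟨A, hA⟩ := H6.exists_crit (T := (⊤ : Subgroup P)) (hP.to_subgroup ⊤)
  have hchar : ∀ (φ : MulAut P), ∀ a ∈ A, φ a ∈ A := by
    intro φ a ha
    have h1 := hA.char
    have h2 : A.Characteristic := by
      refine ⟨fun ψ => ?_⟩
      let ψ' : ↥(⊤ : Subgroup P) ≃* ↥(⊤ : Subgroup P) := (Subgroup.topEquiv.trans ψ).trans Subgroup.topEquiv.symm
      have h3 := h1.fixed ψ'
      ext x
      constructor
      · intro hx
        have : (⟨x, Subgroup.mem_top x⟩ : ↥(⊤ : Subgroup P)) ∈ (A.subgroupOf ⊤).comap ψ'.toMonoidHom := hx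
        rw [h3] at this
        exact this
      · intro hx
        have : (⟨x, Subgroup.mem_top x⟩ : ↥(⊤ : Subgroup P)) ∈ (A.subgroupOf ⊤).comap ψ'.toMonoidHom := by
          rw [h3]; exact hx
        exact this
    have h3 := h2.fixed φ
    have h4 : a ∈ A.comap φ.toMonoidHom := by rw [h3]; exact ha
    exact h4
  have hcen : ∀ x ∈ A, ∀ y ∈ A, ∀ z ∈ A, Commute ⁅y, x⁆ z := by
    intro x hx y hy z hz
    have h1 := hA.comm (Subgroup.commutator_mem_commutator hy hx)
    exact (Subgroup.mem_centralizer_iff.1 h1 z hz).symm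
  have hcp : ∀ x ∈ A, ∀ y ∈ A, ⁅y, x⁆ ^ p = 1 := by
    intro x hx y hy
    rw [← H1.comm_pow_left (hcen x hx y hy y hy)]
    have h1 := (hA.pow y hy).2
    exact commutatorElement_eq_one_iff_mul_comm.2 ((Subgroup.mem_centralizer_iff.1 h1 x hx).symm)
  let D : Subgroup P :=
    { carrier := {x | x ∈ A ∧ (x ^ p = 1 ∨ (p = 2 ∧ x ^ 4 = 1))}
      one_mem' := ⟨A.one_mem, Or.inl (one_pow p)⟩
      mul_mem' := by
        rintro x y ⟨hx, hx'⟩ ⟨hy, hy'⟩
        refine ⟨A.mul_mem hx hy, ?_⟩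
        by_cases hp2 : p = 2
        · right
          refine ⟨hp2, ?_⟩
          have h4 : ∀ z : P, (z ^ p = 1 ∨ (p = 2 ∧ z ^ 4 = 1)) → z ^ 4 = 1 := by
            rintro z (h | ⟨-, h⟩)
            · rw [hp2] at h
              calc z ^ 4 = (z ^ 2) ^ 2 := by rw [← pow_mul]
                _ = 1 := by rw [h, one_pow]
            · exact h
          rw [H1.mul_pow_class_two (hcen x hx y hy x hx) (hcen x hx y hy y hy), h4 x hx', h4 y hy']
          have h5 := hcp x hx y hy
          rw [hp2] at h5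
          have h6 : Nat.choose 4 2 = 2 * 3 := by decide
          rw [h6, pow_mul, h5, one_pow, mul_one, mul_one]
        · left
          have h4 : ∀ z : P, (z ^ p = 1 ∨ (p = 2 ∧ z ^ 4 = 1)) → z ^ p = 1 := by
            rintro z (h | ⟨h, -⟩)
            · exact h
            · exact absurd h hp2
          rw [H1.mul_pow_class_two (hcen x hx y hy x hx) (hcen x hx y hy y hy), h4 x hx', h4 y hy']
          obtain ⟨k, hk⟩ := H1.dvd_choose_two hpp hp2
          rw [hk, pow_mul, hcp x hx y hy, one_pow, mul_one, mul_one]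
      inv_mem' := by
        rintro x ⟨hx, hx'⟩
        refine ⟨A.inv_mem hx, ?_⟩
        rcases hx' with h | ⟨h, h'⟩
        · left; rw [inv_pow, h, inv_one]
        · right; exact ⟨h, by rw [inv_pow, h', inv_one]⟩ }
  refine ⟨D, ?_, fun x hx => hx.2, ?_⟩
  · rw [Subgroup.characteristic_iff_le_comap]
    rintro φ x ⟨hx, hx'⟩
    refine ⟨hchar φ x hx, ?_⟩
    change (φ x) ^ p = 1 ∨ (p = 2 ∧ (φ x) ^ 4 = 1)
    rcases hx' with h | ⟨h, h'⟩
    · left; rw [← map_pow, h, map_one]
    · right; exact ⟨h, by rw [← map_pow, h', map_one]⟩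
  · intro α ho hα
    obtain ⟨β, hβ, hβo⟩ := exists_restrict α A (hchar α)
    have h1 : β = 1 := by
      apply aut_eq_one_of_omega (hP.to_subgroup A) (Nat.Coprime.coprime_dvd_left hβo ho)
      intro a ha
      apply Subtype.ext
      rw [hβ]
      apply hα
      refine ⟨a.2, ?_⟩
      rcases ha with h | ⟨h, h'⟩
      · left; simpa using congrArg Subtype.val h
      · right; exact ⟨h, by simpa using congrArg Subtype.val h'⟩
    obtain ⟨γ, hγ, hγo⟩ := exists_restrict α ⊤ (fun _ _ => Subgroup.mem_top _)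
    have h2 := hA.aut γ (Nat.Coprime.coprime_dvd_left hγo ho) (by
      intro a ha
      apply Subtype.ext
      rw [hγ]
      have := hβ ⟨a, ha⟩
      rw [h1] at this
      exact this.symm)
    apply MulEquiv.ext
    intro x
    have := hγ ⟨x, Subgroup.mem_top x⟩
    rw [h2] at this
    exact this.symm

end grp

section fus
variable {Ω : Type*} [Group Ω] {S : Subgroup Ω} [Finite S] {F : FusionSystem S} {p : ℕ} [Fact p.Prime]

omit [Fact p.Prime] in
/-- restriction inside the fusion system -/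
theorem restrict_aut {P : Subgroup Ω} (hPS : P ≤ S) {α : MulAut P} (hα : α ∈ F.autGroup P) (D : Subgroup Ω) (hDP : D ≤ P)
    (hD : ∀ x : P, (x : Ω) ∈ D → ((α x : P) : Ω) ∈ D) :
    ∃ β ∈ F.autGroup D, (∀ x : D, ((β x : D) : Ω) = α (Subgroup.inclusion hDP x)) ∧ orderOf β ∣ orderOf α := by
  haveI := finite_of_le hPS
  haveI := finite_of_le (hDP.trans hPS)
  have hφ := restrict_mem F ((mem_autGroup F hPS).1 hα) hDP
  obtain ⟨β, hβ, hβx⟩ := exists_aut_of_hom hφ (fun x => hD _ x.2)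
  refine ⟨β, hβ, fun x => hβx x, ?_⟩
  apply orderOf_dvd_of_pow_eq_one
  have hβ' : ∀ x : D, Subgroup.inclusion hDP (β x) = α (Subgroup.inclusion hDP x) := fun x => Subtype.ext (hβx x)
  have hpow : ∀ (n : ℕ) (x : D), Subgroup.inclusion hDP ((β ^ n) x) = (α ^ n) (Subgroup.inclusion hDP x) := by
    intro n
    induction n with
    | zero => intro x; rfl
    | succ n ih => intro x; rw [pow_succ', pow_succ', MulAut.mul_apply, MulAut.mul_apply, hβ', ih]
  apply MulEquiv.ext
  intro x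
  have h1 := hpow (orderOf α) x
  rw [pow_orderOf_eq_one] at h1
  exact Subgroup.inclusion_injective hDP h1

/-- `p'`-automorphisms of subgroups of the hyperfocal subgroup only matter -/
theorem isPGroup_aut_of_hyperfocal (hS : IsPGroup p S)
    (h : ∀ Q : Subgroup Ω, Q ≤ F.hyperfocalSubgroup p → ∀ α ∈ F.autGroup Q, (orderOf α).Coprime p → α = 1) :
    ∀ P : Subgroup Ω, P ≤ S → ∀ α ∈ F.autGroup P, (orderOf α).Coprime p → α = 1 := by
  intro P hPS α hα ho
  haveI := finite_of_le hPS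
  haveI := Fus.finite_autGroup (S := S) hPS
  have hres : ∀ x : P, ((x : Ω))⁻¹ * ((α x : P) : Ω) ∈ F.hyperfocalSubgroup p := by
    intro x
    have h1 : (⟨α, hα⟩ : F.autGroup P) ∈ pResidual p (F.autGroup P) := by
      apply Subgroup.subset_closure
      show (orderOf (⟨α, hα⟩ : F.autGroup P)).Coprime p
      rwa [Subgroup.orderOf_mk]
    exact mem_hyperfocal F hPS h1 x
  let D : Subgroup Ω := (P ⊓ F.hyperfocalSubgroup p)
  have hDP : D ≤ P := inf_le_left
  have hDα : ∀ x : P, (x : Ω) ∈ D → ((α x : P) : Ω) ∈ D := by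
    intro x hx
    refine ⟨(α x).2, ?_⟩
    have := (F.hyperfocalSubgroup p).mul_mem hx.2 (hres x)
    rwa [mul_inv_cancel_left] at this
  obtain ⟨β, hβ, hβx, hβo⟩ := restrict_aut hPS hα D hDP hDα
  have h1 := h D inf_le_right β hβ (Nat.Coprime.coprime_dvd_left hβo ho)
  have hfix : ∀ x : P, (x : Ω) ∈ D → α x = x := by
    intro x hx
    have := hβx ⟨x, hx⟩
    rw [h1] at this
    exact Subtype.ext this.symm
  apply MulEquiv.ext
  intro x
  apply fix_of_pt (hS.to_le hPS) ho
  apply hfix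
  exact ⟨(x⁻¹ * α x).2, hres x⟩

/-- the upper central series of `S`, in the ambient group -/
def zser (S : Subgroup Ω) (i : ℕ) : Subgroup Ω := (Subgroup.upperCentralSeries ↥S i).map S.subtype

omit [Finite S] in
theorem zser_zero : zser S 0 = ⊥ := by
  unfold zser; rw [Subgroup.upperCentralSeries_zero, Subgroup.map_bot]

omit [Finite S] in
theorem zser_le (i : ℕ) : zser S i ≤ S := Subgroup.map_subtype_le _

omit [Finite S] in
theorem zser_mono (i : ℕ) : zser S i ≤ zser S (i + 1) :=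
  Subgroup.map_mono (Subgroup.upperCentralSeries_mono (G := ↥S) (Nat.le_succ i))

theorem zser_top (hS : IsPGroup p S) : ∃ n, zser S n = S := by
  haveI : Group.IsNilpotent S := hS.isNilpotent
  obtain ⟨n, hn⟩ := (Group.isNilpotent_iff ↥S).1 inferInstance
  refine ⟨n, ?_⟩
  unfold zser
  rw [hn, ← MonoidHom.range_eq_map, Subgroup.range_subtype]

omit [Finite S] in
theorem zser_comm (i : ℕ) {x s : Ω} (hx : x ∈ zser S (i + 1)) (hs : s ∈ S) : x⁻¹ * (s * x * s⁻¹) ∈ zser S i := by
  obtain ⟨x, hx, rfl⟩ := hx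
  have h1 := Subgroup.mem_upperCentralSeries_succ_iff.1 ((Subgroup.upperCentralSeries ↥S (i + 1)).inv_mem hx) ⟨s, hs⟩
  refine ⟨x⁻¹ * (⟨s, hs⟩ * x * (⟨s, hs⟩ : ↥S)⁻¹), ?_, rfl⟩
  have e : x⁻¹ * (⟨s, hs⟩ * x * (⟨s, hs⟩ : ↥S)⁻¹) = x⁻¹ * ⟨s, hs⟩ * x⁻¹⁻¹ * (⟨s, hs⟩ : ↥S)⁻¹ := by group
  rw [e]; exact h1

omit [Finite S] in
theorem zser_char (i : ℕ) (α : MulAut S) (x : S) (hx : (x : Ω) ∈ zser S i) : ((α x : S) : Ω) ∈ zser S i := by
  obtain ⟨y, hy, hyx⟩ := hx
  have : y = x := Subtype.ext hyx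
  subst this
  have h1 := (inferInstance : (Subgroup.upperCentralSeries ↥S i).Characteristic).fixed α
  refine ⟨α y, ?_, rfl⟩
  have h2 : y ∈ (Subgroup.upperCentralSeries ↥S i).comap α.toMonoidHom := by rw [h1]; exact hy
  exact h2

theorem card_small {G : Type*} [Group G] {x : G} (h : x ^ p = 1 ∨ (p = 2 ∧ x ^ 4 = 1)) (hx : x ≠ 1) :
    Nat.card ↥(Subgroup.zpowers x) = p ∨ Nat.card ↥(Subgroup.zpowers x) = 4 := by
  rw [Nat.card_zpowers]
  rcases h with h | ⟨h, h'⟩
  · left; exact orderOf_eq_prime h hx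
  · have h1 : orderOf x ∣ 4 := orderOf_dvd_of_pow_eq_one h'
    have h2 : orderOf x ≠ 1 := fun h => hx (orderOf_eq_one_iff.1 h)
    have h3 : orderOf x ≤ 4 := Nat.le_of_dvd (by norm_num) h1
    have h4 : orderOf x ≠ 3 := by intro h; rw [h] at h1; omega
    have h5 : 0 < orderOf x := Nat.pos_of_dvd_of_pos h1 (by norm_num)
    omega

end fus

end Cfsg.Agent.H2
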