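import Cfsg.Agent.H1.Transfer
import Mathlib

set_option linter.all false
set_option autoImplicit false

/-! Consequences of transfer: central elements of the normalizer of an abelian Sylow subgroup. -/

namespace Cfsg.Agent.H2

universe u
variable {G : Type u} [Group G]

theorem eq_one_of_central_normalizer [Finite G] {p : ℕ} [hp : Fact p.Prime] (P : Sylow p G)
    (hP : IsMulCommutative P) {x : G} (hx : x ∈ (P : Subgroup G))
    (hc : ∀ n ∈ Subgroup.normalizer (P : Set G), n * x * n⁻¹ = x) (hG : x ∈ commutator G) : x = 1 := by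
  letI : CommGroup P := { (inferInstance : Group P) with mul_comm := fun a b => isMulCommutative_iff.1 hP a b }
  have key : ∀ (k : ℕ) (g₀ : G), g₀⁻¹ * x ^ k * g₀ ∈ (P : Subgroup G) → g₀⁻¹ * x ^ k * g₀ = x ^ k := by
    intro k g₀ h
    obtain ⟨n, hn, h2⟩ := H1.burnside_fusion P hP (x := x ^ k) (u := g₀⁻¹) ((P : Subgroup G).pow_mem hx k)
      (by rw [inv_inv]; exact h)
    rw [inv_inv] at h2
    rw [h2]
    have : n * x ^ k * n⁻¹ = (n * x * n⁻¹) ^ k := by rw [conj_pow]
    rw [this, hc n hn]
  have h1 := MonoidHom.transfer_eq_pow (MonoidHom.id (P : Subgroup G)) x key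
  have h2 : MonoidHom.transfer (MonoidHom.id (P : Subgroup G)) x = 1 := by
    have h3 : commutator G ≤ (MonoidHom.transfer (MonoidHom.id (P : Subgroup G))).ker := Abelianization.commutator_subset_ker _
    exact h3 hG
  rw [h2] at h1
  have h3 : x ^ (P : Subgroup G).index = 1 := by
    have := congrArg (fun y : (P : Subgroup G) => (y : G)) h1
    exact this.symm
  obtain ⟨k, hk⟩ := P.isPGroup' ⟨x, hx⟩
  have h4 : x ^ p ^ k = 1 := by
    have := congrArg (fun y : (P : Subgroup G) => (y : G)) hk
    exact this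
  have h5 : orderOf x ∣ p ^ k := orderOf_dvd_of_pow_eq_one h4
  have h6 : orderOf x ∣ (P : Subgroup G).index := orderOf_dvd_of_pow_eq_one h3
  have h7 : Nat.Coprime (p ^ k) (P : Subgroup G).index := Nat.Coprime.pow_left k (H1.card_coprime_index_sylow P).symm
  rw [← orderOf_eq_one_iff]
  exact Nat.eq_one_of_dvd_coprimes h7 h5 h6

/-- In a perfect group with Sylow 2-subgroups of order four, these are elementary and all involutions are conjugate. -/
theorem sylow_two_order_four [Finite G] (S : Sylow 2 G) (hS : Nat.card S = 4) (hG : commutator G = ⊤) :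
    (∀ x ∈ (S : Subgroup G), x * x = 1) ∧
    (∀ u v : G, u * u = 1 → u ≠ 1 → v * v = 1 → v ≠ 1 → IsConj u v) := by
  have : Fact (Nat.Prime 2) := ⟨Nat.prime_two⟩
  have hSc : IsMulCommutative S := IsPGroup.isMulCommutative_of_card_eq_prime_sq (p := 2) (by rw [hS]; norm_num)
  have hcomm : ∀ a ∈ (S : Subgroup G), ∀ b ∈ (S : Subgroup G), a * b = b * a := by
    intro a ha b hb
    exact congrArg (Subtype.val) (isMulCommutative_iff.1 hSc ⟨a, ha⟩ ⟨b, hb⟩)
  have hmove : ∀ x ∈ (S : Subgroup G), x ≠ 1 → ∃ n ∈ Subgroup.normalizer (S : Set G), n * x * n⁻¹ ≠ x := by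
    intro x hx hx1
    by_contra hcon
    push Not at hcon
    exact hx1 (eq_one_of_central_normalizer S hSc hx hcon (by rw [hG]; trivial))
  have hnS : ∀ n ∈ Subgroup.normalizer (S : Set G), ∀ x ∈ (S : Subgroup G), n * x * n⁻¹ ∈ (S : Subgroup G) := by
    intro n hn x hx
    exact (Subgroup.mem_normalizer_iff.1 hn x).1 hx
  have hpow4 : ∀ x ∈ (S : Subgroup G), x ^ 4 = 1 := by
    intro x hx
    have h1 : (⟨x, hx⟩ : S) ^ Nat.card S = 1 := pow_card_eq_one'
    rw [hS] at h1
    exact congrArg Subtype.val h1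
  have helem : ∀ x ∈ (S : Subgroup G), x * x = 1 := by
    intro x hx
    by_contra hne
    have h2 : ¬ x ^ 2 = 1 := by rw [pow_two]; exact hne
    have ho : orderOf x = 4 := by
      have h3 : orderOf x ∣ 2 ^ 2 := orderOf_dvd_of_pow_eq_one (by rw [show (2 ^ 2) = 4 by norm_num]; exact hpow4 x hx)
      obtain ⟨k, hk, hk2⟩ := (Nat.dvd_prime_pow Nat.prime_two).1 h3
      interval_cases k
      · exfalso; apply h2; rw [pow_zero] at hk2; rw [orderOf_eq_one_iff] at hk2; rw [hk2, one_pow]
      · exfalso; apply h2; rw [pow_one] at hk2; rw [← hk2]; exact pow_orderOf_eq_one x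
      · rw [hk2]; norm_num
    have hz : Subgroup.zpowers x = (S : Subgroup G) := by
      apply Subgroup.eq_of_le_of_card_ge
      · rw [Subgroup.zpowers_le]; exact hx
      · rw [Nat.card_zpowers, ho]; exact hS.le
    obtain ⟨n, hn, hnx⟩ := hmove (x ^ 2) ((S : Subgroup G).pow_mem hx 2) h2
    apply hnx
    have h4 := hnS n hn x hx
    rw [← hz] at h4
    obtain ⟨i, hi⟩ := Subgroup.mem_zpowers_iff.1 h4
    have h5 : n * x ^ 2 * n⁻¹ = (n * x * n⁻¹) ^ 2 := by rw [conj_pow]
    rw [h5, ← hi, ← zpow_natCast, ← zpow_natCast, ← zpow_mul]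
    -- x^(2i) with i odd
    rcases Int.even_or_odd i with he | ho'
    · exfalso
      obtain ⟨j, hj⟩ := he
      have h6 : (n * x * n⁻¹) ^ 2 = 1 := by
        rw [← hi, ← zpow_natCast, ← zpow_mul, hj]
        have : (j + j) * ((2 : ℕ) : ℤ) = 4 * j := by push_cast; ring
        rw [this, zpow_mul]
        have h7 : x ^ (4 : ℤ) = 1 := by exact_mod_cast hpow4 x hx
        rw [h7, one_zpow]
      rw [conj_pow] at h6
      apply h2
      have : x ^ 2 = n⁻¹ * (n * x ^ 2 * n⁻¹) * n := by group
      rw [this, h6]; group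
    · obtain ⟨j, hj⟩ := ho'
      rw [hj]
      have : (2 * j + 1) * ((2 : ℕ) : ℤ) = 4 * j + ((2 : ℕ) : ℤ) := by push_cast; ring
      rw [this, zpow_add, zpow_mul]
      have h7 : x ^ (4 : ℤ) = 1 := by exact_mod_cast hpow4 x hx
      rw [h7, one_zpow, one_mul]
  refine ⟨helem, ?_⟩
  -- all nonidentity elements of S are conjugate
  have hSconj : ∀ x ∈ (S : Subgroup G), x ≠ 1 → ∀ y ∈ (S : Subgroup G), y ≠ 1 → IsConj x y := by
    intro x hx hx1 y hy hy1
    obtain ⟨n, hn, hnx⟩ := hmove x hx hx1
    set x' := n * x * n⁻¹ with hx'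
    have hx'S : x' ∈ (S : Subgroup G) := hnS n hn x hx
    have hcx : IsConj x x' := isConj_iff.2 ⟨n, rfl⟩
    have hx'1 : x' ≠ 1 := by
      intro h
      apply hx1
      have : x = n⁻¹ * x' * n := by rw [hx']; group
      rw [this, h]; group
    have hz1 : x * x' ≠ 1 := by
      intro h
      apply hnx
      have h2 := helem x hx
      exact (mul_left_cancel (h.trans h2.symm))
    have hzS : x * x' ∈ (S : Subgroup G) := (S : Subgroup G).mul_mem hx hx'S
    have hall : ∀ w ∈ (S : Subgroup G), w = 1 ∨ w = x ∨ w = x' ∨ w = x * x' := by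
      have hsub : ({1, x, x', x * x'} : Set G) ⊆ ((S : Subgroup G) : Set G) := by
        intro w hw
        rcases hw with rfl | rfl | rfl | rfl
        · exact (S : Subgroup G).one_mem
        · exact hx
        · exact hx'S
        · exact hzS
      have hcard : ({1, x, x', x * x'} : Set G).ncard = 4 := by
        rw [Set.ncard_insert_of_notMem, Set.ncard_insert_of_notMem, Set.ncard_insert_of_notMem, Set.ncard_singleton]
        · simp only [Set.mem_singleton_iff]
          intro h; exact hx1 (right_eq_mul.1 h)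
        · simp only [Set.mem_insert_iff, Set.mem_singleton_iff, not_or]
          exact ⟨fun h => hnx h.symm, fun h => hx'1 (left_eq_mul.1 h)⟩
        · simp only [Set.mem_insert_iff, Set.mem_singleton_iff, not_or]
          exact ⟨fun h => hx1 h.symm, fun h => hx'1 h.symm, fun h => hz1 h.symm⟩
      have heq := Set.eq_of_subset_of_ncard_le hsub (by
        rw [hcard]
        have : ((S : Subgroup G) : Set G).ncard = Nat.card (S : Subgroup G) := rfl
        rw [this]; exact hS.le) (Set.toFinite _)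
      intro w hw
      have : w ∈ ({1, x, x', x * x'} : Set G) := by rw [heq]; exact hw
      simpa using this
    have hzconj : IsConj x (x * x') := by
      obtain ⟨h, hh, hhz⟩ := hmove _ hzS hz1
      have h1 : IsConj (x * x') (h * (x * x') * h⁻¹) := isConj_iff.2 ⟨h, rfl⟩
      rcases hall _ (hnS h hh _ hzS) with h2 | h2 | h2 | h2
      · exfalso; apply hz1
        have : x * x' = h⁻¹ * (h * (x * x') * h⁻¹) * h := by group
        rw [this, h2]; group
      · rw [h2] at h1; exact h1.symm
      · rw [h2] at h1; exact hcx.trans h1.symm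
      · exact absurd h2 hhz
    rcases hall y hy with h | h | h | h
    · exact absurd h hy1
    · rw [h]
    · rw [h]; exact hcx
    · rw [h]; exact hzconj
  -- any involution is conjugate into S
  have hinto : ∀ u : G, u * u = 1 → ∃ g : G, g * u * g⁻¹ ∈ (S : Subgroup G) := by
    intro u hu
    have h1 : IsPGroup 2 (Subgroup.zpowers u) := by
      rw [IsPGroup.iff_card]
      have : orderOf u ∣ 2 ^ 1 := orderOf_dvd_of_pow_eq_one (by rw [pow_one, pow_two]; exact hu)
      obtain ⟨k, _, hk⟩ := (Nat.dvd_prime_pow Nat.prime_two).1 this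
      exact ⟨k, by rw [Nat.card_zpowers]; exact hk⟩
    obtain ⟨Q, hQ⟩ := h1.exists_le_sylow
    obtain ⟨g, hg⟩ := MulAction.exists_smul_eq G Q S
    refine ⟨g, ?_⟩
    rw [← hg]
    have hu' : u ∈ Q := hQ (Subgroup.mem_zpowers u)
    rw [Sylow.coe_subgroup_smul]
    exact ⟨u, hu', rfl⟩
  intro u v hu hu1 hv hv1
  obtain ⟨g, hg⟩ := hinto u hu
  obtain ⟨h, hh⟩ := hinto v hv
  have h1 : IsConj u (g * u * g⁻¹) := isConj_iff.2 ⟨g, rfl⟩
  have h2 : IsConj v (h * v * h⁻¹) := isConj_iff.2 ⟨h, rfl⟩
  have h3 := hSconj _ hg (fun h0 => hu1 (by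
    have : u = g⁻¹ * (g * u * g⁻¹) * g := by group
    rw [this, h0]; group)) _ hh (fun h0 => hv1 (by
    have : v = h⁻¹ * (h * v * h⁻¹) * h := by group
    rw [this, h0]; group))
  exact h1.trans (h3.trans h2.symm)

end Cfsg.Agent.H2
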