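import Cfsg.Agent.H1.Transfer
import Cfsg.Agent.H2.Trans
import Cfsg.Agent.L0.Coprime
import Cfsg.Agent.H3.Basic
import Mathlib

set_option linter.all false
set_option autoImplicit false

/-! Helpers for counting Sylow subgroups. -/

namespace Cfsg.Agent.H2

open Cfsg.Agent.L0

universe u
variable {G : Type u} [Group G]

theorem isPGroup_zpowers [Finite G] {p : ℕ} [hp : Fact p.Prime] {x : G} {k : ℕ} (h : x ^ p ^ k = 1) :
    IsPGroup p (Subgroup.zpowers x) := by
  rw [IsPGroup.iff_card]
  obtain ⟨j, _, hj⟩ := (Nat.dvd_prime_pow hp.out).1 (orderOf_dvd_of_pow_eq_one h)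
  exact ⟨j, by rw [Nat.card_zpowers]; exact hj⟩

theorem mem_sylow_of_mem_normalizer [Finite G] {p : ℕ} [hp : Fact p.Prime] {x : G} (h : IsPGroup p (Subgroup.zpowers x))
    (Q : Sylow p G) (hx : x ∈ Subgroup.normalizer ((Q : Subgroup G) : Set G)) : x ∈ (Q : Subgroup G) := by
  have h1 := h.inf_normalizer_sylow Q
  have h2 : x ∈ Subgroup.zpowers x ⊓ Subgroup.normalizer ((Q : Subgroup G) : Set G) := ⟨Subgroup.mem_zpowers x, hx⟩
  have h3 : x ∈ Subgroup.zpowers x ⊓ (Q : Subgroup G) := by rw [← h1]; exact h2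
  exact h3.2

theorem centralizes_of_card_prime [Finite G] {r : ℕ} (hr : r.Prime) {F : Subgroup G} (hF : Nat.card F = r) {x : G}
    (hx : x ∈ Subgroup.normalizer (F : Set G)) (hc : (orderOf x).Coprime (r - 1)) :
    x ∈ Subgroup.centralizer (F : Set G) := by
  have hrf : Fact r.Prime := ⟨hr⟩
  have hcyc : IsCyclic F := isCyclic_of_prime_card hF
  let y : Subgroup.normalizer (F : Set G) := ⟨x, hx⟩
  have h1 : orderOf (F.normalizerMonoidHom y) ∣ orderOf x := by
    have := orderOf_map_dvd F.normalizerMonoidHom y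
    rwa [Subgroup.orderOf_mk] at this
  have h2 : orderOf (F.normalizerMonoidHom y) ∣ r - 1 := by
    have := orderOf_dvd_natCard (F.normalizerMonoidHom y)
    rwa [hcyc.card_mulAut, hF, Nat.totient_prime hr] at this
  have h3 : F.normalizerMonoidHom y = 1 := by
    rw [← orderOf_eq_one_iff]
    exact Nat.eq_one_of_dvd_coprimes hc h1 h2
  have h4 : y ∈ F.normalizerMonoidHom.ker := h3
  rw [Subgroup.normalizerMonoidHom_ker, Subgroup.mem_subgroupOf] at h4
  exact h4

/-- index of the centralizer of a subgroup of prime order in the normalizer -/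
theorem relIndex_centralizer_dvd [Finite G] {r : ℕ} (hr : r.Prime) {F : Subgroup G} (hF : Nat.card F = r) :
    (Subgroup.centralizer (F : Set G)).relIndex (Subgroup.normalizer (F : Set G)) ∣ r - 1 := by
  have hrf : Fact r.Prime := ⟨hr⟩
  have hcyc : IsCyclic F := isCyclic_of_prime_card hF
  have key := Subgroup.card_dvd_of_injective _ (QuotientGroup.kerLift_injective F.normalizerMonoidHom)
  rw [Subgroup.normalizerMonoidHom_ker, hcyc.card_mulAut, hF, Nat.totient_prime hr] at key
  exact key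

theorem card_sylow_prime [Finite G] {r : ℕ} [hr : Fact r.Prime] (F : Sylow r G) (h1 : r ∣ Nat.card G)
    (h2 : ¬ r ^ 2 ∣ Nat.card G) : Nat.card (F : Subgroup G) = r := by
  obtain ⟨k, hk⟩ := IsPGroup.iff_card.1 F.isPGroup'
  have hk' : Nat.card (F : Subgroup G) = r ^ k := hk
  have h3 : r ^ k ∣ Nat.card G := hk' ▸ Subgroup.card_subgroup_dvd_card _
  have h4 : k < 2 := by
    by_contra hcon
    exact h2 (dvd_trans (pow_dvd_pow r (by omega)) h3)
  have h5 : r ^ 1 ∣ Nat.card F := F.pow_dvd_card_of_pow_dvd_card (by rw [pow_one]; exact h1)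
  have h6 : k ≠ 0 := by
    rintro rfl
    rw [hk, pow_zero, pow_one] at h5
    exact hr.out.one_lt.ne' (Nat.dvd_one.1 h5)
  have : k = 1 := by omega
  rw [hk', this, pow_one]

theorem simple_card_of_coprime [Finite G] (hs : IsSimpleGroup G) {r : ℕ} (hr : r.Prime) (h1 : r ∣ Nat.card G)
    (h2 : ¬ r ^ 2 ∣ Nat.card G) (hc : (Nat.card G).Coprime (r - 1)) : Nat.card G = r := by
  have hrf : Fact r.Prime := ⟨hr⟩
  obtain ⟨F⟩ : Nonempty (Sylow r G) := inferInstance
  have hF := card_sylow_prime F h1 h2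
  have h3 : Subgroup.normalizer ((F : Subgroup G) : Set G) ≤ Subgroup.centralizer ((F : Subgroup G) : Set G) := by
    intro x hx
    exact centralizes_of_card_prime hr hF hx (Nat.Coprime.coprime_dvd_left (orderOf_dvd_natCard x) hc)
  obtain ⟨S, N, hN, hSN⟩ := H1.hasNormalPComplement_of_normalizer_le_centralizer F h3
  have hS := card_sylow_prime S h1 h2
  have h4 : Nat.card N * Nat.card (S : Subgroup G) = Nat.card G := hSN.card_mul
  rcases hs.eq_bot_or_eq_top_of_normal N hN with h | h
  · rw [h, Subgroup.card_bot, one_mul, hS] at h4; exact h4.symm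
  · rw [h, Subgroup.card_top, hS] at h4
    exfalso
    have : 0 < Nat.card G := Nat.card_pos
    have h5 := hr.two_le
    nlinarith

end Cfsg.Agent.H2
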