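import Cfsg.Prelude.Def_Characters
import Cfsg.Agent.H2.CharInv
import Mathlib

set_option linter.all false
set_option autoImplicit false

/-! Groups with an abelian TI subgroup inverted by its normalizer: arithmetic. -/

namespace Cfsg.Agent.H2

open scoped ComplexConjugate
open Cfsg.Agent.H5

universe u
variable {G : Type u} [Group G]

theorem sum_pair_eq [Fintype G] [DecidableEq G] (I : Finset G) (F : G → ℂ) :
    ∑ u ∈ I, ∑ v ∈ I, F (u * v) = ∑ x : G, ((I.filter (fun u => u⁻¹ * x ∈ I)).card : ℂ) * F x := by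
  have h1 : ∀ u : G, ∑ v ∈ I, F (u * v) = ∑ x : G, if u⁻¹ * x ∈ I then F x else 0 := by
    intro u
    rw [← Equiv.sum_comp (Equiv.mulLeft u) (fun x => if u⁻¹ * x ∈ I then F x else 0)]
    simp only [Equiv.coe_mulLeft, inv_mul_cancel_left]
    rw [← Finset.sum_filter]
    congr 1
    ext x; simp
  rw [Finset.sum_congr rfl (fun u _ => h1 u), Finset.sum_comm]
  apply Finset.sum_congr rfl
  intro x _
  rw [← Finset.sum_filter, Finset.sum_const, nsmul_eq_mul]

theorem final_arith (q m f e : ℤ) (a : ℕ) (ha : 1 ≤ a) (hq : q = 2 * 3 ^ a) (hm : m = q ^ 2 - q + 1)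
    (hf : 0 < f) (h : m * (f - e) ^ 2 = 2 * q ^ 2 * (f * (f + 1))) (he : e ^ 2 + 1 ≤ 2 * q) : False := by
  have hq6 : 6 ≤ q := by
    have : (3 : ℤ) ^ 1 ≤ 3 ^ a := pow_le_pow_right₀ (by norm_num) ha
    rw [hq]; linarith
  -- m coprime to 2 q^2
  have hcop : IsCoprime (2 * q ^ 2) m := by
    have h1 : IsCoprime q m := by
      refine ⟨1 - q, 1, ?_⟩
      rw [hm]; ring
    have h2 : IsCoprime (2 : ℤ) m := by
      refine ⟨- (3 ^ a * (q - 1)), 1, ?_⟩
      rw [hm, hq]; ring
    exact IsCoprime.mul_left h2 (IsCoprime.pow_left h1)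
  have hd1 : 2 * q ^ 2 ∣ (f - e) ^ 2 := by
    apply hcop.dvd_of_dvd_mul_left
    rw [h]; exact Dvd.intro _ rfl
  have hd2 : 2 * q ∣ f - e := by
    have h3 : q ∣ f - e := by
      have : q ^ 2 ∣ (f - e) ^ 2 := dvd_trans (Dvd.intro_left _ rfl) hd1
      exact (Int.pow_dvd_pow_iff two_ne_zero).1 this
    obtain ⟨k, hk⟩ := h3
    rw [hk] at hd1
    have h4 : (2 : ℤ) ∣ k ^ 2 := by
      have h5 : q ^ 2 * 2 ∣ q ^ 2 * k ^ 2 := by
        have e1 : q ^ 2 * 2 = 2 * q ^ 2 := by ring
        have e2 : q ^ 2 * k ^ 2 = (q * k) ^ 2 := by ring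
        rw [e1, e2]; exact hd1
      exact Int.dvd_of_mul_dvd_mul_left (by positivity) h5
    have h6 : (2 : ℤ) ∣ k := Int.prime_two.dvd_of_dvd_pow h4
    obtain ⟨l, hl⟩ := h6
    exact ⟨l, by rw [hk, hl]; ring⟩
  obtain ⟨k, hk⟩ := hd2
  have h7 : 2 * m * k ^ 2 = f * (f + 1) := by
    rw [hk] at h
    have h8 : (2 * q ^ 2) * (2 * m * k ^ 2) = (2 * q ^ 2) * (f * (f + 1)) := by
      rw [← h]; ring
    have h9 : (2 * q ^ 2 : ℤ) ≠ 0 := by positivity
    exact mul_left_cancel₀ h9 h8
  have hf' : f = e + 2 * q * k := by linarith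
  -- bound on e : 2 |e| ≤ q
  have hab : 2 * |e| ≤ q := by
    by_contra hcon
    push Not at hcon
    have h10 : q + 1 ≤ 2 * |e| := hcon
    have h11 : (q + 1) ^ 2 ≤ (2 * |e|) ^ 2 := pow_le_pow_left₀ (by linarith) h10 2
    have h12 : (2 * |e|) ^ 2 = 4 * e ^ 2 := by rw [mul_pow, sq_abs]; norm_num
    rw [h12] at h11
    nlinarith
  have h13 : -|e| ≤ e := neg_abs_le e
  have h14 : e ≤ |e| := le_abs_self e
  have hk1 : 1 ≤ k := by
    by_contra hcon
    push Not at hcon
    have : k ≤ 0 := by linarith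
    rcases this.eq_or_lt with h0 | h0
    · rw [h0] at h7
      have : 0 < f * (f + 1) := by positivity
      linarith [h7]
    · have : q * k ≤ q * (-1) := mul_le_mul_of_nonneg_left (by linarith) (by linarith)
      nlinarith
  -- f ≥ 2qk - q/2
  have h15 : 2 * f ≥ 4 * q * k - q := by nlinarith
  have h16 : 4 * q * k - q ≥ 3 * q * k := by nlinarith
  have h17 : 2 * f ≥ 3 * q * k := by linarith
  have h18 : (3 * q * k) ^ 2 ≤ (2 * f) ^ 2 := pow_le_pow_left₀ (by positivity) h17 2
  have h19 : 4 * (f * (f + 1)) ≥ 9 * q ^ 2 * k ^ 2 := by nlinarith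
  rw [← h7, hm] at h19
  have hk2 : 0 < k ^ 2 := by positivity
  nlinarith [mul_pos hk2 (by linarith : (0:ℤ) < q), mul_pos (mul_pos hk2 (by linarith : (0:ℤ) < q)) (by linarith : (0:ℤ) < q)]

theorem stage2 {G : Type u} [Group G] [Finite G] (C : Subgroup G) (t : G) (htC : t ∈ C) (ht1 : t ≠ 1) (htt : t * t = 1)
    (hcomm : ∀ a ∈ C, ∀ b ∈ C, a * b = b * a)
    (N : Subgroup G) (hCN : C ≤ N) (hNcard : Nat.card N = 2 * Nat.card C)
    (hTI : ∀ g x, x ∈ C → g * x * g⁻¹ ∈ C → x ≠ 1 → g ∈ N)
    (hnorm : ∀ g ∈ N, ∀ x ∈ C, g * x * g⁻¹ ∈ C)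
    (hinv : ∀ s ∈ N, s ∉ C → ∀ c ∈ C, s * c * s⁻¹ = c⁻¹)
    (hsq : ∀ s ∈ N, s ∉ C → s * s = 1)
    (huniq : ∀ c ∈ C, c * c = 1 → c = 1 ∨ c = t)
    (hconj : ∀ u : G, u * u = 1 → u ≠ 1 → IsConj t u)
    (hprod : ∀ u v : G, u * u = 1 → v * v = 1 → u ≠ v → u ≠ 1 → v ≠ 1 → ∃ g, g * (u * v) * g⁻¹ ∈ C)
    (lam : C →* ℂˣ) (hlt : lam ⟨t, htC⟩ = 1) (hl1 : lam ≠ 1) (hl2 : lam ≠ lam⁻¹)
    (a : ℕ) (ha : 1 ≤ a) (hq : Nat.card C = 2 * 3 ^ a) : False := by
  classical
  have := Fintype.ofFinite G
  have htinv : t⁻¹ = t := inv_eq_of_mul_eq_one_left htt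
  -- centralizer of t
  have hCt : Subgroup.centralizer ({t} : Set G) = N := by
    ext g
    rw [Subgroup.mem_centralizer_singleton_iff]
    constructor
    · intro h
      apply hTI g t htC _ ht1
      rw [h, mul_assoc, mul_inv_cancel, mul_one]; exact htC
    · intro h
      by_cases hg : g ∈ C
      · exact hcomm g hg t htC
      · have h1 := hinv g h hg t htC
        rw [htinv] at h1
        exact mul_inv_eq_iff_eq_mul.1 h1
  let I : Finset G := Finset.univ.filter (fun u => IsConj t u)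
  have hI : ∀ x, x ∈ I ↔ IsConj t x := by intro x; simp [I]
  have hI2 : ∀ x, x ∈ I ↔ x * x = 1 ∧ x ≠ 1 := by
    intro x
    rw [hI]
    constructor
    · intro h
      obtain ⟨c, rfl⟩ := isConj_iff.1 h
      constructor
      · have : c * t * c⁻¹ * (c * t * c⁻¹) = c * (t * t) * c⁻¹ := by group
        rw [this, htt]; group
      · intro h2
        apply ht1
        have : t = c⁻¹ * (c * t * c⁻¹) * c := by group
        rw [this, h2]; group
    · rintro ⟨h1, h2⟩; exact hconj x h1 h2
  set m : ℕ := I.card with hm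
  set q : ℕ := Nat.card C with hqdef
  have hqpos : 0 < q := Nat.card_pos
  have hGm : Nat.card G = 2 * q * m := by
    have h1 := sum_conj_eq (A := ℕ) t (fun _ => 1)
    simp only [Finset.sum_const, smul_eq_mul, mul_one, Finset.card_univ] at h1
    rw [← Nat.card_eq_fintype_card, hCt, hNcard] at h1
    exact h1
  have hmpos : 0 < m := by
    rcases Nat.eq_zero_or_pos m with h | h
    · rw [h, mul_zero] at hGm
      exact absurd hGm Nat.card_pos.ne'
    · exact h
  -- β
  let β : G → ℕ := fun x => (I.filter (fun u => u⁻¹ * x ∈ I)).card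
  have hβ1 : β 1 = m := by
    show (I.filter (fun u => u⁻¹ * 1 ∈ I)).card = m
    congr 1
    apply Finset.filter_true_of_mem
    intro u hu
    rw [mul_one]
    have := (hI2 u).1 hu
    rw [inv_eq_of_mul_eq_one_left this.1]; exact hu
  -- elements of N \ C
  let D : Finset G := Finset.univ.filter (fun s => s ∈ N ∧ s ∉ C)
  have hD : D.card = q := by
    have h1 : (Finset.univ.filter (fun s => s ∈ N)).card = 2 * q := by
      rw [← hNcard, Nat.card_eq_fintype_card, Fintype.card_subtype]
    have h2 : (Finset.univ.filter (fun s => s ∈ C)).card = q := by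
      rw [hqdef, Nat.card_eq_fintype_card, Fintype.card_subtype]
    have h3 : D = (Finset.univ.filter (fun s => s ∈ N)) \ (Finset.univ.filter (fun s => s ∈ C)) := by
      ext s; simp [D]
    rw [h3, Finset.card_sdiff_of_subset, h1, h2]
    · omega
    · intro s hs
      simp only [Finset.mem_filter, Finset.mem_univ, true_and] at hs ⊢
      exact hCN hs
  have hβC : ∀ x ∈ C, x ≠ 1 → β x = q := by
    intro x hx hx1
    rw [← hD]
    show (I.filter (fun u => u⁻¹ * x ∈ I)).card = D.card
    congr 1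
    ext u
    simp only [Finset.mem_filter, D, Finset.mem_univ, true_and]
    constructor
    · rintro ⟨hu, hux⟩
      rw [hI2] at hu hux
      have huinv : u⁻¹ = u := inv_eq_of_mul_eq_one_left hu.1
      rw [huinv] at hux
      have h1 : u * x * u⁻¹ = x⁻¹ := by
        rw [huinv]
        apply eq_inv_of_mul_eq_one_left
        rw [← hux.1]; group
      have huN : u ∈ N := hTI u x hx (by rw [h1]; exact C.inv_mem hx) hx1
      refine ⟨huN, ?_⟩
      intro huC
      rcases huniq u huC hu.1 with h2 | h2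
      · exact hu.2 h2
      · rcases huniq (u * x) (C.mul_mem huC hx) hux.1 with h3 | h3
        · exact hux.2 h3
        · rw [h2] at h3
          exact hx1 (mul_eq_left.1 h3)
    · rintro ⟨huN, huC⟩
      have h1 := hsq u huN huC
      have huinv : u⁻¹ = u := inv_eq_of_mul_eq_one_left h1
      refine ⟨(hI2 u).2 ⟨h1, fun h => huC (h ▸ C.one_mem)⟩, (hI2 _).2 ⟨?_, ?_⟩⟩
      · apply hsq
        · exact N.mul_mem (N.inv_mem huN) (hCN hx)
        · intro h; exact huC (by
            have h2 := C.mul_mem h (C.inv_mem hx)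
            rw [mul_inv_cancel_right] at h2
            exact (C.inv_mem_iff).1 h2)
      · intro h
        apply huC
        have h2 : u = x := (inv_mul_eq_one.1 h)
        rw [h2]; exact hx
  have hIconj : ∀ g x, g * x * g⁻¹ ∈ I ↔ x ∈ I := by
    intro g x
    rw [hI, hI]
    constructor
    · intro h; exact h.trans (isConj_iff.2 ⟨g⁻¹, by group⟩)
    · intro h; exact h.trans (isConj_iff.2 ⟨g, rfl⟩)
  have hβconj : ∀ g x, β (g * x * g⁻¹) = β x := by
    intro g x
    show (I.filter (fun u => u⁻¹ * (g * x * g⁻¹) ∈ I)).card = (I.filter (fun u => u⁻¹ * x ∈ I)).card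
    symm
    apply Finset.card_bij (fun u _ => g * u * g⁻¹)
    · intro u hu
      rw [Finset.mem_filter] at hu ⊢
      refine ⟨(hIconj _ _).2 hu.1, ?_⟩
      have : (g * u * g⁻¹)⁻¹ * (g * x * g⁻¹) = g * (u⁻¹ * x) * g⁻¹ := by group
      rw [this]; exact (hIconj _ _).2 hu.2
    · intro u _ v _ h
      exact mul_left_cancel (mul_right_cancel h)
    · intro v hv
      rw [Finset.mem_filter] at hv
      refine ⟨g⁻¹ * v * g, ?_, by group⟩
      rw [Finset.mem_filter]
      constructor
      · rw [← hIconj g]; have : g * (g⁻¹ * v * g) * g⁻¹ = v := by group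
        rw [this]; exact hv.1
      · rw [← hIconj g]
        have : g * ((g⁻¹ * v * g)⁻¹ * x) * g⁻¹ = v⁻¹ * (g * x * g⁻¹) := by group
        rw [this]; exact hv.2
  let Z : Finset G := Finset.univ.filter (fun x => x ≠ 1 ∧ ∃ g, g * x * g⁻¹ ∈ C)
  have hβZ : ∀ x ∈ Z, β x = q := by
    intro x hx
    obtain ⟨hx1, g, hg⟩ := (Finset.mem_filter.1 hx).2
    rw [← hβconj g x]
    apply hβC _ hg
    intro h
    apply hx1
    have : x = g⁻¹ * (g * x * g⁻¹) * g := by group
    rw [this, h]; group
  have hβ0 : ∀ x, x ≠ 1 → x ∉ Z → β x = 0 := by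
    intro x hx1 hx
    rw [Finset.card_eq_zero, Finset.filter_eq_empty_iff]
    intro u hu hux
    apply hx
    rw [Finset.mem_filter]
    refine ⟨Finset.mem_univ _, hx1, ?_⟩
    rw [hI2] at hu hux
    obtain ⟨g, hg⟩ := hprod u (u⁻¹ * x) hu.1 hux.1 (by
      intro h
      apply hx1
      have h2 : u * u = x := by
        nth_rewrite 2 [h]; group
      rw [← h2]; exact hu.1) hu.2 hux.2
    refine ⟨g, ?_⟩
    rw [mul_inv_cancel_left] at hg; exact hg
  -- sum of β
  have hsumβ : ∀ F : G → ℂ, ∑ u ∈ I, ∑ v ∈ I, F (u * v) = ∑ x : G, (β x : ℂ) * F x := fun F => sum_pair_eq I F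
  have hcount1 : (m : ℤ) * m = m + q * Z.card := by
    have h1 := hsumβ (fun _ => 1)
    simp only [Finset.sum_const, nsmul_eq_mul, mul_one] at h1
    have h2 : ∑ x : G, (β x : ℂ) = (m : ℂ) + q * Z.card := by
      have h3 : ∀ x : G, (β x : ℂ) = (if x = 1 then (m : ℂ) else 0) + (if x ∈ Z then (q : ℂ) else 0) := by
        intro x
        by_cases hx1 : x = 1
        · subst hx1
          rw [if_pos rfl, if_neg (by simp [Z]), hβ1, add_zero]
        · rw [if_neg hx1, zero_add]
          by_cases hxZ : x ∈ Z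
          · rw [if_pos hxZ, hβZ x hxZ]
          · rw [if_neg hxZ, hβ0 x hx1 hxZ]; simp
      rw [Finset.sum_congr rfl (fun x _ => h3 x), Finset.sum_add_distrib, Finset.sum_ite_eq' Finset.univ (1 : G) (fun _ => (m : ℂ))]
      rw [if_pos (Finset.mem_univ _), ← Finset.sum_filter, Finset.sum_const, nsmul_eq_mul]
      have : Finset.univ.filter (fun x => x ∈ Z) = Z := by ext x; simp
      rw [this]; ring
    rw [h2] at h1
    have h4 : (m : ℂ) * m = m + q * Z.card := by rw [← h1]
    exact_mod_cast h4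
  have hcount2 : (Nat.card G : ℤ) * q = Nat.card G + 2 * q * Z.card := by
    have h1 : ∑ g : G, (Finset.univ.filter (fun x => g * x * g⁻¹ ∈ C)).card = Nat.card G * q := by
      have h2 : ∀ g : G, (Finset.univ.filter (fun x => g * x * g⁻¹ ∈ C)).card = q := by
        intro g
        have h3 : q = (Finset.univ.filter (fun s => s ∈ C)).card := by
          rw [hqdef, Nat.card_eq_fintype_card, Fintype.card_subtype]
        rw [h3]
        apply Finset.card_bij (fun x _ => g * x * g⁻¹)
        · intro x hx; simpa using hx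
        · intro x _ y _ h; exact mul_left_cancel (mul_right_cancel h)
        · intro y hy
          refine ⟨g⁻¹ * y * g, ?_, by group⟩
          have : g * (g⁻¹ * y * g) * g⁻¹ = y := by group
          simp only [Finset.mem_filter, Finset.mem_univ, true_and, this]
          simpa using hy
      rw [Finset.sum_congr rfl (fun g _ => h2 g), Finset.sum_const, Finset.card_univ, ← Nat.card_eq_fintype_card, smul_eq_mul]
    have h4 : ∑ g : G, (Finset.univ.filter (fun x => g * x * g⁻¹ ∈ C)).card = ∑ x : G, (Finset.univ.filter (fun g => g * x * g⁻¹ ∈ C)).card := by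
      simp only [Finset.card_filter]
      exact Finset.sum_comm
    have h5 : ∀ x : G, (Finset.univ.filter (fun g => g * x * g⁻¹ ∈ C)).card = (if x = 1 then Nat.card G else 0) + (if x ∈ Z then 2 * q else 0) := by
      intro x
      by_cases hx1 : x = 1
      · subst hx1
        rw [if_pos rfl, if_neg (by simp [Z]), add_zero, Finset.filter_true_of_mem, Finset.card_univ, Nat.card_eq_fintype_card]
        intro g _; simp [C.one_mem]
      · rw [if_neg hx1, zero_add]
        by_cases hxZ : x ∈ Z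
        · rw [if_pos hxZ]
          obtain ⟨_, g0, hg0⟩ := (Finset.mem_filter.1 hxZ).2
          have h6 : 2 * q = (Finset.univ.filter (fun s => s ∈ N)).card := by
            rw [← hNcard, Nat.card_eq_fintype_card, Fintype.card_subtype]
          rw [h6]
          apply Finset.card_bij (fun g _ => g * g0⁻¹)
          · intro g hg
            simp only [Finset.mem_filter, Finset.mem_univ, true_and] at hg ⊢
            apply hTI _ (g0 * x * g0⁻¹) hg0
            · have : g * g0⁻¹ * (g0 * x * g0⁻¹) * (g * g0⁻¹)⁻¹ = g * x * g⁻¹ := by group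
              rw [this]; exact hg
            · intro h
              apply hx1
              have : x = g0⁻¹ * (g0 * x * g0⁻¹) * g0 := by group
              rw [this, h]; group
          · intro g _ h _ hh; exact mul_right_cancel hh
          · intro s hs
            refine ⟨s * g0, ?_, by group⟩
            simp only [Finset.mem_filter, Finset.mem_univ, true_and] at hs ⊢
            have := hnorm s hs _ hg0
            have h7 : s * g0 * x * (s * g0)⁻¹ = s * (g0 * x * g0⁻¹) * s⁻¹ := by group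
            rw [h7]; exact this
        · rw [if_neg hxZ, Finset.card_eq_zero, Finset.filter_eq_empty_iff]
          intro g _ hg
          apply hxZ
          rw [Finset.mem_filter]
          exact ⟨Finset.mem_univ _, hx1, g, hg⟩
    rw [h4, Finset.sum_congr rfl (fun x _ => h5 x), Finset.sum_add_distrib, Finset.sum_ite_eq' Finset.univ (1 : G) (fun _ => Nat.card G),
      if_pos (Finset.mem_univ _), ← Finset.sum_filter, Finset.sum_const, smul_eq_mul] at h1
    have : Finset.univ.filter (fun x => x ∈ Z) = Z := by ext x; simp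
    rw [this] at h1
    have h8 : Nat.card G * q = Nat.card G + 2 * q * Z.card := by rw [← h1]; ring
    exact_mod_cast h8
  have hmq : (m : ℤ) = (q : ℤ) ^ 2 - q + 1 := by
    have hG' : (Nat.card G : ℤ) = 2 * q * m := by exact_mod_cast hGm
    rw [hG'] at hcount2
    have hq0 : (2 * q : ℤ) ≠ 0 := by positivity
    have h1 : (m : ℤ) * q = m + Z.card := by
      apply mul_left_cancel₀ hq0; linarith [hcount2]
    have hm0 : (m : ℤ) ≠ 0 := by positivity
    apply mul_left_cancel₀ hm0
    have h2 : (Z.card : ℤ) = m * q - m := by linarith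
    rw [hcount1, h2]; ring
  -- the virtual character
  let ψ : C → ℂ := fun c => 1 - (lam c : ℂ)
  let θ : G → ℂ := indFun C ψ
  let T : IrrCharacter C := trivIrr C
  let L : IrrCharacter C := ⟨fun c => (lam c : ℂ), isIrrCharacter_hom lam⟩
  let L' : IrrCharacter C := ⟨fun c => ((lam⁻¹ : C →* ℂˣ) c : ℂ), isIrrCharacter_hom (lam⁻¹)⟩
  have hcoe : ∀ (a b : C →* ℂˣ), (∀ c, (a c : ℂ) = b c) → a = b := by
    intro a b h; apply MonoidHom.ext; intro c; exact Units.ext (h c)
  have hTL : T ≠ L := by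
    intro h; apply hl1
    apply hcoe; intro c
    have := congrArg (fun χ : IrrCharacter C => (χ : C → ℂ) c) h
    exact this.symm
  have hTL' : T ≠ L' := by
    intro h; apply hl1
    have h1 : lam⁻¹ = 1 := by
      apply hcoe; intro c
      have := congrArg (fun χ : IrrCharacter C => (χ : C → ℂ) c) h
      exact this.symm
    apply MonoidHom.ext; intro c
    have h2 := congrArg (fun f : C →* ℂˣ => f c) h1
    simp only [MonoidHom.inv_apply, MonoidHom.one_apply, inv_eq_one] at h2
    rw [h2]; rfl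
  have hLL' : L ≠ L' := by
    intro h; apply hl2
    apply hcoe; intro c
    exact congrArg (fun χ : IrrCharacter C => (χ : C → ℂ) c) h
  have hψ : ψ = (T : C → ℂ) - (L : C → ℂ) := rfl
  have hψgen : IsGeneralizedCharacter C ψ :=
    ⟨(T : C → ℂ), (L : C → ℂ), irr_isCharacter T, irr_isCharacter L, hψ⟩
  have hθgen : IsGeneralizedCharacter G θ := isGeneralized_indFun C hψgen
  have hθcf : IsClassFunction G θ := indFun_classFun C ψ
  have hq0 : (q : ℂ) ≠ 0 := by exact_mod_cast hqpos.ne'
  have hθC : ∀ c : C, θ c = 2 - (lam c : ℂ) - (lam c⁻¹ : ℂ) := by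
    intro c
    by_cases hc1 : c = 1
    · subst hc1
      show (Nat.card C : ℂ)⁻¹ * ∑ x : G, extendByZero C ψ (x⁻¹ * ((1 : C) : G) * x) = _
      have : ∀ x : G, extendByZero C ψ (x⁻¹ * ((1 : C) : G) * x) = 0 := by
        intro x
        have h1 : x⁻¹ * ((1 : C) : G) * x = ((1 : C) : G) := by simp
        rw [h1, extendByZero_mem]
        simp [ψ]
      rw [Finset.sum_congr rfl (fun x _ => this x)]
      simp; norm_num
    · have hc1' : (c : G) ≠ 1 := fun h => hc1 (Subtype.ext h)
      show (Nat.card C : ℂ)⁻¹ * ∑ x : G, extendByZero C ψ (x⁻¹ * (c : G) * x) = _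
      have h1 : ∀ x : G, extendByZero C ψ (x⁻¹ * (c : G) * x) = (if x ∈ C then ψ c else 0) + (if x ∈ D then ψ c⁻¹ else 0) := by
        intro x
        by_cases hxC : x ∈ C
        · have h2 : x ∉ D := by simp [D, hxC]
          rw [if_pos hxC, if_neg h2, add_zero]
          have h3 : x⁻¹ * (c : G) * x = c := by
            rw [mul_assoc, hcomm c c.2 x hxC]; group
          rw [h3, extendByZero_mem]
        · rw [if_neg hxC, zero_add]
          by_cases hxN : x ∈ N
          · have h2 : x ∈ D := by simp [D, hxC, hxN]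
            rw [if_pos h2]
            have h3 : x⁻¹ * (c : G) * x = ((c⁻¹ : C) : G) := by
              have := hinv x⁻¹ (N.inv_mem hxN) (fun h => hxC ((C.inv_mem_iff).1 h)) c c.2
              rw [inv_inv] at this; rw [this]; rfl
            rw [h3, extendByZero_mem]
          · have h2 : x ∉ D := by simp [D, hxN]
            rw [if_neg h2]
            apply extendByZero_not_mem
            intro h3
            apply hxN
            have := hTI x⁻¹ c c.2 (by rw [inv_inv]; exact h3) hc1'
            exact (N.inv_mem_iff).1 this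
      rw [Finset.sum_congr rfl (fun x _ => h1 x), Finset.sum_add_distrib, ← Finset.sum_filter, ← Finset.sum_filter,
        Finset.sum_const, Finset.sum_const]
      have h4 : (Finset.univ.filter (fun s => s ∈ C)).card = q := by
        rw [hqdef, Nat.card_eq_fintype_card, Fintype.card_subtype]
      have h5 : Finset.univ.filter (fun s => s ∈ D) = D := by ext x; simp
      rw [h4, h5, hD, nsmul_eq_mul, nsmul_eq_mul, ← hqdef]
      simp only [ψ]
      field_simp
      ring
  have hθrestr : (fun c : C => θ c) = (2 : ℂ) • (T : C → ℂ) - (L : C → ℂ) - (L' : C → ℂ) := by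
    funext c
    rw [hθC c]
    show _ = 2 * (1 : ℂ) - (lam c : ℂ) - ((lam⁻¹ : C →* ℂˣ) c : ℂ)
    rw [mul_one, MonoidHom.inv_apply, map_inv]
  have hTT := classInner_irr_self T
  have hLLs := classInner_irr_self L
  have hnorm3 : classInner θ θ = 3 := by
    have h1 : classInner θ (indFun C ψ) = classInner (fun c : C => θ c) ψ := frobenius_reciprocity' C ψ hθcf
    show classInner θ (indFun C ψ) = 3
    rw [h1, hθrestr, hψ]
    simp only [classInner_sub_left, classInner_sub_right, classInner_smul_left]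
    rw [hTT, hLLs, classInner_irr_ne hTL, classInner_irr_ne hTL.symm, classInner_irr_ne hTL'.symm, classInner_irr_ne hLL'.symm]
    norm_num
  have hone : classInner θ (fun _ => 1) = 1 := by
    have h1 := frobenius_reciprocity C ψ (χ := fun _ => (1 : ℂ)) (fun _ _ => rfl)
    show classInner (indFun C ψ) (fun _ => 1) = 1
    rw [h1]
    show classInner ψ (T : C → ℂ) = 1
    rw [hψ, classInner_sub_left, hTT, classInner_irr_ne hTL.symm, sub_zero]
  have hθ1 : θ 1 = 0 := by
    have := hθC 1
    rw [OneMemClass.coe_one] at this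
    rw [this]; simp; norm_num
  have hθt : θ t = 0 := by
    have := hθC ⟨t, htC⟩
    simp only at this
    rw [this, map_inv, hlt]; simp; norm_num
  have hθ0 : ∀ x, x ≠ 1 → x ∉ Z → θ x = 0 := by
    intro x hx1 hx
    show (Nat.card C : ℂ)⁻¹ * ∑ g : G, extendByZero C ψ (g⁻¹ * x * g) = 0
    have : ∀ g : G, extendByZero C ψ (g⁻¹ * x * g) = 0 := by
      intro g
      apply extendByZero_not_mem
      intro h
      apply hx
      rw [Finset.mem_filter]
      exact ⟨Finset.mem_univ _, hx1, g⁻¹, by rw [inv_inv]; exact h⟩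
    rw [Finset.sum_congr rfl (fun x _ => this x)]; simp
  obtain ⟨χ₁, χ₂, a1, a2, hχ1, hχ2, hχ12, ha1, ha2, hθe⟩ := norm_three hθgen hnorm3 hone
  -- degrees
  have hdeg : ∀ χ : IrrCharacter G, (χ : G → ℂ) 1 = ((charDegree (χ : G → ℂ) : ℤ) : ℂ) := by
    intro χ; rw [IsCharacter.one_eq_charDegree (irr_isCharacter χ)]; simp
  have hdegpos : ∀ χ : IrrCharacter G, 0 < (charDegree (χ : G → ℂ) : ℤ) := by
    intro χ; exact_mod_cast charDegree_pos χ.2
  have hval : ∀ χ : IrrCharacter G, ∃ e : ℤ, (χ : G → ℂ) t = e := fun χ => char_invol_int (irr_isCharacter χ) htt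
  choose ev hev using hval
  -- main equation
  have hB : ∀ χ : IrrCharacter G, (∑ u ∈ I, ∑ v ∈ I, (χ : G → ℂ) (u * v)) * (χ : G → ℂ) 1 = (m : ℂ) * m * (ev χ) * (ev χ) := by
    intro χ
    have := sum_class_mul χ.2 t t I I hI hI
    rw [this, hev]
  have hmain : (m : ℂ) * m + a1 * (∑ u ∈ I, ∑ v ∈ I, (χ₁ : G → ℂ) (u * v)) + a2 * (∑ u ∈ I, ∑ v ∈ I, (χ₂ : G → ℂ) (u * v)) = q * (2 * q * m) := by
    have h1 := hsumβ θ
    have h2 : ∑ x : G, (β x : ℂ) * θ x = q * (2 * q * m) := by
      have h3 : ∀ x : G, (β x : ℂ) * θ x = q * θ x := by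
        intro x
        by_cases hx1 : x = 1
        · rw [hx1, hθ1]; simp
        · by_cases hxZ : x ∈ Z
          · rw [hβZ x hxZ]
          · rw [hθ0 x hx1 hxZ]; simp
      rw [Finset.sum_congr rfl (fun x _ => h3 x), ← Finset.mul_sum]
      have h4 : ∑ x : G, θ x = Nat.card G := by
        have h5 := hone
        rw [classInner_def] at h5
        have hG : (Nat.card G : ℂ) ≠ 0 := by exact_mod_cast Nat.card_pos.ne'
        simp only [map_one, mul_one] at h5
        field_simp at h5
        exact h5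
      rw [h4, hGm]; push_cast; ring
    rw [← h2, ← h1]
    have h6 : ∑ u ∈ I, ∑ v ∈ I, θ (u * v) = ∑ u ∈ I, ∑ v ∈ I, (1 + a1 * (χ₁ : G → ℂ) (u * v) + a2 * (χ₂ : G → ℂ) (u * v)) := by
      apply Finset.sum_congr rfl; intro u _; apply Finset.sum_congr rfl; intro v _; exact hθe _
    rw [h6]
    simp only [Finset.sum_add_distrib, Finset.sum_const, nsmul_eq_mul, mul_one, Finset.mul_sum]
    rw [← hm]
  have hbound : ∀ χ : IrrCharacter G, χ ≠ trivIrr G → (ev χ) ^ 2 + 1 ≤ 2 * (q : ℤ) := by
    intro χ hχ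
    have h1 := second_orthogonality t t
    rw [if_pos (IsConj.refl t), hCt, hNcard] at h1
    have h2 : ∀ φ : IrrCharacter G, (φ : G → ℂ) t * conj ((φ : G → ℂ) t) = (((ev φ) ^ 2 : ℤ) : ℂ) := by
      intro φ; rw [hev, map_intCast]; push_cast; ring
    rw [Finset.sum_congr rfl (fun φ _ => h2 φ)] at h1
    have h3 : ∑ φ : IrrCharacter G, (ev φ) ^ 2 = 2 * (q : ℤ) := by exact_mod_cast h1
    rw [← h3]
    have h4 : ev (trivIrr G) = 1 := by
      have := hev (trivIrr G)
      have h5 : ((trivIrr G : IrrCharacter G) : G → ℂ) t = 1 := rfl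
      rw [h5] at this
      exact_mod_cast this.symm
    calc (ev χ) ^ 2 + 1 = ∑ φ ∈ ({χ, trivIrr G} : Finset (IrrCharacter G)), (ev φ) ^ 2 := by
          rw [Finset.sum_insert (by simpa using hχ), Finset.sum_singleton, h4]; norm_num
      _ ≤ _ := Finset.sum_le_sum_of_subset_of_nonneg (Finset.subset_univ _) (fun _ _ _ => sq_nonneg _)
  -- final contradiction, symmetric form
  have key : ∀ χ φ : IrrCharacter G, χ ≠ trivIrr G → (∀ g, θ g = 1 + (χ : G → ℂ) g - (φ : G → ℂ) g) →
      ((m : ℂ) * m + (∑ u ∈ I, ∑ v ∈ I, (χ : G → ℂ) (u * v)) - (∑ u ∈ I, ∑ v ∈ I, (φ : G → ℂ) (u * v)) = q * (2 * q * m)) → False := by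
    intro χ φ hχ hθe' hmain'
    set f : ℤ := (charDegree (χ : G → ℂ) : ℤ) with hf
    have hfpos : 0 < f := hdegpos χ
    have hφ1 : (φ : G → ℂ) 1 = (f : ℂ) + 1 := by
      have := hθe' 1
      rw [hθ1, hdeg χ, ← hf] at this
      linear_combination this
    have hφt : (ev φ : ℂ) = 1 + ev χ := by
      have := hθe' t
      rw [hθt, hev, hev] at this
      linear_combination this
    have hφt' : ev φ = 1 + ev χ := by exact_mod_cast hφt
    have hB1 := hB χ
    have hB2 := hB φ
    rw [hdeg χ, ← hf] at hB1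
    rw [hφ1, hφt] at hB2
    have hfc : (f : ℂ) ≠ 0 := by exact_mod_cast hfpos.ne'
    have hfc1 : (f : ℂ) + 1 ≠ 0 := by
      have : (f + 1 : ℤ) ≠ 0 := by linarith
      exact_mod_cast this
    apply final_arith q m f (ev χ) a ha (by exact_mod_cast hq) hmq hfpos _ (hbound χ hχ)
    have hmC : (m : ℂ) ≠ 0 := by exact_mod_cast hmpos.ne'
    have h1 : (m : ℂ) * ((m : ℂ) * ((f : ℂ) - ev χ) ^ 2) = (m : ℂ) * (2 * (q : ℂ) ^ 2 * (f * (f + 1))) := by
      linear_combination (f : ℂ) * (f + 1) * hmain' - ((f : ℂ) + 1) * hB1 + (f : ℂ) * hB2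
    have h2 := mul_left_cancel₀ hmC h1
    exact_mod_cast h2
  -- signs
  have hs1 : (1 : ℂ) + a1 * (χ₁ : G → ℂ) 1 + a2 * (χ₂ : G → ℂ) 1 = 0 := by rw [← hθe 1, hθ1]
  rw [hdeg, hdeg] at hs1
  have hs2 : (1 : ℤ) + a1 * (charDegree (χ₁ : G → ℂ) : ℤ) + a2 * (charDegree (χ₂ : G → ℂ) : ℤ) = 0 := by exact_mod_cast hs1
  have hp1 := hdegpos χ₁
  have hp2 := hdegpos χ₂
  rcases ha1 with h1 | h1 <;> rcases ha2 with h2 | h2
  · rw [h1, h2] at hs2; linarith
  · apply key χ₁ χ₂ hχ1
    · intro g; rw [hθe g, h1, h2]; push_cast; ring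
    · rw [← hmain, h1, h2]; push_cast; ring
  · apply key χ₂ χ₁ hχ2
    · intro g; rw [hθe g, h1, h2]; push_cast; ring
    · rw [← hmain, h1, h2]; push_cast; ring
  · -- 1 = f1 + f2 impossible
    rw [h1, h2] at hs2; linarith

end Cfsg.Agent.H2
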