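import Cfsg.Agent.L0.Fus.Well4
import Cfsg.Agent.H2.JWeak

set_option autoImplicit false
set_option linter.unusedSectionVars false
set_option linter.unusedSimpArgs false
set_option linter.unusedVariables false
set_option linter.style.haveILetI false

/-! The weak closure theorem for functors on section-free fusion systems (helper2, adapted from the lead's Well4). -/

namespace Cfsg.Agent.H2
open Cfsg Cfsg.Agent.L0 Cfsg.Agent.L0.Fus Cfsg.FusionSystem

universe u v w

section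
theorem weak_closure_free {p : ℕ} [Fact p.Prime] (W : WFun.{u} p) {H : Type w} [Group H]
    (hWZ : ∀ (Ω : Type u) [Group Ω] (T : Subgroup Ω) [Finite T], IsPGroup p T → ∀ z ∈ T, (∀ s ∈ T, s * z = z * s) → z ∈ W.W T)
    (C : ∀ (Ω : Type u) [Group Ω], Subgroup Ω → Ω → Prop)
    (hC1 : ∀ (Ω : Type u) [Group Ω] (S T : Subgroup Ω) (z : Ω), T ≤ S → (∀ s ∈ S, (∀ x ∈ S, x * s = s * x) → s ∈ T) → C Ω S z → C Ω T z)
    (hC2 : ∀ (Ω Ω' : Type u) [Group Ω] [Group Ω'] (S : Subgroup Ω) (θ : S →* Ω') (z : Ω) (hz : z ∈ S), C Ω S z → C Ω' θ.range (θ ⟨z, hz⟩))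
    (hC : ∀ (G : Type u) [Group G] [Finite G] (P : Sylow p G), ∀ z ∈ Cfsg.pCore p G, C G P z →
      Subgroup.centralizer ((Cfsg.pCore p G : Subgroup G) : Set G) ≤ Cfsg.pCore p G → (p ≠ 2 ∨ ¬ Involves H G) →
      (∀ g ∈ Subgroup.normalizer (W.W (P : Subgroup G) : Set G), g * z = z * g) → ∀ g : G, g * z = z * g) :
    ∀ (Ω : Type u) [Group Ω] (S : Subgroup Ω) [Finite S] (F : FusionSystem S), IsPGroup p S → F.IsSaturated p →
      (p ≠ 2 ∨ F.IsSectionFree p H) → ∀ z ∈ S, C Ω S z → (∀ (P : Subgroup Ω) (φ : P →* Ω), φ ∈ F.normalizerHom (W.W S) P → ∀ h : z ∈ P, φ ⟨z, h⟩ = z) → Fixes F z := by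
  apply fusion_induction
  intro Ω _ S _ F IH hS hF hfree z hz hCz hloc
  have hWS : W.W S ≤ S := W.le S
  have hWn := W.normalizer_self hS
  have hnS : normalizerIn S (W.W S) = S := inf_eq_left.mpr hWn
  by_cases hS1 : S = ⊥
  · intro P φ hφ hzP
    have : z = 1 := by rw [hS1] at hz; exact Subgroup.mem_bot.mp hz
    subst this
    exact map_one φ
  obtain ⟨N, hN⟩ := exists_normalizerSystem F hWS
  have hNF : N.IsSubsystemOf F := fun P φ hφ => by rw [hN P] at hφ; exact hφ.1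
  have hNs := normalizerSystem_saturated hS hF (fullyNormalized_of_le_normalizer hWS hWn) hN
  have hNfix : Fixes N z := fun P φ hφ h => hloc P φ (by rw [← hN P]; exact hφ) h
  have hcomm : ∀ s ∈ S, s * z = z * s := by
    have := hNfix.comm (S := normalizerIn S (W.W S)) (by rw [hnS]; exact hz)
    rwa [hnS] at this
  obtain ⟨D, hD⟩ := exists_cent (F := F) hz hcomm
  suffices hfin : F ≤ D from fun P φ hφ h => fixes_of_le_cent hD P φ (hfin P hφ) h
  have hloc0 : LocIn F D (W.W S) := fun Y φ hφ => by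
    rw [← hN Y] at hφ
    exact sub_cent (T := normalizerIn S (W.W S)) hcomm hD (hS.to_le inf_le_left) hNs hNF (by rw [hnS]; exact hz) hNfix Y hφ
  -- proper normalizer systems
  have hprop : ∀ R : Subgroup Ω, F.IsFullyNormalized R → ¬ F.IsNormal R → LocIn F D (W.W (normalizerIn S R)) → LocIn F D R := by
    intro R hR hRn hDR
    obtain ⟨E, hE⟩ := exists_normalizerSystem F hR.1
    have hsub : E.IsSubsystemOf F := fun P φ hφ => by rw [hE P] at hφ; exact hφ.1
    have hsm : Smaller E F := smaller_of_sub hsub (fun h => hRn (normal_of_normalizerHom hR.1 fun P φ hφ => by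
      rw [← hE P]; exact h P hφ))
    have hTS : normalizerIn S R ≤ S := inf_le_left
    have hEs := normalizerSystem_saturated hS hF hR hE
    have hzT : z ∈ normalizerIn S R := by
      apply centralizerIn_le_normalizerIn
      exact mem_centralizerIn.mpr ⟨hz, fun x hx => hcomm x (hR.1 hx)⟩
    have h1 : Fixes E z := by
      refine IH Ω (normalizerIn S R) E hsm (hS.to_le hTS) hEs (hfree.imp_right (fun h => sectionFree_normalizer hS hF h hR hE)) z hzT (hC1 Ω S _ z hTS (fun s hs hsc => ?_) hCz) ?_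
      · apply centralizerIn_le_normalizerIn
        exact mem_centralizerIn.mpr ⟨hs, fun x hx => hsc x (hR.1 hx)⟩
      intro P φ hφ hzP
      obtain ⟨h2, h3, h4, ψ, hψ, h5, h6⟩ := hφ
      have hle : normalizerIn (normalizerIn S R) (W.W (normalizerIn S R)) ≤ normalizerIn S (W.W (normalizerIn S R)) :=
        inf_le_inf_right _ hTS
      exact fixes_of_le_cent hD P φ (hDR P ⟨hsub _ h2, h3.trans hle, fun x => hle (h4 x), ψ, hsub _ hψ, h5, h6⟩) hzP
    intro Y φ hφ
    rw [← hE Y] at hφ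
    exact sub_cent (T := normalizerIn S R) hcomm hD (hS.to_le hTS) hEs hsub hzT h1 Y hφ
  by_cases hcore : F.core = ⊥
  · refine le_of_locIn hS hF hS1 D (wpi hS hF D W.W ?_ ?_ ?_ hloc0 ?_)
    · intro T hT hT1
      have := finite_of_le hT
      exact W.ne_bot T (hS.to_le hT) hT1
    · intro T hT; exact W.le T
    · intro T hT; exact W.normalizer hS T hT
    · intro R hR1 hfn hR
      refine hprop R hfn (fun h => hR1 ?_) hR
      exact le_bot_iff.mp (hcore ▸ le_core h)
  have hQ := core_normal F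
  have hQsc := stronglyClosed_of_normal hQ
  have hQn := StronglyClosed.le_normalizer hQsc
  by_cases hQc : centralizerIn S F.core ≤ F.core
  · -- constrained
    obtain ⟨hQc', G, _, ι, hG, hn, hfreeG⟩ := exists_model_free.{u, w} hS hF hQ hQc
    obtain ⟨T, hT⟩ := hG.2.2.1
    have hfin : Finite G := hG.1
    have hinj := hG.2.1.1
    have hzQ : z ∈ F.core := hQc (mem_centralizerIn.mpr ⟨hz, fun x hx => hcomm x (hQ.1 hx)⟩)
    have hQp : IsPGroup p ((F.core.subgroupOf S).map ι) := ((hS.to_subgroup _).map ι)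
    have hzc : ι ⟨z, hz⟩ ∈ pCore p G := le_pCore hQp ⟨⟨z, hz⟩, hzQ, rfl⟩
    have hWiff : ∀ x : S, (x : Ω) ∈ W.W S ↔ ι x ∈ W.W ι.range := fun x => W.iso S ι.range hS (MonoidHom.ofInjective hinj) x
    have h1 : ∀ g : G, g * ι ⟨z, hz⟩ = ι ⟨z, hz⟩ * g := by
      refine hC G T _ hzc (by rw [hT]; exact hC2 Ω G S ι z hz hCz) hG.2.2.2 (hfree.imp_right (fun h => hfreeG h)) ?_
      rw [hT]
      intro g hg
      have hzW : z ∈ W.W S := hWZ Ω S hS z hz hcomm
      -- the induced map on `W(S)`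
      have hval : ∀ x : W.W S, g * ι ⟨x, hWS x.2⟩ * g⁻¹ ∈ ι.range := fun x =>
        W.le _ ((Subgroup.mem_normalizer_iff.mp hg _).mp ((hWiff _).mp x.2))
      choose f hf using hval
      let φ : W.W S →* Ω :=
        { toFun := fun x => f x
          map_one' := by
            have : f 1 = 1 := hinj (by
              rw [hf]
              have h0 : (⟨((1 : W.W S) : Ω), hWS (1 : W.W S).2⟩ : S) = 1 := rfl
              rw [h0]; simp)
            rw [this]; rfl
          map_mul' := fun x y => by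
            have : f (x * y) = f x * f y := hinj (by
              rw [hf, map_mul, hf, hf]
              rw [show (⟨((x * y : W.W S) : Ω), hWS (x * y).2⟩ : S) = ⟨x, hWS x.2⟩ * ⟨y, hWS y.2⟩ from rfl, map_mul]
              group)
            rw [this]; rfl }
      have hφ : φ ∈ F.Hom (W.W S) := (hG.2.1.2 (W.W S) hWS φ (fun x => (f x).2)).mpr ⟨g, fun x => hf x⟩
      have hφW : ∀ x : W.W S, (x : Ω) ∈ W.W S → φ x ∈ W.W S := fun x _ => by
        change ((f x : S) : Ω) ∈ W.W S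
        rw [hWiff, hf]
        exact (Subgroup.mem_normalizer_iff.mp hg _).mp ((hWiff _).mp x.2)
      have h2 := hloc _ φ (mem_normalizerHom_of_ge le_rfl (le_inf hWS (hWS.trans hWn)) hφ hφW) hzW
      have h3 : f ⟨z, hzW⟩ = ⟨z, hz⟩ := Subtype.ext h2
      have h4 := hf ⟨z, hzW⟩
      rw [h3] at h4
      change ι ⟨z, hz⟩ = g * ι ⟨z, hz⟩ * g⁻¹ at h4
      rw [mul_inv_eq_iff_eq_mul.mp h4.symm]
    have hfx : Fixes F z := by
      intro P φ hφ hzP
      have hPS := hom_le F hφ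
      obtain ⟨g, hg⟩ := (hG.2.1.2 P hPS φ (hom_mem F hφ)).mp hφ
      have h2 := hg ⟨z, hzP⟩
      rw [h1 g, mul_inv_cancel_right] at h2
      exact congrArg Subtype.val (hinj h2)
    exact sub_cent hcomm hD hS hF (fun _ _ h => h) hz hfx
  obtain ⟨E₁, hE₁, hE₁s, hE₁F, hE₁free, hE₁aut⟩ := exists_centSystem.{u, w} hS hF hQ
  have hRsc := stronglyClosed_mul_centralizer hS hF hQsc
  have hRn := StronglyClosed.le_normalizer hRsc
  by_cases hE1 : F.IsSubsystemOf E₁
  · -- `Aut_F(Q)` is a `p`-group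
    have hAp : IsPGroup p (F.autGroup F.core) := (isPGroup_autInducedBy hS hQ.1).to_le (hE₁aut hE1)
    obtain ⟨Ω', _, _, θ, E, hE, hEs, hp', hlt, hne⟩ := exists_factor hS hF hQsc
    have hcS : F.core ≠ S := fun h => hQc (by rw [h]; exact inf_le_left)
    have hrange := hE.2.2.1
    -- the preimage of `W(S/Q)`
    have hVn : S ≤ Subgroup.normalizer (preimageAlong θ (W.W (⊤ : Subgroup Ω')) : Set Ω) :=
      preimage_normalized (le_top.trans (W.normalizer_self hp'))
    have hVnot : ¬ F.IsNormal (preimageAlong θ (W.W (⊤ : Subgroup Ω'))) := by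
      intro h
      have h2 := le_core h
      refine W.ne_bot ⊤ hp' (hne hcS) ?_
      rw [eq_bot_iff]
      intro y hy
      have hy' : y ∈ θ.range := by rw [hE.2.2.1]; exact Subgroup.mem_top _
      obtain ⟨s, rfl⟩ := hy'
      rw [Subgroup.mem_bot, hE.2.1]
      exact h2 (mem_preimageAlong.mpr ⟨s.2, hy⟩)
    have hVS : preimageAlong θ (W.W (⊤ : Subgroup Ω')) ≤ S := preimageAlong_le
    have hVloc : LocIn F D (preimageAlong θ (W.W (⊤ : Subgroup Ω'))) := by
      refine hprop _ (fullyNormalized_of_le_normalizer hVS hVn) hVnot ?_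
      have : normalizerIn S (preimageAlong θ (W.W (⊤ : Subgroup Ω'))) = S := inf_eq_left.mpr hVn
      rw [this]; exact hloc0
    have h1 : Fixes E (θ ⟨z, hz⟩) := by
      refine IH Ω' ⊤ E (Or.inl (hlt hcore)) hp' hEs (hfree.imp_right (fun h => sectionFree_factor hS hF h hQ hE)) _ (Subgroup.mem_top _) (by rw [← hrange]; exact hC2 Ω Ω' S θ z hz hCz) ?_
      intro P' φ' hφ' hzP'
      obtain ⟨h2, h3, h4, ψ', hψ', h5, h6⟩ := hφ'
      obtain ⟨-, ψ, hψ, hPS, hψS, hmem, hind⟩ := (hE.2.2.2 _ _).mp hψ'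
      have hzd : z ∈ preimageAlong θ (P' ⊔ W.W (⊤ : Subgroup Ω')) := mem_preimageAlong.mpr ⟨hz, le_sup_left (α := Subgroup Ω') hzP'⟩
      have hVd : preimageAlong θ (W.W (⊤ : Subgroup Ω')) ≤ preimageAlong θ (P' ⊔ W.W (⊤ : Subgroup Ω')) := fun x hx => by
        obtain ⟨h7, h8⟩ := mem_preimageAlong.mp hx
        exact mem_preimageAlong.mpr ⟨h7, le_sup_right (α := Subgroup Ω') h8⟩
      have h7 : ψ ∈ F.normalizerHom (preimageAlong θ (W.W (⊤ : Subgroup Ω'))) (preimageAlong θ (P' ⊔ W.W (⊤ : Subgroup Ω'))) := by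
        refine mem_normalizerHom_of_ge hVd (le_inf hPS (hPS.trans hVn)) hψ fun x hx => ?_
        obtain ⟨h8, h9⟩ := mem_preimageAlong.mp hx
        refine mem_preimageAlong.mpr ⟨hψS x, ?_⟩
        rw [← hind x]
        exact h6.le ⟨_, h9, rfl⟩
      have h8 := fixes_of_le_cent hD _ _ (hVloc _ h7) hzd
      rw [← h5 ⟨_, hzP'⟩]
      have h9 := hind ⟨z, hzd⟩
      have h10 : (⟨ψ ⟨z, hzd⟩, hψS _⟩ : S) = ⟨z, hz⟩ := Subtype.ext h8
      rw [h10] at h9
      exact h9
    have h2 := le_core (normal_preimage hS hF hQ hAp hE (central_isNormal (h1.central hp' hEs (Subgroup.mem_top _))))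
    have hzQ : z ∈ F.core := h2 (mem_preimageAlong.mpr ⟨hz, Subgroup.mem_zpowers _⟩)
    refine sub_cent hcomm hD hS hF (fun _ _ h => h) hz ?_
    intro P φ hφ hzP
    have h3 := hE1 P hφ
    rw [hE₁ P] at h3
    obtain ⟨-, -, -, ψ, hψ, hag, κ, hκ, hψκ⟩ := h3
    obtain ⟨s, hs, hκs⟩ := mem_autInducedBy.mp hκ
    have h4 : φ ⟨z, hzP⟩ = κ ⟨z, hzQ⟩ := by
      rw [← hag, ← hψκ]; rfl
    rw [h4, hκs]
    exact mul_inv_eq_iff_eq_mul.mpr (hcomm s hs)
  · -- generation
    refine le_of_gen hS hF hQ D ?_ ?_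
    · intro Y φ hφ
      rw [← hE₁ Y] at hφ
      have h1 : Fixes E₁ z := by
        refine IH Ω S E₁ (smaller_of_sub hE₁F hE1) hS hE₁s (hfree.imp_right (fun h => hE₁free h)) z hz hCz ?_
        intro P φ hφ hzP
        obtain ⟨h2, h3, h4, ψ, hψ, h5, h6⟩ := hφ
        exact hloc P φ ⟨hE₁F _ h2, h3, h4, ψ, hE₁F _ hψ, h5, h6⟩ hzP
      exact sub_cent hcomm hD hS hE₁s hE₁F hz h1 Y hφ
    · have hnS : normalizerIn S (F.core ⊔ centralizerIn S F.core) = S := inf_eq_left.mpr hRn
      refine hprop _ (fullyNormalized_of_le_normalizer hRsc.1 hRn) (fun h => hQc ?_) ?_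
      · exact le_sup_right.trans (le_core h)
      · rw [hnS]; exact hloc0

theorem center_eq_free {p : ℕ} [Fact p.Prime] (W : WFun.{u} p) {H : Type w} [Group H]
    (hWZ : ∀ (Ω : Type u) [Group Ω] (T : Subgroup Ω) [Finite T], IsPGroup p T → ∀ z ∈ T, (∀ s ∈ T, s * z = z * s) → z ∈ W.W T)
    (hC : ∀ (G : Type u) [Group G] [Finite G] (P : Sylow p G), ∀ z ∈ Cfsg.pCore p G,
      Subgroup.centralizer ((Cfsg.pCore p G : Subgroup G) : Set G) ≤ Cfsg.pCore p G → (p ≠ 2 ∨ ¬ Involves H G) →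
      (∀ g ∈ Subgroup.normalizer (W.W (P : Subgroup G) : Set G), g * z = z * g) → ∀ g : G, g * z = z * g)
    {Ω : Type u} [Group Ω] {S : Subgroup Ω} [Finite S] (hS : IsPGroup p S) (F : FusionSystem S) (hF : F.IsSaturated p) (hfree : p ≠ 2 ∨ F.IsSectionFree p H)
    (N : FusionSystem (normalizerIn S (W.W S))) (hN : F.IsNormalizerSystem (W.W S) N) : N.center = F.center := by
  have hloc := weak_closure_free (H := H) W hWZ (fun _ _ _ _ => True) (fun _ _ _ _ _ _ _ h => h) (fun _ _ _ _ _ _ _ _ h => h)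
    (fun G _ _ P z hz _ => hC G P z hz) Ω S F hS hF hfree
  have hWS : W.W S ≤ S := W.le S
  have hWn := W.normalizer_self hS
  have hNs := normalizerSystem_saturated hS hF (fullyNormalized_of_le_normalizer hWS hWn) hN
  have hT : normalizerIn S (W.W S) = S := inf_eq_left.mpr hWn
  ext z
  rw [mem_center_iff (S := normalizerIn S (W.W S)) (hS.to_le inf_le_left) hNs, mem_center_iff hS hF]
  constructor
  · rintro ⟨h1, h2⟩
    have hz : z ∈ S := h1.1
    exact ⟨hz, hloc z hz trivial fun P φ hφ h => h2 P φ (by rw [hN P]; exact hφ) h⟩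
  · rintro ⟨h1, h2⟩
    refine ⟨by rw [hT]; exact h1, fun P φ hφ h => h2 P φ ?_ h⟩
    rw [hN P] at hφ
    exact hφ.1

end
end Cfsg.Agent.H2
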